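import Cfsg.Agent.OrthDec99.Spread

/-!
Planes: a vector outside the members suffices as soon as there are five members (helper58).
With two members the root element is centred at two opposite values, a third pair of reflections
in a free member correcting the spinor norm; a vector with no free member is first shrunk.
-/

set_option autoImplicit false
set_option linter.unusedSectionVars false

namespace Cfsg.Agent.OrthDec99

open QuadraticMap Cfsg.Agent.UnitaryOrthogonal Cfsg.Agent.OrthStab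
open Cfsg.Agent.Wreath (Nd cut mem_cut finrank_cut Perm)

variable {F : Type*} [Field F] [Finite F] {V : Type*} [AddCommGroup V] [Module F V]
variable [FiniteDimensional F V] {Q : QuadraticForm F V}
variable {t k : ℕ} {D : Fin t → Submodule F V} (hD : Sys Q k D)
variable {M : Subgroup (orth Q)} (hM : ∀ h ∈ eichGroup Q, Perm D h → h ∈ M)
include hD hM

/-- A translation of a reached vector by two opposite values in two members suffices. -/
theorem eichGroup_le_of_pair (hk : k = 2) (hO : Ok Q k D) (ht : 5 ≤ t) {c : F} (hc : c ≠ 0)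
    {a : V} (ha : Reach M D c a) {i l o : Fin t} (hli : i ≠ l) (hoi : o ≠ i) (hol : o ≠ l)
    (hoa : pr hD o a ≠ 0) {d e : V} (hdD : d ∈ D i) (heD : e ∈ D l) (nd : Q d ≠ 0)
    (hde : Q e = -Q d) (ade : polar Q a d = Q d) (aee : polar Q a e = Q e) {h : orth Q}
    (hhM : h ∈ M) (hhP : Perm D h) (hha : h.1 a = a - d - e) : eichGroup Q ≤ M := by
  classical
  have hd : ∀ q, Module.finrank F (D q) = 2 := fun q => by rw [hD.dim, hk]
  have hs4 : ∀ q, ∀ x ∈ D q, x ≠ 0 → Q x = 0 → 4 ≤ Nat.card F := fun q x hx h0 hQ =>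
    le_trans (by norm_num) (hO.plane hk q x hx h0 hQ)
  set ex : Finset (Fin t) := {i, l} with hex
  have hexc : ex.card ≤ 2 := Finset.card_le_two
  have o1 : polar Q d e = 0 := hD.orth i l hli d hdD e heD
  set u := -(d + e) with hu
  have huQ : Q u = 0 := by
    rw [hu, QuadraticMap.map_neg, form_add, o1, hde]; ring
  have hua : polar Q u a = 0 := by
    rw [hu, polar_neg_left, polar_add_left, polar_comm Q d, polar_comm Q e, ade, aee, hde]; ring
  have hW : InW M (c⁻¹ • u) a := InW.of_rel hc ha.norm huQ hua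
    (show Rel M a (a + u) by
      rw [show a + u = h.1 a by rw [hha, hu]; abel]
      exact Reach.rel hD hM hc ha (Reach.map_perm hD hM hc ha hhM hhP))
  set U := c⁻¹ • u with hU
  have hUQ : Q U = 0 := by rw [hU, form_smul, huQ, mul_zero]
  have hUfree : ∀ q, q ∉ ex → pr hD q U = 0 := fun q hq => by
    simp only [hex, Finset.mem_insert, Finset.mem_singleton, not_or] at hq
    rw [hU, pr_smul, hu, ← neg_one_smul F (d + e), pr_smul, pr_add,
      pr_other hD (Ne.symm hq.1) hdD, pr_other hD (Ne.symm hq.2) heD]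
    simp
  have hUi : pr hD i U ≠ 0 := by
    rw [hU, pr_smul, hu, ← neg_one_smul F (d + e), pr_smul, pr_add,
      pr_self hD hdD, pr_other hD hli.symm heD, add_zero, smul_smul]
    exact smul_ne_zero (mul_ne_zero (inv_ne_zero hc) (neg_ne_zero.mpr one_ne_zero))
      fun h0 => nd (by rw [h0, QuadraticMap.map_zero])
  have ho : o ∉ ex := by simp [hex, hoi, hol]
  obtain ⟨o', ho'⟩ := exists_out (insert o ex) (by
    have := Finset.card_insert_le o ex
    omega)
  simp only [Finset.mem_insert, not_or] at ho'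
  have hspare := cov_free hD hM hk hO hUQ (ex := ex) (by omega) hUfree ho
    (cov_of_mem hD hM hk hO hUQ hW (Ne.symm ho'.1) (hUfree o ho) (hUfree o' ho'.2) hoa)
  -- the two singular vectors
  have covf : ∀ {o p : Fin t}, o ∉ ex → p ∉ ex → o ≠ p → ∀ {eo ep : V}, eo ∈ D o → ep ∈ D p →
      Q ep = -Q eo → ∀ q, q ≠ o → q ≠ p → Cov M D (eo + ep) q := by
    intro o p ho hp hop eo ep heo hep hQ q hqo hqp
    have hfQ : Q (eo + ep) = 0 := by
      rw [form_add, hQ, hD.orth o p hop eo heo ep hep]; ring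
    have hzero : ∀ q, q ∉ ({o, p} : Finset (Fin t)) → pr hD q (eo + ep) = 0 := fun q hq => by
      simp only [Finset.mem_insert, Finset.mem_singleton, not_or] at hq
      rw [pr_add, pr_other hD (Ne.symm hq.1) heo, pr_other hD (Ne.symm hq.2) hep, add_zero]
    have hioe : i ∉ ({o, p} : Finset (Fin t)) := by
      simp only [Finset.mem_insert, Finset.mem_singleton, not_or]
      exact ⟨fun h => ho (h ▸ by simp [hex]), fun h => hp (h ▸ by simp [hex])⟩
    have hine : l ∉ ({o, p} : Finset (Fin t)) := by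
      simp only [Finset.mem_insert, Finset.mem_singleton, not_or]
      exact ⟨fun h => ho (h ▸ by simp [hex]), fun h => hp (h ▸ by simp [hex])⟩
    have hfU : InW M (eo + ep) U :=
      ((hspare o ho eo heo).add hUQ (hspare p hp ep hep)).swap hUQ hfQ
    exact cov_free hD hM hk hO hfQ (ex := {o, p})
      (by have : ({o, p} : Finset (Fin t)).card ≤ 2 := Finset.card_le_two; omega) hzero hioe
      (cov_of_mem hD hM hk hO hfQ hfU hli (hzero i hioe) (hzero l hine) hUi) q
      (by simp [hqo, hqp])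
  obtain ⟨p, hp⟩ := exists_out (insert o ex) (by
    have := Finset.card_insert_le o ex
    omega)
  simp only [Finset.mem_insert, not_or] at hp
  obtain ⟨r, hr⟩ := exists_out (insert o (insert p ex)) (by
    have := Finset.card_insert_le o (insert p ex)
    have := Finset.card_insert_le p ex
    omega)
  simp only [Finset.mem_insert, not_or] at hr
  have hop : o ≠ p := Ne.symm hp.1
  have hor : o ≠ r := Ne.symm hr.1
  have hpr : p ≠ r := Ne.symm hr.2.1
  have hie : i ∈ ex := by simp [hex]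
  have hio : i ≠ o := fun h => ho (h ▸ hie)
  have hip : i ≠ p := fun h => hp.2 (h ▸ hie)
  have hir : i ≠ r := fun h => hr.2.2 (h ▸ hie)
  obtain ⟨eo, heo, heoQ⟩ := exists_norm hD o (one_ne_zero (α := F))
  obtain ⟨ep, hep, hepQ⟩ := exists_norm hD p (neg_ne_zero.mpr (one_ne_zero (α := F)))
  have nonperp : ∀ q, ∀ x ∈ D q, Q x ≠ 0 → ∃ x' ∈ D q, Q x' = Q x ∧ polar Q x x' ≠ 0 := by
    intro q x hx hxQ
    by_cases h2 : (2 : F) = 0
    · obtain ⟨x', hx', hx'Q, hn⟩ := exists_norm_indep (hD.ndOn q) (hd q).ge (hs4 q) hx hxQ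
      refine ⟨x', hx', hx'Q, fun h0 => ?_⟩
      obtain ⟨r, hr⟩ := eq_smul_of_perp (hD.ndOn q) (hd q).le hx
        (fun e0 => hxQ (by rw [e0, QuadraticMap.map_zero]))
        (by rw [polar_self_eq, h2, zero_mul]) hx' h0
      exact hn r hr
    · exact ⟨x, hx, rfl, by rw [polar_self_eq]; exact mul_ne_zero h2 hxQ⟩
  obtain ⟨eo', heo', heo'Q, hBo⟩ := nonperp o eo heo (by rw [heoQ]; exact one_ne_zero)
  obtain ⟨ep', hep', hep'Q, hBp⟩ :=
    nonperp p ep hep (by rw [hepQ]; exact neg_ne_zero.mpr one_ne_zero)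
  obtain ⟨er, her, herQ⟩ := exists_norm hD r (neg_ne_zero.mpr (one_ne_zero (α := F)))
  obtain ⟨er', her', her'Q⟩ := exists_norm hD r (one_ne_zero (α := F))
  have hQop : Q ep = -Q eo := by rw [hepQ, heoQ]
  have hQpo : Q eo = -Q ep := by rw [hepQ, heoQ, neg_neg]
  set f := eo + ep with hf
  have hfQ : Q f = 0 := by rw [hf, form_add, hQop, hD.orth o p hop eo heo ep hep]; ring
  have hcf := covf ho hp.2 hop heo hep hQop
  have hfull : Full M f := by
    intro z hz
    set s' := pr hD p z - (polar Q f (pr hD p z) / polar Q eo eo') • (eo' + er) with hs'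
    have h1 : InW M f s' := push hD hM hop hor hpr hio hip hir heo hep heo' her hQop heo'Q
      (by rw [herQ, heoQ]) hBo hcf
      (covf ho hr.2.2 hor heo' her (by rw [herQ, heo'Q, heoQ])) (pr_mem hD p z)
    set w := z - s' with hw
    have hfw : polar Q f w = 0 := by rw [hw, polar_sub_right, hz, h1.1, sub_zero]
    have hwp : pr hD p w = 0 := by
      rw [hw, hs', pr_sub, pr_sub, pr_smul, pr_self hD (pr_mem hD p z), pr_add,
        pr_other hD hop heo', pr_other hD hpr.symm her]
      simp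
    have h2 : InW M f (∑ q, pr hD q w) := InW.sum hfQ fun q _ => by
      by_cases hqp : q = p
      · subst hqp; rw [hwp]; exact InW.zero M f
      by_cases hqo : q = o
      · subst hqo
        have hperp : polar Q eo (pr hD q w) = 0 := by
          have e1 : polar Q f w = polar Q eo (pr hD q w) + polar Q ep (pr hD p w) := by
            rw [hf, polar_add_left, ← polar_pr hD heo, ← polar_pr hD hep]
          rw [hfw, hwp, polar_zero_right, add_zero] at e1
          exact e1.symm
        have h3 := push hD hM hop.symm hpr hor hip hio hir hep heo hep' her' hQpo hep'Q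
          (by rw [her'Q, hepQ, neg_neg]) hBp
          (fun x h1 h2 => add_comm eo ep ▸ hcf x h2 h1)
          (covf hp.2 hr.2.2 hpr hep' her' (by rw [her'Q, hep'Q, hepQ, neg_neg]))
          (pr_mem hD q w)
        rw [add_comm ep eo, ← hf, show polar Q f (pr hD q w) = 0 by
          rw [hf, polar_add_left, hperp, hD.orth p q (Ne.symm hqp) ep hep _ (pr_mem hD q w),
            add_zero], zero_div, zero_smul, sub_zero] at h3
        exact h3
      exact hcf q hqo hqp _ (pr_mem hD q w)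
    rw [sum_pr] at h2
    have := h2.add hfQ h1
    rw [hw, sub_add_cancel] at this
    exact this.2
  obtain ⟨x, hx, hxQ, hox, -⟩ := exists_aniso_skew (hD.ndOn o) (hd o) (hs4 o) heo
    (fun e0 => one_ne_zero (α := F) (by rw [← heoQ, e0, QuadraticMap.map_zero]))
  obtain ⟨y, hy, hyQ⟩ := exists_norm hD i hxQ
  refine done_of_full hD hM hfQ hfull (rf_pair_eq hD hM hx hy hxQ hyQ.symm) ?_
  have hyf : polar Q y f = 0 := by
    rw [hf, polar_add_right, hD.orth i o hio y hy eo heo, hD.orth i p hip y hy ep hep, add_zero]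
  have hxf : polar Q x f = polar Q eo x := by
    rw [hf, polar_add_right, hD.orth o p hop x hx ep hep, add_zero, polar_comm]
  rw [coe_mul_apply, rf_apply_of_polar hyf, rf_apply, hxf, polar_sub_right, polar_smul_right,
    polar_comm Q f x, hxf, polar_self_eq, hfQ, mul_zero, zero_sub, smul_eq_mul]
  exact neg_ne_zero.mpr (mul_ne_zero (mul_ne_zero (inv_ne_zero hxQ) hox) hox)

/-- A vector meeting every member of a family of planes shrinks. -/
theorem exists_shrink (hk : k = 2) (hO : Ok Q k D) (ht : 5 ≤ t) (hsq : ¬ IsSquare (-1 : F))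
    {c : F} (hc : c ≠ 0) {a : V} (ha : Reach M D c a) (hall : ∀ q, pr hD q a ≠ 0) :
    ∃ c' : F, c' ≠ 0 ∧ ∃ b, Reach M D c' b ∧ 3 ≤ (supp hD b).card ∧ ∃ q, pr hD q b = 0 := by
  classical
  have hd : ∀ q, Module.finrank F (D q) = 2 := fun q => by rw [hD.dim, hk]
  have h2 : (2 : F) ≠ 0 := fun h2 => hsq ⟨1, by linear_combination -h2⟩
  let φ : Fin 5 → Fin t := fun j => ⟨j.val, by omega⟩
  have hφ : ∀ {x y : Fin 5}, x ≠ y → φ x ≠ φ y := fun hxy h =>
    hxy (Fin.ext (by simpa [φ] using congrArg Fin.val h))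
  set i := φ 0
  set l := φ 1
  set n := φ 2
  set m := φ 3
  set o := φ 4
  have hil : i ≠ l := hφ (by decide)
  obtain ⟨γ, hγ, ⟨d, hdD, hd1, hd2⟩, e, heD, he1, he2⟩ := exists_pair_values (hD.ndOn i)
    (hD.ndOn l) (hd i) (hd l) (hD.iso i l) (hO.plane hk i) (hO.plane hk l) (pr_mem hD i a) (hall i)
    (pr_mem hD l a) (hall l)
  obtain ⟨δ, hδ, ⟨d', hd'D, hd'1, hd'2⟩, e', he'D, he'1, he'2⟩ := exists_pair_values (hD.ndOn n)
    (hD.ndOn m) (hd n) (hd m) (hD.iso n m) (hO.plane hk n) (hO.plane hk m) (pr_mem hD n a)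
    (hall n) (pr_mem hD m a) (hall m)
  have ade : polar Q a d = Q d := by rw [← pr_polar hD hdD, hd1, hd2]
  have aee : polar Q a e = Q e := by rw [← pr_polar hD heD, he1, he2]
  have ade' : polar Q a d' = Q d' := by rw [← pr_polar hD hd'D, hd'1, hd'2]
  have aee' : polar Q a e' = Q e' := by rw [← pr_polar hD he'D, he'1, he'2]
  have nd : Q d ≠ 0 := by rw [hd2]; exact hγ
  have ne : Q e ≠ 0 := by rw [he2]; exact neg_ne_zero.mpr hγ
  have nd' : Q d' ≠ 0 := by rw [hd'2]; exact hδ
  have ne' : Q e' ≠ 0 := by rw [he'2]; exact neg_ne_zero.mpr hδ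
  have o1 : polar Q d e = 0 := hD.orth i l hil d hdD e heD
  have o2 : polar Q d d' = 0 := hD.orth i n (hφ (by decide)) d hdD d' hd'D
  have o3 : polar Q d e' = 0 := hD.orth i m (hφ (by decide)) d hdD e' he'D
  have o4 : polar Q e d' = 0 := hD.orth l n (hφ (by decide)) e heD d' hd'D
  have o5 : polar Q e e' = 0 := hD.orth l m (hφ (by decide)) e heD e' he'D
  have o6 : polar Q d' e' = 0 := hD.orth n m (hφ (by decide)) d' hd'D e' he'D
  set u := -(d + e + d' + e') with hu
  obtain ⟨h, hhM, hhP, hha⟩ : ∃ h ∈ M, Perm D h ∧ h.1 a = a + u := by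
    have fp : ∀ {q₁ q₂ q₃ q₄ : Fin t} {x₁ x₂ x₃ x₄ : V}, x₁ ∈ D q₁ → x₂ ∈ D q₂ → x₃ ∈ D q₃ →
        x₄ ∈ D q₄ → Perm D (rf Q x₁ * rf Q x₂ * (rf Q x₃ * rf Q x₄)) :=
      fun h1 h2 h3 h4 => (((fix_rf hD h1).mul (fix_rf hD h2)).mul
        ((fix_rf hD h3).mul (fix_rf hD h4))).perm
    by_cases hgd : IsSquare (γ / δ)
    · refine ⟨_, mul_mem (rf_pair hD hM hdD hd'D nd nd' ?_) (rf_pair hD hM heD he'D ne ne' ?_),
        fp hdD hd'D heD he'D, ?_⟩
      · rwa [hd2, hd'2]
      · rwa [he2, he'2, neg_div_neg_eq]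
      · rw [four_apply nd nd' ne ne' ade ade' aee aee' o2 o1 o3 (by rw [polar_comm]; exact o4) o6
          o5, hu]
        abel
    have hsq' : IsSquare (-(γ / δ)) := by
      have := isSquare_div_of_not (neg_ne_zero.mpr (one_ne_zero (α := F))) hgd hsq
      rwa [div_neg, div_one] at this
    refine ⟨_, mul_mem (rf_pair hD hM hdD he'D nd ne' ?_) (rf_pair hD hM heD hd'D ne nd' ?_),
      fp hdD he'D heD hd'D, ?_⟩
    · rwa [hd2, he'2, div_neg]
    · rwa [he2, hd'2, neg_div]
    · rw [four_apply nd ne' ne nd' ade aee' aee ade' o3 o1 o2 (by rw [polar_comm]; exact o5)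
        (by rw [polar_comm]; exact o6) o4, hu]
      abel
  have huQ : Q u = 0 := by
    rw [hu, QuadraticMap.map_neg, form_add, form_add, form_add, polar_add_left, polar_add_left,
      polar_add_left, o1, o2, o3, o4, o5, o6, hd2, he2, hd'2, he'2]
    ring
  have hua : polar Q u a = 0 := by
    rw [hu, polar_neg_left, polar_add_left, polar_add_left, polar_add_left, polar_comm Q d,
      polar_comm Q e, polar_comm Q d', polar_comm Q e', ade, aee, ade', aee', hd2, he2, hd'2,
      he'2]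
    ring
  set U := c⁻¹ • u with hU
  have hUQ : Q U = 0 := by rw [hU, form_smul, huQ, mul_zero]
  have hW : InW M U a := InW.of_rel hc ha.norm huQ hua
    (hha ▸ Reach.rel hD hM hc ha (Reach.map_perm hD hM hc ha hhM hhP))
  have hprU : ∀ q, pr hD q U = (-c⁻¹) • (pr hD q d + pr hD q e + pr hD q d' + pr hD q e') := by
    intro q
    rw [hU, pr_smul, hu, ← neg_one_smul F (d + e + d' + e'), pr_smul, pr_add, pr_add, pr_add,
      smul_smul, mul_neg_one]
  have hUo : pr hD o U = 0 := by
    rw [hprU, pr_other hD (hφ (by decide)) hdD, pr_other hD (hφ (by decide)) heD,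
      pr_other hD (hφ (by decide)) hd'D, pr_other hD (hφ (by decide)) he'D]
    simp
  -- both classes of values occur orthogonally to `U` in the first two members
  obtain ⟨b₁, hb₁, hdb₁, hb₁Q, hb₁n⟩ := exists_orth_vec h2 (hD.ndOn i) (hd i) hdD nd
  obtain ⟨b₂, hb₂, heb₂, hb₂Q, -⟩ := exists_orth_vec h2 (hD.ndOn l) (hd l) heD ne
  have hb₁U : polar Q b₁ U = 0 := by
    rw [polar_pr hD hb₁, hprU, pr_self hD hdD, pr_other hD hil.symm heD,
      pr_other hD (hφ (by decide)) hd'D, pr_other hD (hφ (by decide)) he'D]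
    simp [polar_smul_right, polar_comm Q b₁ d, hdb₁]
  have hb₂U : polar Q b₂ U = 0 := by
    rw [polar_pr hD hb₂, hprU, pr_self hD heD, pr_other hD hil hdD,
      pr_other hD (hφ (by decide)) hd'D, pr_other hD (hφ (by decide)) he'D]
    simp [polar_smul_right, polar_comm Q b₂ e, heb₂]
  have hns : ¬ IsSquare (Q b₁ / Q b₂) := by
    rintro ⟨r, hr⟩
    obtain ⟨f, hf⟩ := hD.iso l i
    have hd0 : d ≠ 0 := fun h0 => nd (by rw [h0, QuadraticMap.map_zero])
    have hle : D i ≤ Submodule.span F ({d, b₁} : Set V) :=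
      le_of_indep (hd i).le hdD hd0 hb₁ hb₁n (Submodule.subset_span (by simp))
        (Submodule.subset_span (by simp))
    obtain ⟨r₁, s₁, h₁⟩ := Submodule.mem_span_pair.mp (hle (f ⟨e, heD⟩).2)
    obtain ⟨r₂, s₂, h₂⟩ := Submodule.mem_span_pair.mp (hle (f ⟨b₂, hb₂⟩).2)
    have hQc : ∀ p q : F, Q (p • d + q • b₁) = p * p * γ + q * q * Q b₁ := fun p q => by
      rw [form_add, form_smul, form_smul, polar_smul_left, polar_smul_right, hdb₁, hd2]; simp
    have e1 : r₁ * r₁ * γ + s₁ * s₁ * Q b₁ = -γ := by rw [← hQc, h₁, hf, he2]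
    have e2 : r₂ * r₂ * γ + s₂ * s₂ * Q b₁ = Q b₂ := by rw [← hQc, h₂, hf]
    have e3 : (r₁ + r₂) * (r₁ + r₂) * γ + (s₁ + s₂) * (s₁ + s₂) * Q b₁ = -γ + Q b₂ := by
      rw [← hQc, add_smul, add_smul, show r₁ • d + r₂ • d + (s₁ • b₁ + s₂ • b₁) =
        (r₁ • d + s₁ • b₁) + (r₂ • d + s₂ • b₁) by abel, h₁, h₂, ← Submodule.coe_add, ← map_add,
        hf]
      show Q (e + b₂) = _
      rw [form_add, heb₂, he2, add_zero]
    have e4 : r₁ * r₂ * γ + s₁ * s₂ * Q b₁ = 0 :=
      (mul_eq_zero.mp (show (2 : F) * (r₁ * r₂ * γ + s₁ * s₂ * Q b₁) = 0 by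
        linear_combination e3 - e1 - e2)).resolve_left h2
    set T := r₁ * s₂ - r₂ * s₁ with hT
    have key : -γ * Q b₂ = γ * Q b₁ * (T * T) := by
      rw [hT]
      linear_combination -(Q b₂) * e1 - (r₁ * r₁ * γ + s₁ * s₁ * Q b₁) * e2
        + (r₁ * r₂ * γ + s₁ * s₂ * Q b₁) * e4
    have hb : -Q b₂ = Q b₁ * (T * T) := mul_left_cancel₀ hγ (by linear_combination key)
    rw [div_eq_iff hb₂Q] at hr
    refine hsq ⟨r * T, ?_⟩
    refine mul_right_cancel₀ hb₂Q ?_
    linear_combination hb + (T * T) * hr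
  have comp : ∀ x : F, x ≠ 0 → ∃ p, p ≠ o ∧ ∃ y ∈ D p, Q y = x ∧ polar Q y U = 0 := by
    intro x hx
    have scale : ∀ {p : Fin t} {y : V}, y ∈ D p → Q y ≠ 0 → polar Q y U = 0 →
        IsSquare (x / Q y) → ∃ z ∈ D p, Q z = x ∧ polar Q z U = 0 := by
      rintro p y hy hy0 hyU ⟨r, hr⟩
      exact ⟨r • y, (D p).smul_mem r hy,
        by rw [form_smul, ← hr, div_mul_cancel₀ _ hy0],
        by rw [polar_smul_left, hyU, smul_zero]⟩
    by_cases h1 : IsSquare (x / Q b₁)
    · exact ⟨i, hφ (by decide), scale hb₁ hb₁Q hb₁U h1⟩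
    refine ⟨l, hφ (by decide), scale hb₂ hb₂Q hb₂U ?_⟩
    have hn' : ¬ IsSquare (Q b₂ / Q b₁) := fun h => hns (by
      rw [← inv_div]; exact h.inv)
    have := isSquare_div_of_not (div_ne_zero hb₂Q hb₁Q) h1 hn'
    rwa [div_div_div_cancel_right₀ hb₁Q] at this
  have hcov := cov_of_mem' hD hM hk hO hUQ hW hUo comp (hall o)
  -- move `d` so that its own component disappears
  obtain ⟨w, hw, hwQ⟩ := exists_norm hD o (c := c * c / (2 * γ))
    (div_ne_zero (mul_ne_zero hc hc) (mul_ne_zero h2 hγ))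
  have hWw := hcov w hw
  set x := eich Q U w with hx
  obtain ⟨p, hpo, y, hy, hyQ, hyU⟩ := comp γ hγ
  have hxy : x.1 y = y := by
    rw [hx, eich_apply hUQ hWw.1, polar_comm Q U y, hyU, hD.orth o p hpo.symm w hw y hy]; simp
  have hR : Reach M D γ (x.1 d) :=
    Reach.map hD hM hγ (reach_member hD hM hγ hdD hd2) hWw.2 hy hyQ (hxy.symm ▸ hy)
  have hUd : polar Q U d = -(2 * γ) / c := by
    rw [polar_comm, polar_pr hD hdD, hprU, pr_self hD hdD, pr_other hD hil.symm heD,
      pr_other hD (hφ (by decide)) hd'D, pr_other hD (hφ (by decide)) he'D]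
    simp [polar_smul_right, hd2]
    field_simp
  have hxd : x.1 d = d + (-(2 * γ) / c) • w + c • U := by
    rw [hx, eich_apply hUQ hWw.1, hUd, hD.orth o i (hφ (by decide)) w hw d hdD, hwQ, zero_smul,
      sub_zero, sub_eq_add_neg, ← neg_smul]
    congr 2
    field_simp
  refine ⟨γ, hγ, _, hR, ?_, i, ?_⟩
  · have hsub : ({o, l, n} : Finset (Fin t)) ⊆ supp hD (x.1 d) := by
      intro q hq
      simp only [Finset.mem_insert, Finset.mem_singleton] at hq
      rw [mem_supp hD, hxd, pr_add, pr_add, pr_smul, pr_smul, hprU, smul_smul, mul_neg,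
        mul_inv_cancel₀ hc]
      rcases hq with rfl | rfl | rfl
      · rw [pr_other hD (hφ (by decide)) hdD, pr_self hD hw, pr_other hD (hφ (by decide)) heD,
          pr_other hD (hφ (by decide)) hd'D, pr_other hD (hφ (by decide)) he'D]
        simp only [add_zero, zero_add, smul_zero]
        exact smul_ne_zero (div_ne_zero (neg_ne_zero.mpr (mul_ne_zero h2 hγ)) hc)
          fun h0 => div_ne_zero (mul_ne_zero hc hc) (mul_ne_zero h2 hγ)
            (by rw [← hwQ, h0, QuadraticMap.map_zero])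
      · rw [pr_other hD hil hdD, pr_other hD (hφ (by decide)) hw, pr_self hD heD,
          pr_other hD (hφ (by decide)) hd'D, pr_other hD (hφ (by decide)) he'D]
        simpa using fun h0 => ne (by rw [h0, QuadraticMap.map_zero])
      · rw [pr_other hD (hφ (by decide)) hdD, pr_other hD (hφ (by decide)) hw,
          pr_other hD (hφ (by decide)) heD, pr_self hD hd'D, pr_other hD (hφ (by decide)) he'D]
        simpa using fun h0 => nd' (by rw [h0, QuadraticMap.map_zero])
    refine le_trans ?_ (Finset.card_le_card hsub)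
    rw [Finset.card_eq_three.mpr ⟨o, l, n, hφ (by decide), hφ (by decide), hφ (by decide), rfl⟩]
  · rw [hxd, pr_add, pr_add, pr_smul, pr_smul, hprU, smul_smul, mul_neg, mul_inv_cancel₀ hc,
      pr_self hD hdD, pr_other hD (hφ (by decide)) hw, pr_other hD hil.symm heD,
      pr_other hD (hφ (by decide)) hd'D, pr_other hD (hφ (by decide)) he'D]
    simp

/-- A non-member vector congruent to the members suffices, for at least five planes. -/
theorem eichGroup_le_nonmember_five (hk : k = 2) (hO : Ok Q k D) (ht : 5 ≤ t)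
    (hN : HasNonmember M D) : eichGroup Q ≤ M := by
  classical
  have hd : ∀ q, Module.finrank F (D q) = 2 := fun q => by rw [hD.dim, hk]
  obtain ⟨c, hc, a, ha, h3⟩ : ∃ c : F, c ≠ 0 ∧ ∃ a, Reach M D c a ∧ 3 ≤ (supp hD a).card := by
    obtain ⟨c, hc, a, ha, hout⟩ := hN
    refine ⟨c, hc, ?_⟩
    have h2 : 2 ≤ (supp hD a).card := by
      by_contra h
      have : Nonempty (Fin t) := ⟨⟨0, by omega⟩⟩
      rcases Finset.card_le_one_iff_subset_singleton.mp (show (supp hD a).card ≤ 1 by omega)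
        with ⟨q, hq⟩
      refine hout q (mem_of_pr hD fun m hm => ?_)
      by_contra hne
      exact hm (Finset.mem_singleton.mp (hq ((mem_supp hD).mpr hne)))
    by_cases h : 3 ≤ (supp hD a).card
    · exact ⟨a, ha, h⟩
    obtain ⟨b, hb, hlt⟩ := supp_grow hD hM hk hO hc ha h2 (by omega) (by omega)
    exact ⟨b, hb, by omega⟩
  suffices ∀ (c : F), c ≠ 0 → ∀ a, Reach M D c a → 3 ≤ (supp hD a).card →
      (IsSquare (-1 : F) ∨ ∃ q, pr hD q a = 0) → eichGroup Q ≤ M by
    by_cases hsq : IsSquare (-1 : F)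
    · exact this c hc a ha h3 (Or.inl hsq)
    by_cases hall : ∀ q, pr hD q a ≠ 0
    · obtain ⟨c', hc', b, hb, hb3, hq⟩ := exists_shrink hD hM hk hO ht hsq hc ha hall
      exact this c' hc' b hb hb3 (Or.inr hq)
    · simp only [not_forall, not_not] at hall
      exact this c hc a ha h3 (Or.inr hall)
  intro c hc a ha h3 hfree
  obtain ⟨i, l, o, hi, hl, ho, hli, hio, hlo⟩ :=
    Finset.two_lt_card_iff.mp (show 2 < (supp hD a).card by omega)
  rw [mem_supp hD] at hi hl ho
  obtain ⟨γ, hγ, ⟨d, hdD, hd1, hd2⟩, e, heD, he1, he2⟩ := exists_pair_values (hD.ndOn i)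
    (hD.ndOn l) (hd i) (hd l) (hD.iso i l) (hO.plane hk i) (hO.plane hk l) (pr_mem hD i a) hi
    (pr_mem hD l a) hl
  have nd : Q d ≠ 0 := by rw [hd2]; exact hγ
  have ne : Q e ≠ 0 := by rw [he2]; exact neg_ne_zero.mpr hγ
  have ade : polar Q a d = Q d := by rw [← pr_polar hD hdD, hd1, hd2]
  have aee : polar Q a e = Q e := by rw [← pr_polar hD heD, he1, he2]
  have o1 : polar Q d e = 0 := hD.orth i l hli d hdD e heD
  have step : ∀ x z : V, Q x ≠ 0 → polar Q x z = Q x → (rf Q x).1 z = z - x := fun x z hx h => by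
    rw [rf_apply, h, inv_mul_cancel₀ hx, one_smul]
  have sd : (rf Q d).1 (a - e) = a - e - d := step d _ nd (by
    rw [polar_sub_right, polar_comm Q d a, ade, o1, sub_zero])
  have se : (rf Q e).1 a = a - e := step e a ne (by rw [polar_comm]; exact aee)
  refine Exists.elim (?_ : ∃ h : orth Q, h ∈ M ∧ Perm D h ∧ h.1 a = a - d - e)
    fun h hh => eichGroup_le_of_pair hD hM hk hO ht hc ha hli hio.symm hlo.symm ho hdD heD nd
      (by rw [he2, hd2]) ade aee hh.1 hh.2.1 hh.2.2
  rcases hfree with hsq | ⟨q, hq⟩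
  · refine ⟨_, rf_pair hD hM hdD heD nd ne ?_, ((fix_rf hD hdD).mul (fix_rf hD heD)).perm, ?_⟩
    · rw [hd2, he2, div_neg, div_self hγ]; exact hsq
    · rw [coe_mul_apply, se, sd]; abel
  · obtain ⟨x, hx, hxQ⟩ := exists_norm hD q hγ
    obtain ⟨y, hy, hyQ⟩ := exists_norm hD q (neg_ne_zero.mpr hγ)
    have hql : q ≠ l := fun e' => hl (e' ▸ hq)
    have hya : polar Q y a = 0 := by rw [polar_pr hD hy, hq, polar_zero_right]
    have hxae : polar Q x (a - e) = 0 := by
      rw [polar_sub_right, polar_pr hD hx, hq, polar_zero_right, hD.orth q l hql x hx e heD,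
        sub_zero]
    refine ⟨_, mul_mem (rf_pair_eq hD hM hdD hx nd (hd2.trans hxQ.symm))
      (rf_pair_eq hD hM heD hy ne (he2.trans hyQ.symm)),
      (((fix_rf hD hdD).mul (fix_rf hD hx)).mul ((fix_rf hD heD).mul (fix_rf hD hy))).perm, ?_⟩
    rw [coe_mul_apply, coe_mul_apply, coe_mul_apply, rf_apply_of_polar hya, se,
      rf_apply_of_polar hxae, sd]
    abel

end Cfsg.Agent.OrthDec99
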