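import Cfsg.Agent.OrthDec99.Spread
import Cfsg.Agent.OrthDec99.Five
import Cfsg.Agent.Omega8Minus50.Subspaces
import Cfsg.Agent.MaxSub.OrthVectorGL

/-!
Stabilisers in `Ω` of orthogonal decompositions into isometric non-degenerate subspaces are
maximal, in any characteristic (helper99).
-/

set_option autoImplicit false
set_option linter.unusedSectionVars false

namespace Cfsg.Agent.OrthDec99

open QuadraticMap Cfsg.Agent.UnitaryOrthogonal Cfsg.Agent.OrthStab
open Cfsg.Agent.Wreath (Nd cut mem_cut finrank_cut Perm)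

section Abstract

variable {F : Type*} [Field F] [Finite F] {V : Type*} [AddCommGroup V] [Module F V]
variable [FiniteDimensional F V] {Q : QuadraticForm F V}
variable {t k : ℕ} {D : Fin t → Submodule F V} (hD : Sys Q k D)
include hD

/-- An element of `Ω` outside the stabiliser. -/
theorem exists_not_perm (ht : 2 ≤ t) : ∃ h ∈ eichGroup Q, ¬ Perm D h := by
  let i₀ : Fin t := ⟨0, by omega⟩
  let i₁ : Fin t := ⟨1, by omega⟩
  have hi : i₀ ≠ i₁ := fun h => by simpa [i₀, i₁] using congrArg Fin.val h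
  obtain ⟨x, hx, hxQ⟩ := exists_norm hD i₀ (one_ne_zero (α := F))
  have hx0 : x ≠ 0 := fun e => zero_ne_one (α := F) (by rw [← hxQ, e, QuadraticMap.map_zero])
  -- it suffices to move a member vector outside the members
  suffices ∃ a d : V, a ∈ D i₀ ∧ a ≠ 0 ∧ d ≠ 0 ∧ Q a = Q d ∧ pr hD i₀ d ≠ 0 ∧
      ∃ j, j ≠ i₀ ∧ pr hD j d ≠ 0 by
    obtain ⟨a, d, ha, ha0, hd0, hQ, h0, j, hj, hjd⟩ := this
    obtain ⟨g, hg, hga⟩ := exists_eich_map_of_form_eq hD.nd hD.big ha0 hd0 hQ
    refine ⟨g, hg, fun hP => ?_⟩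
    obtain ⟨l, hl⟩ := hP i₀
    have hd := hga ▸ hl a ha
    by_cases e : l = i₀
    · exact hjd (pr_other hD (fun e' => hj (e'.symm.trans e)) hd)
    · exact h0 (pr_other hD e hd)
  rcases Nat.lt_or_ge k 3 with hk | hk
  · have hk2 : k = 2 := by have := hD.two_le; omega
    have ht3 : 3 ≤ t := by have := hD.vol; subst hk2; omega
    let i₂ : Fin t := ⟨2, by omega⟩
    have h02 : i₀ ≠ i₂ := fun h => by simpa [i₀, i₂] using congrArg Fin.val h
    have h12 : i₁ ≠ i₂ := fun h => by simpa [i₁, i₂] using congrArg Fin.val h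
    obtain ⟨y, hy, hyQ⟩ := exists_norm hD i₁ (one_ne_zero (α := F))
    obtain ⟨z, hz, hzQ⟩ := exists_norm hD i₂ (neg_ne_zero.mpr (one_ne_zero (α := F)))
    have hy0 : y ≠ 0 := fun e => zero_ne_one (α := F) (by rw [← hyQ, e, QuadraticMap.map_zero])
    have hQd : Q (x + y + z) = 1 := by
      rw [form_add, form_add, polar_add_left, hxQ, hyQ, hzQ, hD.orth i₀ i₁ hi x hx y hy,
        hD.orth i₀ i₂ h02 x hx z hz, hD.orth i₁ i₂ h12 y hy z hz]
      ring
    refine ⟨x, x + y + z, hx, hx0, fun e => ?_, hxQ.trans hQd.symm, ?_, i₁, hi.symm, ?_⟩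
    · rw [e, QuadraticMap.map_zero] at hQd; exact zero_ne_one hQd
    · rw [pr_add, pr_add, pr_self hD hx, pr_other hD hi.symm hy, pr_other hD h02.symm hz,
        add_zero, add_zero]
      exact hx0
    · rw [pr_add, pr_add, pr_self hD hy, pr_other hD hi hx, pr_other hD h12.symm hz, zero_add,
        add_zero]
      exact hy0
  · obtain ⟨a, ha, ha0, haQ⟩ := exists_singular_mem (Q := Q) (D i₀) (by rw [hD.dim]; exact hk)
    obtain ⟨y, hy, hyQ⟩ := exists_norm hD i₁ (neg_ne_zero.mpr (one_ne_zero (α := F)))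
    have hy0 : y ≠ 0 := fun e => neg_ne_zero.mpr (one_ne_zero (α := F))
      (by rw [← hyQ, e, QuadraticMap.map_zero])
    have h0 : pr hD i₀ (x + y) ≠ 0 := by
      rw [pr_add, pr_self hD hx, pr_other hD hi.symm hy, add_zero]; exact hx0
    refine ⟨a, x + y, ha, ha0, fun e => h0 (by rw [e, pr_zero]), ?_, h0, i₁, hi.symm, ?_⟩
    · rw [haQ, form_add, hxQ, hyQ, hD.orth i₀ i₁ hi x hx y hy]; ring
    · rw [pr_add, pr_self hD hy, pr_other hD hi hx, zero_add]; exact hy0

/-- A subgroup containing the stabiliser and one more element contains `Ω`. -/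
theorem eichGroup_le (ht : 2 ≤ t)
    (hsmall : k = 4 → Nat.card F = 2 → ∀ i, ∀ U : Submodule F V, U ≤ D i →
      Module.finrank F U = 2 → ∃ u ∈ U, Q u ≠ 0)
    (hthree : k = 2 → Nat.card F ≠ 3)
    (hplane : k = 2 → ∀ i, ∀ s ∈ D i, s ≠ 0 → Q s = 0 → 7 ≤ Nat.card F)
    (hk3 : k = 3 → (2 : F) ≠ 0 ∧ 4 ≤ Nat.card F)
    {M : Subgroup (orth Q)} (hM : ∀ h ∈ eichGroup Q, Perm D h → h ∈ M) {g : orth Q} (hg : g ∈ M)
    (hgP : ¬ Perm D g) : eichGroup Q ≤ M := by
  rcases Nat.lt_or_ge t 3 with ht3 | ht3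
  · obtain rfl : t = 2 := by omega
    have hk5 : 5 ≤ k := by have := hD.vol; omega
    have hpair : IsOrthPair Q (D 0) (D 1) :=
      ⟨hD.nd, ⟨Submodule.disjoint_def.mpr fun v hv hv' => hD.ndOn 0 v hv fun w hw => by
          rw [polar_comm]; exact hD.orth 0 1 (by decide) w hw v hv',
        codisjoint_iff.mpr (eq_top_iff.mpr fun v _ => mem_sup_of_pr hD fun m h0 h1 => by
          fin_cases m
          · exact absurd rfl h0
          · exact absurd rfl h1)⟩,
       hD.orth 0 1 (by decide)⟩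
    have hmap : ∀ h : orth Q, ∀ p q p' q' : Fin 2, p ≠ q → p' ≠ q' → (∀ x ∈ D p, h.1 x ∈ D p') →
        ∀ x ∈ D q, h.1 x ∈ D q' := by
      intro h p q p' q' hpq hp'q' hh x hx
      refine mem_of_pr hD fun m hm => ?_
      have hmp : m = p' := by omega
      subst hmp
      refine pr_unique hD (zero_mem _) fun y hy => ?_
      let r : D p →ₗ[F] D m := h.1.toLinearMap.restrict hh
      have hinj : Function.Injective r := fun a b hab =>
        Subtype.ext (h.1.injective (congrArg Subtype.val hab))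
      obtain ⟨⟨y', hy'⟩, hyy⟩ := (LinearMap.injective_iff_surjective_of_finrank_eq_finrank
        (by rw [hD.dim, hD.dim])).mp hinj ⟨y, hy⟩
      rw [polar_zero_left, ← show h.1 y' = y from congrArg Subtype.val hyy, map_polar,
        polar_comm]
      exact (hD.orth p q hpq y' hy' x hx).symm
    have permOf : ∀ h : orth Q, ∀ p' q' : Fin 2, p' ≠ q' → (∀ x ∈ D 0, h.1 x ∈ D p') → Perm D h :=
      fun h p' q' hne hh i => by
        fin_cases i
        · exact ⟨p', hh⟩
        · exact ⟨q', hmap h 0 1 p' q' (by decide) hne hh⟩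
    refine Omega8Minus50.eichGroup_le_of_stab (W₁ := D 0) (W₂ := D 1) hpair
      (Omega8Minus50.hasLine_of_five hpair (by rw [hD.dim]; exact hk5)) hD.big
      (fun h hh hh0 => hM h hh (permOf h 0 1 (by decide) hh0))
      (Omega8Minus50.mixCond_of_five hpair (by rw [hD.dim]; exact hk5))
      (fun S hS hS0 hrf heich => eq_of_invariant hpair
        (fun _ h2 => absurd h2 (by rw [hD.dim]; omega)) hS hS0 hrf heich)
      hg (fun h => hgP (permOf g 0 1 (by decide) h)) fun h => hgP (permOf g 1 0 (by decide) h)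
  by_cases hk : k = 3
  · subst hk
    obtain ⟨h2, hq⟩ := hk3 rfl
    exact Wreath.eichGroup_le
      { nd := hD.nd
        two := h2
        dim := hD.dim
        ndOn := hD.ndOn
        orth := hD.orth
        top := hD.top
        iso := hD.iso
        three := le_rfl
        three_t := ht3
        big := hD.big
        small := Or.inl hq } hM hg hgP
  have hO : Ok Q k D := ⟨by have := hD.two_le; omega, hsmall, hthree, hplane⟩
  rcases hO.dim with hk2 | hk4
  · rcases hasNonmember_or_root hD hM hO hk2 hg hgP with h | h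
    · exact eichGroup_le_nonmember_five hD hM hk2 hO (by have := hD.vol; subst hk2; omega) h
    · exact eichGroup_le_root hD hM hk2 hO h
  · exact eichGroup_le_big hD hM hk4 ht3 (hasNonmember_big hD hM hO hk4 ht3 hg hgP)

end Abstract

variable {ι : Type} [Fintype ι] [DecidableEq ι] {F : Type*} [Field F] [Fintype F]

/-- The stabiliser in `Ω` of the decomposition is maximal. -/
theorem isMaximalIn_ten {Qf : QuadraticForm F (ι → F)} (hnd : PolarND Qf)
    (hn : 10 ≤ Fintype.card ι)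
    {t k : ℕ} (hk : 2 ≤ k) {D : Fin t → Submodule F (ι → F)}
    (hD : Geo.IsOrthogonalMDecomposition ⇑Qf k D) (hthree : k = 2 → Fintype.card F ≠ 3)
    (hk3 : k = 3 → Odd (Fintype.card F) ∧ 4 ≤ Fintype.card F)
    (hplus : (∀ i, Geo.IsPlusTypeOn ⇑Qf (D i)) →
      (k = 2 → 7 ≤ Fintype.card F) ∧ (k = 4 → Fintype.card F ≠ 2)) :
    Geo.IsMaximalIn (Geo.omegaGL ⇑Qf) (Geo.decompositionStabilizer D ⊓ Geo.omegaGL ⇑Qf) := by
  classical
  obtain ⟨⟨hdec, hndeg, horth⟩, hiso⟩ := hD
  obtain ⟨ht2, hkpos, hfin, hindep, hsup⟩ := hdec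
  have hV : Module.finrank F (ι → F) = Fintype.card ι := Module.finrank_fintype_fun_eq_card F
  have htk : Fintype.card ι = t * k := by
    have hint := DirectSum.isInternal_submodule_of_iSupIndep_of_iSup_eq_top hindep hsup
    have e := (LinearEquiv.ofBijective (DirectSum.coeLinearMap D) hint).finrank_eq
    rw [Module.finrank_directSum, hV] at e
    simp [hfin] at e
    omega
  have h5 : 5 ≤ Module.finrank F (ι → F) := by omega
  have hsys : Sys Qf k D :=
    { nd := hnd
      dim := hfin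
      ndOn := fun i s hs h => by
        by_contra hs0
        obtain ⟨x, hx, hne⟩ := (hndeg i s hs hs0).2
        exact hne (h x hx)
      orth := horth
      top := hsup
      iso := hiso
      two_le := hk
      big := h5
      vol := by omega }
  have plane : k = 2 → ∀ i, ∀ s ∈ D i, s ≠ 0 → Qf s = 0 → 7 ≤ Nat.card F := by
    intro hk2 i s hs hs0 hsQ
    rw [Nat.card_eq_fintype_card]
    refine (hplus fun j => ?_).1 hk2
    obtain ⟨e, he⟩ := hiso i j
    refine ⟨Submodule.span F {(e ⟨s, hs⟩ : ι → F)}, ?_, ?_, ?_⟩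
    · exact (Submodule.span_singleton_le_iff_mem _ _).mpr (e ⟨s, hs⟩).2
    · intro w hw
      obtain ⟨r, rfl⟩ := Submodule.mem_span_singleton.mp hw
      rw [form_smul, he]
      simp [hsQ]
    · rw [finrank_span_singleton fun h0 => hs0 (congrArg Subtype.val
        (e.map_eq_zero_iff.mp (Subtype.ext h0))), hfin, hk2]
  have small : k = 4 → Nat.card F = 2 → ∀ i, ∀ U : Submodule F (ι → F), U ≤ D i →
      Module.finrank F U = 2 → ∃ u ∈ U, Qf u ≠ 0 := by
    intro hk4 hq i U hU hU2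
    by_contra hc
    simp only [not_exists, not_and, not_not] at hc
    rw [Nat.card_eq_fintype_card] at hq
    refine (hplus fun j => ?_).2 hk4 hq
    obtain ⟨e, he⟩ := hiso i j
    let G : ↥U →ₗ[F] (ι → F) := (D j).subtype.comp (e.toLinearMap.comp (Submodule.inclusion hU))
    have hGinj : Function.Injective G := fun a b h =>
      Submodule.inclusion_injective hU (e.injective (Subtype.ext h))
    refine ⟨LinearMap.range G, ?_, ?_, ?_⟩
    · rintro _ ⟨u, rfl⟩
      exact (e (Submodule.inclusion hU u)).2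
    · rintro _ ⟨u, rfl⟩
      show Qf ((e (Submodule.inclusion hU u) : D j) : ι → F) = 0
      rw [he]
      exact hc u u.2
    · rw [LinearMap.finrank_range_of_inj hGinj, hU2, hfin, hk4]
  have k3 : k = 3 → (2 : F) ≠ 0 ∧ 4 ≤ Nat.card F := fun h =>
    ⟨UnitaryOrthogonal.two_ne_zero_of_card_odd (hk3 h).1, by
      rw [Nat.card_eq_fintype_card]; exact (hk3 h).2⟩
  have hmem : ∀ g₀ : Cfsg.isometryGroup F ⇑Qf, Wreath.Perm D (OrthStab.toOrth g₀) →
      g₀.1 ∈ Cfsg.Geo.decompositionStabilizer D := by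
    intro g₀ hp
    choose l hl using hp
    have hmap : ∀ i, (D i).map (Matrix.toLin' (Units.val g₀.1)) = D (l i) := fun i => by
      refine Submodule.eq_of_le_of_finrank_eq ?_ ?_
      · rintro _ ⟨x, hx, rfl⟩
        rw [Matrix.toLin'_apply]
        exact hl i x hx
      · rw [hfin, ← hfin i]
        exact LinearEquiv.finrank_map_eq (OrthStab.toOrth g₀).1 (D i)
    have hinj : Function.Injective l := fun i i' h => by
      by_contra hne
      exact perm_ne hsys hne (hl i) (h ▸ hl i')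
    exact ⟨Equiv.ofBijective l hinj.bijective_of_finite, hmap⟩
  have hperm : ∀ g₀ : Cfsg.isometryGroup F ⇑Qf, g₀.1 ∈ Cfsg.Geo.decompositionStabilizer D →
      Wreath.Perm D (OrthStab.toOrth g₀) := by
    rintro g₀ ⟨σ, hσ⟩ i
    refine ⟨σ i, fun x hx => ?_⟩
    have := Submodule.mem_map_of_mem (f := Matrix.toLin' (Units.val g₀.1)) hx
    rw [hσ i, Matrix.toLin'_apply] at this
    exact this
  refine ⟨lt_of_le_of_ne inf_le_right fun e => ?_, fun M hle hMΩ => ?_⟩
  · obtain ⟨h, hh, hhP⟩ := exists_not_perm hsys ht2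
    obtain ⟨g₀, hg₀, hgeq⟩ := OrthStab.exists_lift hnd h5 hh
    rw [← e] at hg₀
    exact hhP (hgeq ▸ hperm g₀ hg₀.1)
  · by_cases hMH : M = Cfsg.Geo.decompositionStabilizer D ⊓ Cfsg.Geo.omegaGL ⇑Qf
    · exact Or.inl hMH
    obtain ⟨g, hgM, hgH⟩ := SetLike.exists_of_lt (lt_of_le_of_ne hle (Ne.symm hMH))
    obtain ⟨g₀, hg₀, rfl⟩ := hMΩ hgM
    let M' : Subgroup (UnitaryOrthogonal.orth Qf) :=
      (M.comap (Cfsg.isometryGroup F ⇑Qf).subtype).map
        (UnitaryOrthogonal.isometryGroupEquiv Qf (f := ⇑Qf) (fun _ => rfl)).toMonoidHom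
    have hM' : ∀ h ∈ UnitaryOrthogonal.eichGroup Qf, Wreath.Perm D h → h ∈ M' := fun h hh hp => by
      obtain ⟨h₀, hh₀, rfl⟩ := OrthStab.exists_lift hnd h5 hh
      exact ⟨h₀, hle ⟨hmem h₀ hp, hh₀⟩, rfl⟩
    have hgen := eichGroup_le hsys ht2 small
      (fun h => by rw [Nat.card_eq_fintype_card]; exact hthree h) plane k3 hM'
      (g := OrthStab.toOrth g₀) ⟨g₀, hgM, rfl⟩ fun h => hgH ⟨hmem g₀ h, hMΩ hgM⟩
    refine Or.inr (le_antisymm hMΩ ?_)
    rintro _ ⟨g₁, hg₁, rfl⟩
    obtain ⟨g₂, hg₂, hgg⟩ := hgen ((OrthStab.mem_omega_iff hnd h5 g₁).mp hg₁)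
    exact ((UnitaryOrthogonal.isometryGroupEquiv Qf (f := ⇑Qf) (fun _ => rfl)).injective hgg) ▸ hg₂

/-- The stabiliser in `Ω` of the decomposition is maximal, in dimension at least 13. -/
theorem isMaximalIn {Qf : QuadraticForm F (ι → F)} (hnd : PolarND Qf) (hn : 13 ≤ Fintype.card ι)
    {t k : ℕ} (hk : 2 ≤ k) {D : Fin t → Submodule F (ι → F)}
    (hD : Geo.IsOrthogonalMDecomposition ⇑Qf k D) (hthree : k = 2 → Fintype.card F ≠ 3)
    (hk3 : k = 3 → Odd (Fintype.card F) ∧ 4 ≤ Fintype.card F)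
    (hplus : (∀ i, Geo.IsPlusTypeOn ⇑Qf (D i)) →
      (k = 2 → 7 ≤ Fintype.card F) ∧ (k = 4 → Fintype.card F ≠ 2)) :
    Geo.IsMaximalIn (Geo.omegaGL ⇑Qf) (Geo.decompositionStabilizer D ⊓ Geo.omegaGL ⇑Qf) :=
  isMaximalIn_ten hnd (le_trans (by norm_num) hn) hk hD hthree hk3 hplus

end Cfsg.Agent.OrthDec99
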