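import Cfsg.Agent.OrthDec99.Facts
import Cfsg.Agent.MaxSub.OrthVector

/-!
Orthogonal decompositions in any characteristic: components, elements of the stabiliser, pairs of
reflections congruent modulo an overgroup, root sets (helper99).
-/

set_option autoImplicit false
set_option linter.unusedSectionVars false

namespace Cfsg.Agent.OrthDec99

open QuadraticMap Cfsg.Agent.UnitaryOrthogonal Cfsg.Agent.OrthStab
open Cfsg.Agent.Wreath (Nd cut mem_cut finrank_cut Perm)

variable {F : Type*} [Field F] [Finite F] {V : Type*} [AddCommGroup V] [Module F V]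
variable [FiniteDimensional F V] {Q : QuadraticForm F V}

/-- An orthogonal decomposition into `t` isometric non-degenerate subspaces of dimension `k`. -/
structure Sys (Q : QuadraticForm F V) {t : ℕ} (k : ℕ) (D : Fin t → Submodule F V) : Prop where
  nd : PolarND Q
  dim : ∀ i, Module.finrank F (D i) = k
  ndOn : ∀ i, Nd Q (D i)
  orth : ∀ i l, i ≠ l → ∀ x ∈ D i, ∀ y ∈ D l, polar Q x y = 0
  top : iSup D = ⊤
  iso : ∀ i l, ∃ e : D i ≃ₗ[F] D l, ∀ w : D i, Q ((e w : D l) : V) = Q (w : V)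
  two_le : 2 ≤ k
  big : 5 ≤ Module.finrank F V
  vol : 10 ≤ t * k

/-- The exceptional systems left out. -/
structure Ok (Q : QuadraticForm F V) {t : ℕ} (k : ℕ) (D : Fin t → Submodule F V) : Prop where
  dim : k = 2 ∨ 4 ≤ k
  small : k = 4 → Nat.card F = 2 → ∀ i, ∀ U : Submodule F V, U ≤ D i → Module.finrank F U = 2 →
    ∃ u ∈ U, Q u ≠ 0
  three : k = 2 → Nat.card F ≠ 3
  plane : k = 2 → ∀ i, ∀ s ∈ D i, s ≠ 0 → Q s = 0 → 7 ≤ Nat.card F

/-- Every member is stabilised. -/
def Fix {t : ℕ} (D : Fin t → Submodule F V) (h : orth Q) : Prop := ∀ l, ∀ x ∈ D l, h.1 x ∈ D l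

theorem Fix.perm {t : ℕ} {D : Fin t → Submodule F V} {h : orth Q} (hh : Fix D h) : Perm D h :=
  fun l => ⟨l, hh l⟩

theorem Fix.mul {t : ℕ} {D : Fin t → Submodule F V} {h h' : orth Q} (hh : Fix D h)
    (hh' : Fix D h') : Fix D (h * h') :=
  fun l x hx => by rw [coe_mul_apply]; exact hh l _ (hh' l x hx)

/-- Two vectors of one value whose reflections are congruent modulo `M`. -/
def Rel (M : Subgroup (orth Q)) (a b : V) : Prop := Q a = Q b ∧ rf Q a * rf Q b ∈ M

theorem Rel.symm {M : Subgroup (orth Q)} {a b : V} (h : Rel M a b) : Rel M b a :=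
  ⟨h.1.symm, by simpa [mul_inv_rev, rf_inv] using inv_mem h.2⟩

theorem Rel.trans {M : Subgroup (orth Q)} {a b c : V} (h : Rel M a b) (h' : Rel M b c) :
    Rel M a c :=
  ⟨h.1.trans h'.1, by
    have := mul_mem h.2 h'.2
    rwa [mul_assoc, ← mul_assoc (rf Q b), rf_mul_self, one_mul] at this⟩

theorem Rel.map {M : Subgroup (orth Q)} {a b : V} (h : Rel M a b) {g : orth Q} (hg : g ∈ M) :
    Rel M (g.1 a) (g.1 b) :=
  ⟨by rw [map_form, map_form, h.1], by
    rw [← conj_rf, ← conj_rf]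
    simpa [mul_assoc] using mul_mem (mul_mem hg h.2) (inv_mem hg)⟩

/-- Congruence classes are closed under their own reflections. -/
theorem Rel.reflect {M : Subgroup (orth Q)} {a z b : V} (ha : Rel M a b) (hz : Rel M z b) :
    Rel M ((rf Q a).1 z) b :=
  ⟨by rw [map_form, hz.1], by
    have := mul_mem (ha.trans hz.symm).2 ha.2
    rw [← conj_rf, rf_inv]
    simpa [mul_assoc] using this⟩

/-- `eich u z ∈ M` for `z ⊥ u`. -/
def InW (M : Subgroup (orth Q)) (u z : V) : Prop := polar Q u z = 0 ∧ eich Q u z ∈ M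

theorem InW.zero (M : Subgroup (orth Q)) (u : V) : InW M u 0 :=
  ⟨polar_zero_right Q u, by rw [eich_zero]; exact one_mem M⟩

theorem InW.add {M : Subgroup (orth Q)} {u y z : V} (hu : Q u = 0) (hy : InW M u y)
    (hz : InW M u z) : InW M u (y + z) :=
  ⟨by rw [polar_add_right, hy.1, hz.1, add_zero], by
    rw [← eich_mul hu hy.1 hz.1]; exact mul_mem hy.2 hz.2⟩

theorem InW.neg {M : Subgroup (orth Q)} {u z : V} (hu : Q u = 0) (hz : InW M u z) :
    InW M u (-z) :=
  ⟨by rw [polar_neg_right, hz.1, neg_zero], by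
    rw [← eich_inv hu hz.1]; exact inv_mem hz.2⟩

theorem InW.sub {M : Subgroup (orth Q)} {u y z : V} (hu : Q u = 0) (hy : InW M u y)
    (hz : InW M u z) : InW M u (y - z) := by
  rw [sub_eq_add_neg]; exact hy.add hu (hz.neg hu)

theorem InW.sum {M : Subgroup (orth Q)} {u : V} (hu : Q u = 0) {ι : Type*} {s : Finset ι}
    {f : ι → V} (h : ∀ i ∈ s, InW M u (f i)) : InW M u (∑ i ∈ s, f i) := by
  classical
  induction s using Finset.induction with
  | empty => rw [Finset.sum_empty]; exact InW.zero M u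
  | insert a s ha ih =>
    rw [Finset.sum_insert ha]
    exact (h a (Finset.mem_insert_self a s)).add hu
      (ih fun i hi => h i (Finset.mem_insert_of_mem hi))

theorem InW.map {M : Subgroup (orth Q)} {u z : V} (hz : InW M u z) {g : orth Q} (hg : g ∈ M) :
    InW M (g.1 u) (g.1 z) :=
  ⟨by rw [map_polar]; exact hz.1, by
    rw [← conj_eich]; exact mul_mem (mul_mem hg hz.2) (inv_mem hg)⟩

theorem InW.map_fix {M : Subgroup (orth Q)} {u z : V} (hz : InW M u z) {g : orth Q} (hg : g ∈ M)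
    (hu : g.1 u = u) : InW M u (g.1 z) := by simpa [hu] using hz.map hg

theorem InW.self {M : Subgroup (orth Q)} {u : V} (hu : Q u = 0) (c : F) : InW M u (c • u) :=
  ⟨by rw [polar_smul_right, polar_self_eq, hu]; simp, by
    rw [show c • u = (0 : V) + c • u by rw [zero_add], eich_add_smul hu (polar_zero_right Q u),
      eich_zero]
    exact one_mem M⟩

theorem InW.swap {M : Subgroup (orth Q)} {u z : V} (hu : Q u = 0) (hzQ : Q z = 0)
    (hz : InW M u z) : InW M z u := by
  have hzu : polar Q z u = 0 := by rw [polar_comm]; exact hz.1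
  refine ⟨hzu, ?_⟩
  have e : eich Q z u = (eich Q u z)⁻¹ := by
    rw [eich_inv hu hz.1]
    refine orth_ext fun x => ?_
    rw [eich_apply hzQ hzu, eich_apply hu (by rw [polar_neg_right, hz.1, neg_zero]),
      QuadraticMap.map_neg, hu, hzQ, polar_neg_left]
    module
  rw [e]; exact inv_mem hz.2

theorem InW.smul_left {M : Subgroup (orth Q)} {u z : V} (hu : Q u = 0) {c : F} (hc : c ≠ 0) :
    InW M (c • u) z ↔ InW M u (c • z) := by
  constructor
  · intro h
    have hz : polar Q u z = 0 := by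
      have := h.1
      rw [polar_smul_left, smul_eq_mul] at this
      exact (mul_eq_zero.mp this).resolve_left hc
    exact ⟨by rw [polar_smul_right, hz, smul_zero], by rw [← eich_smul_left hu hz]; exact h.2⟩
  · intro h
    have hz : polar Q u z = 0 := by
      have := h.1
      rw [polar_smul_right, smul_eq_mul] at this
      exact (mul_eq_zero.mp this).resolve_left hc
    exact ⟨by rw [polar_smul_left, hz, smul_zero], by rw [eich_smul_left hu hz]; exact h.2⟩

/-- Congruent vectors differing by an orthogonal singular vector give a root element. -/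
theorem InW.of_rel {M : Subgroup (orth Q)} {a d : V} {c : F} (hc : c ≠ 0) (ha : Q a = c)
    (hd : Q d = 0) (had : polar Q d a = 0) (h : Rel M a (a + d)) : InW M (c⁻¹ • d) a := by
  refine ⟨by rw [polar_smul_left, had, smul_zero], ?_⟩
  rw [eich_eq_rf_mul_rf (by rw [form_smul, hd, mul_zero]) (by rw [polar_smul_left, had, smul_zero])
    (by rw [ha]; exact hc), ha, smul_smul, mul_inv_cancel₀ hc, one_smul]
  exact h.2

variable {t k : ℕ} {D : Fin t → Submodule F V} (hD : Sys Q k D)
include hD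

theorem t_pos : 0 < t := by
  rcases Nat.eq_zero_or_pos t with rfl | h
  · have := hD.vol; omega
  · exact h

theorem exists_comp (i : Fin t) (x : V) :
    ∃ c ∈ D i, ∀ y ∈ D i, polar Q c y = polar Q x y := by
  have hx : x ∈ iSup D := hD.top ▸ Submodule.mem_top
  refine Submodule.iSup_induction D (motive := fun x => ∃ c ∈ D i, ∀ y ∈ D i,
    polar Q c y = polar Q x y) hx (fun l x hl => ?_) ⟨0, zero_mem _, fun y _ => rfl⟩ ?_
  · by_cases h : l = i
    · exact ⟨x, h ▸ hl, fun y _ => rfl⟩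
    · exact ⟨0, zero_mem _, fun y hy => by rw [polar_zero_left, hD.orth l i h x hl y hy]⟩
  · rintro a b ⟨c, hc, hca⟩ ⟨e, he, heb⟩
    exact ⟨c + e, add_mem hc he, fun y hy => by
      rw [polar_add_left, polar_add_left, hca y hy, heb y hy]⟩

/-- The component in `D i`. -/
noncomputable def pr (i : Fin t) (x : V) : V := (exists_comp hD i x).choose

theorem pr_mem (i : Fin t) (x : V) : pr hD i x ∈ D i := (exists_comp hD i x).choose_spec.1

theorem pr_polar {i : Fin t} {y : V} (hy : y ∈ D i) (x : V) :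
    polar Q (pr hD i x) y = polar Q x y := (exists_comp hD i x).choose_spec.2 y hy

theorem pr_unique {i : Fin t} {x c : V} (hc : c ∈ D i)
    (h : ∀ y ∈ D i, polar Q c y = polar Q x y) : pr hD i x = c :=
  sub_eq_zero.mp (hD.ndOn i _ (sub_mem (pr_mem hD i x) hc) fun y hy => by
    rw [polar_sub_left, pr_polar hD hy, h y hy, sub_self])

theorem pr_self {i : Fin t} {x : V} (hx : x ∈ D i) : pr hD i x = x :=
  pr_unique hD hx fun _ _ => rfl

theorem pr_other {i l : Fin t} (hil : l ≠ i) {x : V} (hx : x ∈ D l) : pr hD i x = 0 :=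
  pr_unique hD (zero_mem _) fun y hy => by rw [polar_zero_left, hD.orth l i hil x hx y hy]

theorem pr_add (i : Fin t) (x y : V) : pr hD i (x + y) = pr hD i x + pr hD i y :=
  pr_unique hD (add_mem (pr_mem hD i x) (pr_mem hD i y)) fun z hz => by
    rw [polar_add_left, polar_add_left, pr_polar hD hz, pr_polar hD hz]

theorem pr_smul (i : Fin t) (c : F) (x : V) : pr hD i (c • x) = c • pr hD i x :=
  pr_unique hD ((D i).smul_mem c (pr_mem hD i x)) fun z hz => by
    rw [polar_smul_left, polar_smul_left, pr_polar hD hz]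

/-- The projection as a linear map. -/
noncomputable def prL (i : Fin t) : V →ₗ[F] V where
  toFun := pr hD i
  map_add' := pr_add hD i
  map_smul' := pr_smul hD i

theorem pr_sub (i : Fin t) (x y : V) : pr hD i (x - y) = pr hD i x - pr hD i y :=
  map_sub (prL hD i) x y

theorem pr_zero (i : Fin t) : pr hD i 0 = 0 := map_zero (prL hD i)

theorem sum_pr (x : V) : ∑ i, pr hD i x = x := by
  refine (sub_eq_zero.mp (hD.nd (x - ∑ i, pr hD i x) fun y => ?_)).symm
  have hy : y ∈ iSup D := hD.top ▸ Submodule.mem_top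
  refine Submodule.iSup_induction D (motive := fun y => polar Q (x - ∑ i, pr hD i x) y = 0) hy
    (fun l y hl => ?_) (polar_zero_right Q _)
    (fun a b ha hb => by rw [polar_add_right, ha, hb, add_zero])
  rw [polar_sub_left, show polar Q (∑ i, pr hD i x) y = ∑ i, polar Q (pr hD i x) y from
    map_sum ((polarBilin Q).flip y) _ _, Finset.sum_eq_single l]
  · rw [pr_polar hD hl, sub_self]
  · exact fun i _ hil => hD.orth i l hil _ (pr_mem hD i x) y hl
  · simp

theorem form_sum (x : V) : Q x = ∑ i, Q (pr hD i x) := by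
  classical
  conv_lhs => rw [← sum_pr hD x]
  generalize (Finset.univ : Finset (Fin t)) = s
  induction s using Finset.induction with
  | empty => simp
  | insert a s ha ih =>
    rw [Finset.sum_insert ha, Finset.sum_insert ha, form_add, ih,
      show polar Q (pr hD a x) (∑ i ∈ s, pr hD i x) = 0 by
        rw [show polar Q (pr hD a x) (∑ i ∈ s, pr hD i x) =
            ∑ i ∈ s, polar Q (pr hD a x) (pr hD i x)
          from map_sum (polarBilin Q (pr hD a x)) _ _]
        exact Finset.sum_eq_zero fun i hi => hD.orth a i (fun e => ha (e ▸ hi)) _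
          (pr_mem hD a x) _ (pr_mem hD i x), add_zero]

/-- A vector with components only at `i` and `l` lies in their sum. -/
theorem mem_sup_of_pr {i l : Fin t} {x : V} (h : ∀ m, m ≠ i → m ≠ l → pr hD m x = 0) :
    x ∈ D i ⊔ D l := by
  rw [← sum_pr hD x]
  refine Submodule.sum_mem _ fun m _ => ?_
  by_cases hi : m = i
  · subst hi; exact Submodule.mem_sup_left (pr_mem hD _ x)
  by_cases hl : m = l
  · subst hl; exact Submodule.mem_sup_right (pr_mem hD _ x)
  rw [h m hi hl]; exact zero_mem _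

theorem mem_of_pr {i : Fin t} {x : V} (h : ∀ m, m ≠ i → pr hD m x = 0) : x ∈ D i := by
  rw [← sum_pr hD x]
  refine Submodule.sum_mem _ fun m _ => ?_
  by_cases hi : m = i
  · subst hi; exact pr_mem hD _ x
  · rw [h m hi]; exact zero_mem _

theorem pr_of_mem_sup {i l m : Fin t} (hi : m ≠ i) (hl : m ≠ l) {x : V} (hx : x ∈ D i ⊔ D l) :
    pr hD m x = 0 := by
  obtain ⟨a, ha, b, hb, rfl⟩ := Submodule.mem_sup.mp hx
  rw [pr_add, pr_other hD hi.symm ha, pr_other hD hl.symm hb, add_zero]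

/-- An isometry mapping each member into a member permutes them injectively. -/
theorem perm_ne {h : orth Q} {i i' l : Fin t} (hne : i ≠ i') (hi : ∀ x ∈ D i, h.1 x ∈ D l) :
    ¬ ∀ x ∈ D i', h.1 x ∈ D l := fun hi' => by
  have e : ∀ y ∈ D l, ∃ x ∈ D i, h.1 x = y := by
    intro y hy
    let r : D i →ₗ[F] D l := h.1.toLinearMap.restrict hi
    have hinj : Function.Injective r := fun p q hpq =>
      Subtype.ext (h.1.injective (congrArg Subtype.val hpq))
    obtain ⟨⟨x', hx'⟩, hxx⟩ := (LinearMap.injective_iff_surjective_of_finrank_eq_finrank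
      (by rw [hD.dim, hD.dim])).mp hinj ⟨y, hy⟩
    exact ⟨x', hx', congrArg Subtype.val hxx⟩
  obtain ⟨s, hs, hs0⟩ := (D i').ne_bot_iff.mp fun h0 => by
    have := hD.dim i'
    rw [h0, finrank_bot] at this
    have := hD.two_le
    omega
  refine hs0 (hD.ndOn i' s hs fun y _ => ?_)
  obtain ⟨x, hx, hxs⟩ := e _ (hi' s hs)
  have : x = s := h.1.injective hxs
  subst this
  have h2 := Submodule.disjoint_def.mp (show Disjoint (D i) (D i') from
    Submodule.disjoint_def.mpr fun v hv hv' => hD.ndOn i v hv fun w hw => by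
      rw [polar_comm]; exact hD.orth i i' hne w hw v hv') x hx hs
  rw [h2, polar_zero_left]

/-! ### Elements of the stabiliser -/

theorem fix_rf {i : Fin t} {x : V} (hx : x ∈ D i) : Fix D (rf Q x) := by
  intro l y hy
  rw [rf_apply]
  by_cases h : i = l
  · subst h; exact sub_mem hy ((D i).smul_mem _ hx)
  · rw [hD.orth i l h x hx y hy]; simpa using hy

theorem rf_mul_rf_mem_sq {x y : V} (hx : Q x ≠ 0) (hy : Q y ≠ 0) (h : IsSquare (Q x / Q y)) :
    rf Q x * rf Q y ∈ eichGroup Q := by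
  obtain ⟨s, hs⟩ := h
  have hs0 : s ≠ 0 := fun e => div_ne_zero hx hy (by rw [hs, e, zero_mul])
  rw [← rf_smul hs0 y]
  refine OrthStab.rf_mul_rf_mem hD.nd hD.big hx ?_
  rw [form_smul, ← hs, div_mul_cancel₀ _ hy]

theorem exists_norm (i : Fin t) {c : F} (hc : c ≠ 0) : ∃ s ∈ D i, Q s = c :=
  exists_value (hD.ndOn i) (by rw [hD.dim]; exact hD.two_le) hc

theorem exists_norm_span (hO : Ok Q k D) (i : Fin t) {c : F} (hc : c ≠ 0) {T : Submodule F V}
    (hT : ∀ x ∈ D i, Q x = c → x ∈ T) : D i ≤ T := by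
  rcases hO.dim with h | h
  · obtain ⟨s, hs, hsQ⟩ := exists_norm hD i hc
    obtain ⟨s', hs', hs'Q, hn⟩ := exists_norm_indep (hD.ndOn i) (by rw [hD.dim, h])
      (fun x hx hx0 hxQ => le_trans (by norm_num) (hO.plane h i x hx hx0 hxQ)) hs
      (by rw [hsQ]; exact hc)
    exact le_of_indep (by rw [hD.dim, h]) hs (fun e => hc (by rw [← hsQ, e, QuadraticMap.map_zero]))
      hs' hn (hT s hs hsQ) (hT s' hs' (hs'Q.trans hsQ))
  · exact le_of_norm_big (hD.ndOn i) (by rw [hD.dim]; exact h) hc hT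

theorem exists_swap {i l : Fin t} (hil : i ≠ l) :
    ∃ s : orth Q, (∀ x, s.1 (s.1 x) = x) ∧ (∀ x ∈ D i, s.1 x ∈ D l) ∧ (∀ x ∈ D l, s.1 x ∈ D i) ∧
      ∀ m, m ≠ i → m ≠ l → ∀ x ∈ D m, s.1 x = x := by
  obtain ⟨e, he⟩ := hD.iso i l
  let P : ∀ m, V →ₗ[F] D m := fun m => (prL hD m).codRestrict (D m) (pr_mem hD m)
  let T : V →ₗ[F] V := LinearMap.id - prL hD i - prL hD l +
    (D l).subtype ∘ₗ e.toLinearMap ∘ₗ P i + (D i).subtype ∘ₗ e.symm.toLinearMap ∘ₗ P l
  have hT : ∀ x, T x = x - pr hD i x - pr hD l x + (e (P i x) : V) + (e.symm (P l x) : V) :=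
    fun x => rfl
  have hP : ∀ m x, (P m x : V) = pr hD m x := fun m x => rfl
  have hi : ∀ x, pr hD i (T x) = (e.symm (P l x) : V) := fun x => by
    rw [hT, pr_add, pr_add, pr_sub, pr_sub, pr_self hD (pr_mem hD i x),
      pr_other hD hil.symm (pr_mem hD l x), pr_other hD hil.symm (e (P i x)).2,
      pr_self hD (e.symm (P l x)).2]
    simp
  have hl : ∀ x, pr hD l (T x) = (e (P i x) : V) := fun x => by
    rw [hT, pr_add, pr_add, pr_sub, pr_sub, pr_self hD (pr_mem hD l x),
      pr_other hD hil (pr_mem hD i x), pr_self hD (e (P i x)).2,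
      pr_other hD hil (e.symm (P l x)).2]
    simp
  have hinv : Function.Involutive T := fun x => by
    have h1 : P i (T x) = e.symm (P l x) := Subtype.ext (hi x)
    have h3 : P l (T x) = e (P i x) := Subtype.ext (hl x)
    rw [hT (T x), hi, hl, h1, h3, LinearEquiv.apply_symm_apply, LinearEquiv.symm_apply_apply, hP,
      hP, hT]
    abel
  have hQ : ∀ x, Q (T x) = Q x := fun x => by
    classical
    rw [form_sum hD (T x), form_sum hD x]
    refine Finset.sum_equiv (Equiv.swap i l) (by simp) fun m _ => ?_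
    by_cases hmi : m = i
    · subst hmi
      rw [Equiv.swap_apply_left, hi, ← hP l x, ← he, LinearEquiv.apply_symm_apply]
    by_cases hml : m = l
    · subst hml
      rw [Equiv.swap_apply_right, hl, he, hP]
    rw [Equiv.swap_apply_of_ne_of_ne hmi hml, hT, pr_add, pr_add, pr_sub, pr_sub,
      pr_other hD (Ne.symm hmi) (pr_mem hD i x), pr_other hD (Ne.symm hml) (pr_mem hD l x),
      pr_other hD (Ne.symm hml) (e (P i x)).2, pr_other hD (Ne.symm hmi) (e.symm (P l x)).2]
    simp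
  refine ⟨⟨LinearEquiv.ofInvolutive T hinv, hQ⟩, hinv, fun x hx => ?_, fun x hx => ?_,
    fun m hmi hml x hx => ?_⟩
  · show T x ∈ D l
    rw [hT, pr_self hD hx, pr_other hD hil hx,
      show P l x = 0 from Subtype.ext (by rw [hP, pr_other hD hil hx]; rfl)]
    simp
  · show T x ∈ D i
    rw [hT, pr_self hD hx, pr_other hD hil.symm hx,
      show P i x = 0 from Subtype.ext (by rw [hP, pr_other hD hil.symm hx]; rfl)]
    simp
  · show T x = x
    rw [hT, pr_other hD hmi hx, pr_other hD hml hx,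
      show P i x = 0 from Subtype.ext (by rw [hP, pr_other hD hmi hx]; rfl),
      show P l x = 0 from Subtype.ext (by rw [hP, pr_other hD hml hx]; rfl)]
    simp

/-- A three-cycle of members fixing the others pointwise, inside `eichGroup`. -/
theorem exists_cycle_raw {i l m : Fin t} (hil : i ≠ l) (him : i ≠ m) (hlm : l ≠ m) :
    ∃ h ∈ eichGroup Q, Perm D h ∧ (∀ x ∈ D i, h.1 x ∈ D l) ∧ (∀ x ∈ D l, h.1 x ∈ D m) ∧
      (∀ x ∈ D m, h.1 x ∈ D i) ∧ ∀ p, p ≠ i → p ≠ l → p ≠ m → ∀ x ∈ D p, h.1 x = x := by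
  obtain ⟨a, ainv, a1, a2, a3⟩ := exists_swap hD hil
  obtain ⟨b, binv, b1, b2, b3⟩ := exists_swap hD hlm
  have hi' : ∀ s : orth Q, (∀ x, s.1 (s.1 x) = x) → s⁻¹ = s := fun s hs =>
    inv_eq_of_mul_eq_one_right (orth_ext hs)
  have hE : b * a * b⁻¹ * a⁻¹ ∈ eichGroup Q := by
    rw [← OrthStab.commutator_eq hD.nd hD.big, commutator_def]
    exact Subgroup.commutator_mem_commutator (Subgroup.mem_top b) (Subgroup.mem_top a)
  rw [hi' b binv, hi' a ainv] at hE
  have happ : ∀ x, (b * a * b * a).1 x = b.1 (a.1 (b.1 (a.1 x))) := fun x => rfl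
  have hi : ∀ x ∈ D i, (b * a * b * a).1 x ∈ D l := fun x hx => by
    have h' := b1 _ (a1 x hx)
    rw [happ, a3 m him.symm hlm.symm _ h']
    exact b2 _ h'
  have hl : ∀ x ∈ D l, (b * a * b * a).1 x ∈ D m := fun x hx => by
    have h' := a2 x hx
    rw [happ, b3 i hil him _ h']
    exact b1 _ (a1 _ h')
  have hm : ∀ x ∈ D m, (b * a * b * a).1 x ∈ D i := fun x hx => by
    rw [happ, a3 m him.symm hlm.symm x hx]
    have h' := a2 _ (b2 x hx)
    rw [b3 i hil him _ h']
    exact h'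
  have hrest : ∀ p, p ≠ i → p ≠ l → p ≠ m → ∀ x ∈ D p, (b * a * b * a).1 x = x :=
    fun p hpi hpl hpm x hx => by
      rw [happ, a3 p hpi hpl x hx, b3 p hpl hpm x hx, a3 p hpi hpl x hx, b3 p hpl hpm x hx]
  refine ⟨_, hE, fun p => ?_, hi, hl, hm, hrest⟩
  by_cases hpi : p = i
  · subst hpi; exact ⟨l, hi⟩
  by_cases hpl : p = l
  · subst hpl; exact ⟨m, hl⟩
  by_cases hpm : p = m
  · subst hpm; exact ⟨i, hm⟩
  exact ⟨p, fun x hx => by rw [hrest p hpi hpl hpm x hx]; exact hx⟩

variable {M : Subgroup (orth Q)} (hM : ∀ h ∈ eichGroup Q, Perm D h → h ∈ M)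
include hM

theorem rf_pair {i l : Fin t} {x y : V} (hx : x ∈ D i) (hy : y ∈ D l) (hxQ : Q x ≠ 0)
    (hyQ : Q y ≠ 0) (h : IsSquare (Q x / Q y)) : rf Q x * rf Q y ∈ M :=
  hM _ (rf_mul_rf_mem_sq hD hxQ hyQ h) ((fix_rf hD hx).mul (fix_rf hD hy)).perm

theorem rf_pair_eq {i l : Fin t} {x y : V} (hx : x ∈ D i) (hy : y ∈ D l) (hxQ : Q x ≠ 0)
    (h : Q x = Q y) : rf Q x * rf Q y ∈ M :=
  rf_pair hD hM hx hy hxQ (h ▸ hxQ) (by rw [← h, div_self hxQ]; exact IsSquare.one)

theorem eich_mem {i : Fin t} {c b : V} (hc : c ∈ D i) (hb : b ∈ D i) (hcQ : Q c = 0)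
    (hcb : polar Q c b = 0) : eich Q c b ∈ M := by
  refine hM _ (eich_mem_eichGroup _ _) (Fix.perm fun l x hx => ?_)
  rw [eich_apply hcQ hcb]
  by_cases h : i = l
  · subst h
    exact sub_mem (sub_mem (add_mem hx ((D i).smul_mem _ hb)) ((D i).smul_mem _ hc))
      ((D i).smul_mem _ hc)
  · rw [hD.orth i l h c hc x hx, hD.orth i l h b hb x hx]; simpa using hx

theorem inW_member {i : Fin t} {c b : V} (hc : c ∈ D i) (hb : b ∈ D i) (hcQ : Q c = 0)
    (hcb : polar Q c b = 0) : InW M c b := ⟨hcb, eich_mem hD hM hc hb hcQ hcb⟩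

theorem exists_cycle {i l m : Fin t} (hil : i ≠ l) (him : i ≠ m) (hlm : l ≠ m) :
    ∃ h ∈ M, (∀ x ∈ D i, h.1 x ∈ D l) ∧ (∀ x ∈ D l, h.1 x ∈ D m) ∧
      (∀ x ∈ D m, h.1 x ∈ D i) ∧ ∀ p, p ≠ i → p ≠ l → p ≠ m → ∀ x ∈ D p, h.1 x = x := by
  obtain ⟨h, hh, hp, h1, h2, h3, h4⟩ := exists_cycle_raw hD hil him hlm
  exact ⟨h, hM h hh hp, h1, h2, h3, h4⟩

/-- A full centre moved off its orthogonal gives all of `Ω`. -/
theorem done_of_full {u : V} (hu : Q u = 0) (hF : Full M u) {h : orth Q} (hh : h ∈ M)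
    (hne : polar Q u (h.1 u) ≠ 0) : eichGroup Q ≤ M :=
  eichGroup_le_of_hypPair hD.nd hD.big hu (by rw [map_form, hu]) hne hF (hF.map hh)

theorem rel_member {i l : Fin t} {x y : V} (hx : x ∈ D i) (hy : y ∈ D l) (hxQ : Q x ≠ 0)
    (h : Q x = Q y) : Rel M x y := ⟨h, rf_pair_eq hD hM hx hy hxQ h⟩

end Cfsg.Agent.OrthDec99
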