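import Cfsg.Agent.OrthDec99.Reach

/-!
Members of dimension at least four, at least three of them (helper99).
-/

set_option autoImplicit false
set_option linter.unusedSectionVars false

namespace Cfsg.Agent.OrthDec99

open QuadraticMap Cfsg.Agent.UnitaryOrthogonal Cfsg.Agent.OrthStab
open Cfsg.Agent.Wreath (Nd cut mem_cut finrank_cut Perm)

variable {F : Type*} [Field F] [Finite F] {V : Type*} [AddCommGroup V] [Module F V]
variable [FiniteDimensional F V] {Q : QuadraticForm F V}

theorem exists_third {t : ℕ} (ht : 3 ≤ t) (a b : Fin t) : ∃ l, l ≠ a ∧ l ≠ b := by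
  classical
  obtain ⟨l, -, hl⟩ := Finset.exists_mem_notMem_of_card_lt_card (s := ({a, b} : Finset (Fin t)))
    (t := Finset.univ) (lt_of_le_of_lt Finset.card_le_two (by
      rw [Finset.card_univ, Fintype.card_fin]; omega))
  simp only [Finset.mem_insert, Finset.mem_singleton, not_or] at hl
  exact ⟨l, hl⟩

variable {t k : ℕ} {D : Fin t → Submodule F V} (hD : Sys Q k D)
variable {M : Subgroup (orth Q)} (hM : ∀ h ∈ eichGroup Q, Perm D h → h ∈ M)
include hD hM

/-- Orthogonal cuts of equal value give a vector congruent to the members outside them. -/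
theorem hasNonmember_of_cuts (hO : Ok Q k D) (ht : 3 ≤ t)
    (hpq : ∀ w : V, ∃ i j : Fin t, i ≠ j ∧ ∃ p ∈ cut Q (D i) w, ∃ q ∈ cut Q (D j) w,
      Q p ≠ 0 ∧ Q q = Q p)
    (hval : ∀ (m : Fin t) (v : V), ∃ s ∈ cut Q (D m) v, Q s ≠ 0) {g : orth Q} (hg : g ∈ M)
    (hgP : ¬ Perm D g) : HasNonmember M D := by
  obtain ⟨b, hb, hbQ⟩ := exists_norm hD (⟨0, by omega⟩ : Fin t) (one_ne_zero (α := F))
  set w := g⁻¹.1 b with hw
  obtain ⟨i₀, i₁, hi, p, hp, q, hq, hp0, hqQ⟩ := hpq w
  set x := g * (rf Q p * rf Q q) * g⁻¹ with hx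
  have hxM : x ∈ M :=
    mul_mem (mul_mem hg (rf_pair_eq hD hM hp.1 hq.1 hp0 hqQ.symm)) (inv_mem hg)
  have hxb : x.1 b = b := by
    rw [hx, coe_mul_apply, coe_mul_apply, ← hw, coe_mul_apply,
      rf_apply_of_polar (a := q) (by rw [polar_comm]; exact hq.2),
      rf_apply_of_polar (by rw [polar_comm]; exact hp.2), hw, coe_apply_inv_apply]
  by_cases hxP : Perm D x
  swap
  · exact hasNonmember_of_move hD hM hO hxM hxP hb (by rw [hbQ]; exact one_ne_zero)
      (hxb.symm ▸ hb)
  have hconj : ∀ y z : V, g * (rf Q y * rf Q z) * g⁻¹ = rf Q (g.1 y) * rf Q (g.1 z) := by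
    intro y z
    rw [← conj_rf g y, ← conj_rf g z]
    simp [mul_assoc]
  have hgp0 : Q (g.1 p) ≠ 0 := by rw [map_form]; exact hp0
  rw [hx, hconj] at hxP
  obtain ⟨a, a', hpa, -⟩ := mem_pair_of_perm hD hgp0
    (by rw [map_form, hqQ]; exact hp0) (fun r e => hi (by
      rw [← map_smul] at e
      have e' : q = r • p := g.1.injective e
      by_contra hne
      have hq0 := pr_self hD hq.1
      rw [e', pr_smul, pr_other hD hne hp.1, smul_zero] at hq0
      rw [← e'] at hq0
      rw [← hq0, QuadraticMap.map_zero] at hqQ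
      exact hp0 hqQ.symm)) hxP
  by_cases hmem : ∃ l, g.1 p ∈ D l
  · obtain ⟨l, hl⟩ := hmem
    exact hasNonmember_of_move hD hM hO hg hgP hp.1 hp0 hl
  simp only [not_exists] at hmem
  have haa : pr hD a (g.1 p) ≠ 0 := fun e => hmem a' (mem_of_pr hD fun m hm => by
    by_cases hma : m = a
    · subst hma; exact e
    · exact pr_of_mem_sup hD hma hm hpa)
  have haa' : pr hD a' (g.1 p) ≠ 0 := fun e => hmem a (mem_of_pr hD fun m hm => by
    by_cases hma : m = a'
    · subst hma; exact e
    · exact pr_of_mem_sup hD hm hma hpa)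
  obtain ⟨l, hla, hla'⟩ := exists_third ht a a'
  -- every vector of value one goes to the two members
  have all : ∀ m, ∀ q' ∈ D m, Q q' = Q p → HasNonmember M D ∨ g.1 q' ∈ D a ⊔ D a' := by
    intro m q' hq' hq'Q
    by_cases hdep : ∃ r : F, g.1 q' = r • g.1 p
    · obtain ⟨r, hr⟩ := hdep
      exact Or.inr (hr ▸ Submodule.smul_mem _ r hpa)
    simp only [not_exists] at hdep
    obtain ⟨s, hs, hsQ⟩ := hval l (g.1 q')
    have hps : polar Q (g.1 p) s = 0 := by
      rw [← pr_polar hD hs.1, pr_of_mem_sup hD hla hla' hpa, polar_zero_left]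
    have hyM : rf Q (g.1 p) * rf Q (g.1 q') ∈ M := by
      rw [← hconj]
      exact mul_mem (mul_mem hg (rf_pair_eq hD hM hp.1 hq' hp0 hq'Q.symm)) (inv_mem hg)
    have hys : (rf Q (g.1 p) * rf Q (g.1 q')).1 s = s := by
      rw [coe_mul_apply, rf_apply_of_polar (a := g.1 q') hs.2, rf_apply_of_polar hps]
    by_cases hyP : Perm D (rf Q (g.1 p) * rf Q (g.1 q'))
    swap
    · exact Or.inl (hasNonmember_of_move hD hM hO hyM hyP hs.1 hsQ
        (hys.symm ▸ hs.1))
    obtain ⟨b₁, b₂, hb₁, hb₂⟩ := mem_pair_of_perm hD hgp0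
      (by rw [map_form, hq'Q]; exact hp0) hdep hyP
    refine Or.inr (mem_sup_of_pr hD fun n hna hna' => ?_)
    have h1 : a = b₁ ∨ a = b₂ := by
      by_contra h; simp only [not_or] at h; exact haa (pr_of_mem_sup hD h.1 h.2 hb₁)
    have h2 : a' = b₁ ∨ a' = b₂ := by
      by_contra h; simp only [not_or] at h; exact haa' (pr_of_mem_sup hD h.1 h.2 hb₁)
    have hne : a ≠ a' := fun e => hmem a (by
      have h := hpa
      rwa [← e, sup_idem] at h)
    refine pr_of_mem_sup hD (fun e => ?_) (fun e => ?_) hb₂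
    · rcases h1 with h1 | h1
      · exact hna (e.trans h1.symm)
      · rcases h2 with h2 | h2
        · exact hna' (e.trans h2.symm)
        · exact hne (h1.trans h2.symm)
    · rcases h1 with h1 | h1
      · rcases h2 with h2 | h2
        · exact hne (h1.trans h2.symm)
        · exact hna' (e.trans h2.symm)
      · exact hna (e.trans h1.symm)
  by_cases hN : HasNonmember M D
  · exact hN
  exfalso
  obtain ⟨s, hs, hsQ⟩ := exists_norm hD l hp0
  have htop : ∀ v, g.1 v ∈ D a ⊔ D a' := fun v => by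
    have hv : v ∈ iSup D := hD.top ▸ Submodule.mem_top
    refine Submodule.iSup_induction D (motive := fun v => g.1 v ∈ D a ⊔ D a') hv
      (fun m y hy => ?_) (by rw [map_zero]; exact zero_mem _)
      (fun y z hy hz => by rw [map_add]; exact add_mem hy hz)
    exact exists_norm_span hD hO m hp0
      (T := (D a ⊔ D a').comap g.1.toLinearMap)
      (fun z hz hzQ => (all m z hz hzQ).resolve_left hN) hy
  have := pr_of_mem_sup hD hla hla' (htop (g⁻¹.1 s))
  rw [coe_apply_inv_apply, pr_self hD hs] at this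
  rw [this, QuadraticMap.map_zero] at hsQ
  exact hp0 hsQ.symm

/-- A large member gives a vector congruent to the members outside them. -/
theorem hasNonmember_big (hO : Ok Q k D) (hk : 4 ≤ k) (ht : 3 ≤ t) {g : orth Q} (hg : g ∈ M)
    (hgP : ¬ Perm D g) : HasNonmember M D := by
  have val : ∀ (m : Fin t) (v : V), ∃ s ∈ cut Q (D m) v, Q s = 1 := fun m v =>
    exists_value_of_le (hD.ndOn m) inf_le_left (by rw [hD.dim]; exact hk) (finrank_cut _ v)
      one_ne_zero
  refine hasNonmember_of_cuts hD hM hO ht (fun w => ?_) (fun m v => ?_) hg hgP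
  · obtain ⟨p, hp, hpQ⟩ := val ⟨0, by omega⟩ w
    obtain ⟨q, hq, hqQ⟩ := val ⟨1, by omega⟩ w
    exact ⟨⟨0, by omega⟩, ⟨1, by omega⟩, fun h => by simpa using congrArg Fin.val h, p, hp, q, hq,
      by rw [hpQ]; exact one_ne_zero, hqQ.trans hpQ.symm⟩
  · obtain ⟨s, hs, hsQ⟩ := val m v
    exact ⟨s, hs, by rw [hsQ]; exact one_ne_zero⟩

/-- The roots at a singular member vector cover another member once they meet it. -/
theorem member_le (hk : 4 ≤ k) {i l : Fin t} (hil : i ≠ l) {d : V} (hd : d ∈ D i) (hdQ : Q d = 0)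
    (hd0 : d ≠ 0) {z : V} (hz : z ∈ D l) (hz0 : z ≠ 0) (hzd : InW M d z) :
    ∀ y ∈ D l, InW M d y := by
  obtain ⟨f, hf, hfQ, hdf⟩ := exists_partner (hD.ndOn i) hd hdQ hd0
  have hfd : polar Q f d = 1 := by rw [polar_comm]; exact hdf
  have hW := nd_cut_pair (hD.ndOn i) hd hf hdQ hfQ hdf
  have hWd : 2 ≤ Module.finrank F (cut Q (cut Q (D i) d) f) := by
    have := finrank_cut_pair (S := D i) (Q := Q) d f
    have := hD.dim i
    omega
  have hdl : ∀ y ∈ D l, polar Q d y = 0 := fun y hy => hD.orth i l hil d hd y hy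
  have hfix : ∀ w ∈ D i, ∀ y ∈ D l, (rf Q w).1 y = y := fun w hw y hy =>
    rf_apply_of_polar (hD.orth i l hil w hw y hy)
  let S : Submodule F V :=
    { carrier := {y | y ∈ D l ∧ InW M d y}
      zero_mem' := ⟨zero_mem _, InW.zero M d⟩
      add_mem' := fun {y y'} hy hy' => ⟨add_mem hy.1 hy'.1, hy.2.add hdQ hy'.2⟩
      smul_mem' := fun r y hy => by
        refine ⟨(D l).smul_mem r hy.1, ?_⟩
        by_cases hr : r = 0
        · rw [hr, zero_smul]; exact InW.zero M d
        obtain ⟨x₁, hx₁, hx₁Q⟩ := exists_value hW hWd (neg_ne_zero.mpr (one_ne_zero (α := F)))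
        obtain ⟨x₂, hx₂, hx₂Q⟩ := exists_value hW hWd (neg_ne_zero.mpr hr)
        have hQ1 : Q (d - f) = -1 := by
          rw [sub_eq_add_neg, form_add, QuadraticMap.map_neg, polar_neg_right, hdQ, hfQ, hdf]
          ring
        have hQr : Q (d - r • f) = -r := by
          rw [sub_eq_add_neg, ← neg_smul, form_add, form_smul, polar_smul_right, hdQ, hfQ, hdf,
            smul_eq_mul]
          ring
        set h := rf Q (d - f) * rf Q x₁ * (rf Q x₂ * rf Q (d - r • f)) with hh
        have hhM : h ∈ M := mul_mem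
          (rf_pair_eq hD hM (sub_mem hd hf) hx₁.1.1
            (by rw [hQ1]; exact neg_ne_zero.mpr one_ne_zero) (hQ1.trans hx₁Q.symm))
          (rf_pair_eq hD hM hx₂.1.1 (sub_mem hd ((D i).smul_mem r hf))
            (by rw [hx₂Q]; exact neg_ne_zero.mpr hr) (hx₂Q.trans hQr.symm))
        have hhd : h.1 d = r • d := by
          have e1 : (rf Q (d - r • f)).1 d = r • f := by
            rw [rf_apply, hQr, polar_sub_left, polar_smul_left, polar_self_eq, hdQ, hfd, mul_zero,
              zero_sub, smul_eq_mul, mul_one, inv_mul_cancel₀ (neg_ne_zero.mpr hr), one_smul]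
            abel
          have o : ∀ v ∈ cut Q (cut Q (D i) d) f, ∀ r : F, polar Q v (r • f) = 0 := fun v hv r => by
            rw [polar_smul_right, polar_comm, show polar Q f v = 0 from hv.2, smul_zero]
          rw [hh, coe_mul_apply, coe_mul_apply, coe_mul_apply, e1,
            rf_apply_of_polar (o x₂ hx₂ r), rf_apply_of_polar (o x₁ hx₁ r), map_smul, rf_apply,
            hQ1, polar_sub_left, hdf, polar_self_eq, hfQ, mul_zero, sub_zero, mul_one,
            show (-1 : F)⁻¹ = -1 by norm_num]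
          module
        have hhy : h.1 y = y := by
          rw [hh, coe_mul_apply, coe_mul_apply, coe_mul_apply,
            hfix _ (sub_mem hd ((D i).smul_mem r hf)) y hy.1, hfix _ hx₂.1.1 y hy.1,
            hfix _ hx₁.1.1 y hy.1, hfix _ (sub_mem hd hf) y hy.1]
        have := hy.2.map hhM
        rw [hhd, hhy] at this
        exact (InW.smul_left hdQ hr).mp this }
  have hpair : IsOrthPair Q (perpOf Q (D l)) (D l) :=
    ⟨hD.nd, by
      have hdis : Disjoint (perpOf Q (D l)) (D l) := Submodule.disjoint_def.mpr fun v hv hv' =>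
        hD.ndOn l v hv' fun w hw => mem_perpOf.mp hv w hw
      refine ⟨hdis, codisjoint_iff.mpr (Submodule.eq_top_of_finrank_eq ?_)⟩
      have e := Submodule.finrank_sup_add_finrank_inf_eq (perpOf Q (D l)) (D l)
      rw [disjoint_iff.mp hdis, finrank_bot, add_zero, finrank_perpOf hD.nd (D l)] at e
      exact e,
     fun x hx y hy => mem_perpOf.mp hx y hy⟩
  have hle : D l ≤ S := by
    refine eq_of_invariant hpair (fun _ h2 => absurd h2 (by rw [hD.dim]; omega)) (fun y hy => hy.1)
      (fun e => hz0 ((Submodule.eq_bot_iff S).mp e z ⟨hz, hzd⟩))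
      (fun s hs p hp hpQ hsp => ?_) (fun u hu z' hz' huQ huz s hs => ?_)
    · obtain ⟨y, hy, hyQ⟩ := exists_value hW hWd hpQ
      have hh := rf_pair_eq hD hM hp hy.1.1 hpQ hyQ.symm
      have hhd : (rf Q p * rf Q y).1 d = d := by
        rw [coe_mul_apply, rf_apply_of_polar (a := y) (by rw [polar_comm]; exact hy.1.2),
          rf_apply_of_polar (by rw [polar_comm]; exact hdl p hp)]
      have hhs : (rf Q p * rf Q y).1 s = s - ((Q p)⁻¹ * polar Q p s) • p := by
        rw [coe_mul_apply, hfix y hy.1.1 s hs.1, rf_apply]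
      have hmem : s - ((Q p)⁻¹ * polar Q p s) • p ∈ S := by
        rw [← hhs]
        exact ⟨by rw [hhs]; exact sub_mem hs.1 ((D l).smul_mem _ hp), hs.2.map_fix hh hhd⟩
      have h' := sub_mem hs hmem
      rw [sub_sub_cancel] at h'
      exact (Submodule.smul_mem_iff S (mul_ne_zero (inv_ne_zero hpQ) (by rwa [polar_comm]))).mp h'
    · refine ⟨?_, hs.2.map_fix (eich_mem hD hM hu hz' huQ huz) ?_⟩
      · rw [eich_apply huQ huz]
        exact sub_mem (sub_mem (add_mem hs.1 ((D l).smul_mem _ hz')) ((D l).smul_mem _ hu))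
          ((D l).smul_mem _ hu)
      · rw [eich_apply huQ huz, polar_comm Q u d, hdl u hu, polar_comm Q z' d, hdl z' hz']
        simp
  exact fun y hy => (hle hy).2

/-- Roots at singular vectors of `D i` cover `D l`. -/
def Link (M : Subgroup (orth Q)) (D : Fin t → Submodule F V) (i l : Fin t) : Prop :=
  ∀ d ∈ D i, Q d = 0 → ∀ y ∈ D l, InW M d y

theorem link_of_cover (hk : 4 ≤ k) {i l : Fin t} (hil : i ≠ l) {d : V} (hd : d ∈ D i)
    (hdQ : Q d = 0) (hd0 : d ≠ 0) (hcov : ∀ y ∈ D l, InW M d y) : Link M D l i := by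
  intro c hc hcQ y hy
  by_cases hc0 : c = 0
  · subst hc0
    refine ⟨polar_zero_left Q y, ?_⟩
    have e : eich Q (0 : V) y = 1 := orth_ext fun x => by
      rw [eich_apply (QuadraticMap.map_zero Q) (polar_zero_left Q _)]; simp
    rw [e]; exact one_mem M
  exact member_le hD hM hk hil.symm hc hcQ hc0 hd hd0 ((hcov c hc).swap hdQ hcQ) y hy

theorem eichGroup_le_big (hk : 4 ≤ k) (ht : 3 ≤ t) (hN : HasNonmember M D) :
    eichGroup Q ≤ M := by
  obtain ⟨c, hc, a, ha, hout⟩ := hN
  have haQ := ha.norm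
  obtain ⟨i, hi⟩ : ∃ i, Q (pr hD i a) ≠ 0 := by
    by_contra h
    simp only [not_exists, not_not] at h
    exact hc (by rw [← haQ, form_sum hD a]; exact Finset.sum_eq_zero fun i _ => h i)
  obtain ⟨l, hli, hl⟩ : ∃ l, l ≠ i ∧ pr hD l a ≠ 0 := by
    by_contra h
    simp only [not_exists, not_and, not_not] at h
    exact hout i (mem_of_pr hD h)
  set ai := pr hD i a with hai
  have haiD := pr_mem hD i a
  obtain ⟨d, hd, hd0, hdQ⟩ := exists_singular_mem (Q := Q) (cut Q (D i) ai) (by
    have := finrank_cut (Q := Q) (D i) ai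
    have := hD.dim i
    omega)
  obtain ⟨f, hf, hfQ, hdf⟩ := exists_partner (hD.ndOn i) hd.1 hdQ hd0
  have hfd : polar Q f d = 1 := by rw [polar_comm]; exact hdf
  have hW := nd_cut_pair (hD.ndOn i) hd.1 hf hdQ hfQ hdf
  have had : polar Q d ai = 0 := by rw [polar_comm]; exact hd.2
  set a' := ai - polar Q f ai • d with ha'
  have ha'W : a' ∈ cut Q (cut Q (D i) d) f := by
    refine ⟨⟨sub_mem haiD ((D i).smul_mem _ hd.1), ?_⟩, ?_⟩
    · show polar Q d a' = 0
      rw [ha', polar_sub_right, polar_smul_right, had, polar_self_eq, hdQ]; simp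
    · show polar Q f a' = 0
      rw [ha', polar_sub_right, polar_smul_right, hfd]; simp
  have ha'Q : Q a' = Q ai := by
    rw [ha', sub_eq_add_neg, ← neg_smul, form_add, form_smul, hdQ, polar_smul_right,
      show polar Q ai d = 0 from hd.2]
    simp
  obtain ⟨y, hy, hay⟩ := exists_one hW ha'W (fun e => hi (by
    rw [← ha'Q, e, QuadraticMap.map_zero]))
  have hdy : polar Q d y = 0 := hy.1.2
  have hya : polar Q (-y) a = -1 := by
    rw [polar_neg_left, polar_comm, ← pr_polar hD hy.1.1, ← hai]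
    rw [ha', polar_sub_left, polar_smul_left, hdy, smul_zero, sub_zero] at hay
    rw [hay]
  have hda : polar Q d a = 0 := by rw [polar_comm, ← pr_polar hD hd.1, ← hai]; exact hd.2
  set h := eich Q d (-y) with hh
  have hhM : h ∈ M := eich_mem hD hM hd.1 (neg_mem hy.1.1) hdQ (by rw [polar_neg_right, hdy, neg_zero])
  have hha : h.1 a = a + d := by
    rw [hh, eich_apply hdQ (by rw [polar_neg_right, hdy, neg_zero]), hda, hya]
    module
  have hperm : Perm D h := Fix.perm fun n x hx => by
    rw [hh, eich_apply hdQ (by rw [polar_neg_right, hdy, neg_zero])]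
    by_cases e : i = n
    · subst e
      exact sub_mem (sub_mem (add_mem hx ((D i).smul_mem _ (neg_mem hy.1.1)))
        ((D i).smul_mem _ hd.1)) ((D i).smul_mem _ hd.1)
    · rw [hD.orth i n e d hd.1 x hx, hD.orth i n e (-y) (neg_mem hy.1.1) x hx]; simpa using hx
  have hrel : Rel M a (a + d) := by
    rw [← hha]
    exact Reach.rel hD hM hc ha (Reach.map_perm hD hM hc ha hhM hperm)
  have hw : InW M d (c⁻¹ • a) :=
    (InW.smul_left hdQ (inv_ne_zero hc)).mp (InW.of_rel hc haQ hdQ hda hrel)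
  -- a component in another member
  set w := c⁻¹ • a with hwdef
  have hwl : pr hD l w ≠ 0 := by rw [hwdef, pr_smul]; exact smul_ne_zero (inv_ne_zero hc) hl
  clear_value w
  obtain ⟨z, hz, hz0, hzd⟩ : ∃ z ∈ D l, z ≠ 0 ∧ InW M d z := by
    obtain ⟨c', hc', hc'Q, hc'w⟩ : ∃ c' ∈ D l, Q c' = 0 ∧ polar Q c' w ≠ 0 := by
      by_contra h
      simp only [not_exists, not_and, not_not] at h
      obtain ⟨p, hp, hp0, hpQ⟩ := exists_singular_mem (Q := Q) (D l) (by rw [hD.dim]; omega)
      obtain ⟨y', hy', hy'1⟩ := exists_one (hD.ndOn l) (pr_mem hD l w) hwl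
      have := le_of_singular (hD.ndOn l) hp hpQ hp0 (T := LinearMap.ker (polarBilin Q w))
        (fun x hx hxQ => by
          show polar Q w x = 0
          rw [polar_comm]; exact h x hx hxQ) hy'
      rw [pr_polar hD hy'] at hy'1
      exact one_ne_zero (hy'1.symm.trans this)
    have hc'0 : c' ≠ 0 := fun e => hc'w (by rw [e, polar_zero_left])
    obtain ⟨f', hf', hf'Q, hcf'⟩ := exists_partner (hD.ndOn l) hc' hc'Q hc'0
    obtain ⟨b, hb, hbQ⟩ := exists_aniso (nd_cut_pair (hD.ndOn l) hc' hf' hc'Q hf'Q hcf') (by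
      have := finrank_cut_pair (S := D l) (Q := Q) c' f'
      have := hD.dim l
      omega)
    have hcb : polar Q c' b = 0 := hb.1.2
    have hhd : (eich Q c' b).1 d = d := by
      rw [eich_apply hc'Q hcb, hD.orth l i hli c' hc' d hd.1, hD.orth l i hli b hb.1.1 d hd.1]
      simp
    refine ⟨(eich Q c' b).1 w - w, ?_, fun e => hc'w ?_,
      (hw.map_fix (eich_mem hD hM hc' hb.1.1 hc'Q hcb) hhd).sub hdQ hw⟩
    · have e : (eich Q c' b).1 w - w =
          polar Q c' w • b - polar Q b w • c' - (Q b * polar Q c' w) • c' := by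
        rw [eich_apply hc'Q hcb]; abel
      rw [e]
      exact sub_mem (sub_mem ((D l).smul_mem _ hb.1.1) ((D l).smul_mem _ hc'))
        ((D l).smul_mem _ hc')
    · rw [eich_apply hc'Q hcb] at e
      have e' := congrArg (polar Q f') e
      have hfb : polar Q f' b = 0 := hb.2
      have hfc : polar Q f' c' = 1 := by rw [polar_comm]; exact hcf'
      have hbb : b ≠ 0 := fun e0 => hbQ (by rw [e0, QuadraticMap.map_zero])
      by_contra hne
      have : polar Q c' w • b = (polar Q b w + Q b * polar Q c' w) • c' := by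
        rw [add_smul, ← sub_eq_zero, ← e]; abel
      have e2 := congrArg (polar Q f') this
      rw [polar_smul_right, polar_smul_right, hfb, hfc, smul_zero, smul_eq_mul, mul_one] at e2
      rw [← e2, zero_smul] at this
      exact hbb ((smul_eq_zero.mp this).resolve_left hne)
  have hcov := member_le hD hM hk hli.symm hd.1 hdQ hd0 hz hz0 hzd
  -- all members
  obtain ⟨p, hp, hp0, hpQ⟩ := exists_singular_mem (Q := Q) (D l) (by rw [hD.dim]; omega)
  have h1 : Link M D l i := link_of_cover hD hM hk hli.symm hd.1 hdQ hd0 hcov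
  have h0 : Link M D i l := link_of_cover hD hM hk hli hp hpQ hp0 (h1 p hp hpQ)
  have all : ∀ n, n ≠ i → Link M D i n := by
    intro n hni
    by_cases hnl : n = l
    · subst hnl; exact h0
    obtain ⟨g, hg, g1, g2, g3, -⟩ := exists_cycle hD hM hli.symm hni.symm (Ne.symm hnl)
    -- `(l, i) ↦ (n, l) ↦ (i, n)`
    have mapLink : ∀ {p q p' q' : Fin t}, (∀ x ∈ D p, g.1 x ∈ D p') → (∀ x ∈ D q, g.1 x ∈ D q') →
        Link M D p q → Link M D p' q' := by
      intro p q p' q' hp hq hL v hv hvQ y hy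
      have back : ∀ a b : Fin t, (∀ x ∈ D a, g.1 x ∈ D b) → ∀ x ∈ D b, ∃ x' ∈ D a, g.1 x' = x := by
        intro a b hab x hx
        let r : D a →ₗ[F] D b := g.1.toLinearMap.restrict hab
        have hinj : Function.Injective r := fun s s' hss =>
          Subtype.ext (g.1.injective (congrArg Subtype.val hss))
        obtain ⟨⟨x', hx'⟩, hxx⟩ := (LinearMap.injective_iff_surjective_of_finrank_eq_finrank
          (by rw [hD.dim, hD.dim])).mp hinj ⟨x, hx⟩
        exact ⟨x', hx', congrArg Subtype.val hxx⟩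
      obtain ⟨v', hv', rfl⟩ := back p p' hp v hv
      obtain ⟨y', hy', rfl⟩ := back q q' hq y hy
      exact (hL v' hv' (by rwa [map_form] at hvQ) y' hy').map hg
    exact mapLink g3 g2 (mapLink g2 g1 h1)
  have hfull : Full M d := by
    intro v hv
    have : InW M d (∑ n, pr hD n v) := InW.sum hdQ fun n _ => by
      by_cases e : n = i
      · subst e
        exact inW_member hD hM hd.1 (pr_mem hD _ v) hdQ
          (by rw [polar_comm, pr_polar hD hd.1, polar_comm]; exact hv)
      · exact all n e d hd.1 hdQ _ (pr_mem hD n v)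
    rw [sum_pr] at this
    exact this.2
  obtain ⟨x, hx, hxQ⟩ := exists_norm hD l (one_ne_zero (α := F))
  have hQ1 : Q (f + d) = 1 := by rw [form_add, hfQ, hdQ, hfd]; simp
  refine done_of_full hD hM hdQ hfull (rf_pair_eq hD hM (add_mem hf hd.1) hx
    (by rw [hQ1]; exact one_ne_zero) (hQ1.trans hxQ.symm)) ?_
  rw [coe_mul_apply, rf_apply_of_polar (a := x) (hD.orth l i hli x hx d hd.1), rf_apply, hQ1,
    polar_add_left, hfd, polar_self_eq, hdQ, mul_zero, add_zero, inv_one, one_mul, one_smul,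
    polar_sub_right, polar_add_right, hdf, polar_self_eq, hdQ]
  simp

end Cfsg.Agent.OrthDec99
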