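import Cfsg.Agent.MaxSub.Wreath

/-!
Non-degenerate subspaces of a quadratic space over a finite field of any characteristic: values,
spanning sets, totally singular subspaces (helper99).
-/

set_option autoImplicit false
set_option linter.unusedSectionVars false

namespace Cfsg.Agent.OrthDec99

open QuadraticMap Cfsg.Agent.UnitaryOrthogonal Cfsg.Agent.OrthStab
open Cfsg.Agent.Wreath (Nd cut mem_cut finrank_cut)

variable {F : Type*} [Field F] [Finite F] {V : Type*} [AddCommGroup V] [Module F V]
variable [FiniteDimensional F V] {Q : QuadraticForm F V}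

theorem char_two_of (h2 : (2 : F) = 0) : ringChar F = 2 := by
  have : CharP F 2 := CharTwo.of_one_ne_zero_of_two_eq_zero one_ne_zero h2
  exact ringChar.eq F 2

theorem exists_sqrt (h2 : (2 : F) = 0) (c : F) : ∃ r : F, r * r = c := by
  obtain ⟨r, hr⟩ := FiniteField.isSquare_of_char_two (char_two_of h2) c
  exact ⟨r, hr.symm⟩

theorem exists_sum_sq' (h2 : (2 : F) ≠ 0) {a b : F} (ha : a ≠ 0) (hb : b ≠ 0) (c : F) :
    ∃ s t : F, a * s ^ 2 + b * t ^ 2 = c := by
  haveI := Fintype.ofFinite F
  exact Reflections.exists_sum_sq h2 ha hb c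

variable {S : Submodule F V}

theorem exists_one (hS : Nd Q S) {s : V} (hs : s ∈ S) (hs0 : s ≠ 0) :
    ∃ y ∈ S, polar Q s y = 1 := by
  by_contra hc
  simp only [not_exists, not_and] at hc
  refine hs0 (hS s hs fun y hy => ?_)
  by_contra h
  exact hc _ (S.smul_mem (polar Q s y)⁻¹ hy)
    (by rw [polar_smul_right, smul_eq_mul, inv_mul_cancel₀ h])

theorem exists_aniso (hS : Nd Q S) (h0 : 0 < Module.finrank F S) : ∃ x ∈ S, Q x ≠ 0 := by
  by_contra hc
  simp only [not_exists, not_and, not_not] at hc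
  obtain ⟨x, hx, hx0⟩ := S.ne_bot_iff.mp fun h => by rw [h, finrank_bot] at h0; omega
  obtain ⟨y, hy, hxy⟩ := exists_one hS hx hx0
  have := hc _ (add_mem hx hy)
  rw [form_add, hc x hx, hc y hy, hxy, add_zero, zero_add] at this
  exact one_ne_zero this

/-- A totally isotropic subspace has at most half the dimension. -/
theorem finrank_isotropic (hS : Nd Q S) {U : Submodule F V} (hU : U ≤ S)
    (hiso : ∀ x ∈ U, ∀ y ∈ U, polar Q x y = 0) :
    Module.finrank F U + Module.finrank F U ≤ Module.finrank F S := by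
  obtain ⟨C, hC⟩ := Submodule.exists_isCompl U
  have hsum : U ⊔ C ⊓ S = S := by
    rw [← sup_inf_assoc_of_le C hU, hC.sup_eq_top, top_inf_eq]
  have hinf : U ⊓ (C ⊓ S) = ⊥ := by
    rw [← inf_assoc, hC.inf_eq_bot, bot_inf_eq]
  have e := Submodule.finrank_sup_add_finrank_inf_eq U (C ⊓ S)
  rw [hsum, hinf, finrank_bot, add_zero] at e
  let L : U →ₗ[F] Module.Dual F ↥(C ⊓ S) :=
    { toFun := fun x => (polarBilin Q (x : V)).comp (C ⊓ S).subtype
      map_add' := fun x y => by ext; simp
      map_smul' := fun c x => by ext; simp }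
  have hinj : Function.Injective L := by
    rw [injective_iff_map_eq_zero]
    intro x hx
    refine Subtype.ext (hS x (hU x.2) fun y hy => ?_)
    rw [← hsum] at hy
    obtain ⟨a, ha, b, hb, rfl⟩ := Submodule.mem_sup.mp hy
    have hb' : polar Q (x : V) b = 0 := LinearMap.congr_fun hx ⟨b, hb⟩
    rw [polar_add_right, hiso _ x.2 a ha, hb', add_zero]
  have := LinearMap.finrank_le_finrank_of_injective hinj
  rw [Subspace.dual_finrank_eq] at this
  omega

/-- A subspace on which the form vanishes is totally isotropic. -/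
theorem isotropic_of_singular {U : Submodule F V} (h : ∀ x ∈ U, Q x = 0) :
    ∀ x ∈ U, ∀ y ∈ U, polar Q x y = 0 := fun x hx y hy => by
  simp only [polar, h _ (add_mem hx hy), h x hx, h y hy, sub_self]

theorem exists_value (hS : Nd Q S) (hd : 2 ≤ Module.finrank F S) {c : F} (hc : c ≠ 0) :
    ∃ s ∈ S, Q s = c := by
  by_cases h2 : (2 : F) = 0
  · obtain ⟨x, hx, hxQ⟩ := exists_aniso hS (by omega)
    obtain ⟨r, hr⟩ := exists_sqrt h2 (c / Q x)
    exact ⟨r • x, S.smul_mem r hx, by rw [form_smul, hr, div_mul_cancel₀ _ hxQ]⟩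
  · exact Wreath.exists_value h2 hS hd c hc

/-- A hyperplane of a member of dimension at least four takes every non-zero value. -/
theorem exists_value_of_le (hS : Nd Q S) {U : Submodule F V} (hU : U ≤ S)
    (hd : 4 ≤ Module.finrank F S) (hUd : Module.finrank F S ≤ Module.finrank F U + 1) {c : F}
    (hc : c ≠ 0) : ∃ s ∈ U, Q s = c := by
  obtain ⟨x, hx, hxQ⟩ : ∃ x ∈ U, Q x ≠ 0 := by
    by_contra hno
    simp only [not_exists, not_and, not_not] at hno
    have := finrank_isotropic hS hU (isotropic_of_singular hno)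
    omega
  by_cases h2 : (2 : F) = 0
  · obtain ⟨r, hr⟩ := exists_sqrt h2 (c / Q x)
    exact ⟨r • x, U.smul_mem r hx, by rw [form_smul, hr, div_mul_cancel₀ _ hxQ]⟩
  obtain ⟨y, hy, hyQ⟩ : ∃ y ∈ cut Q U x, Q y ≠ 0 := by
    by_contra hno
    simp only [not_exists, not_and, not_not] at hno
    have hle : cut Q U x ≤ cut Q S x := inf_le_inf_right _ hU
    have h1 := finrank_isotropic (Wreath.nd_cut h2 hS (hU hx) hxQ) hle
      (isotropic_of_singular hno)
    have hxx : x ∉ cut Q S x := fun h => by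
      have : polar Q x x = 0 := h.2
      rw [polar_self_eq] at this
      exact mul_ne_zero h2 hxQ this
    have h3 : cut Q S x < S := lt_of_le_of_ne inf_le_left fun h => hxx (h.symm ▸ hU hx)
    have h4 := Submodule.finrank_lt_finrank_of_lt h3
    have h5 := finrank_cut (Q := Q) U x
    omega
  obtain ⟨s, t, h⟩ := exists_sum_sq' h2 hxQ hyQ c
  refine ⟨s • x + t • y, add_mem (U.smul_mem _ hx) (U.smul_mem _ hy.1), ?_⟩
  rw [form_add, form_smul, form_smul, polar_smul_left, polar_smul_right,
    show polar Q x y = 0 from hy.2]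
  simp
  linear_combination h

theorem exists_partner (hS : Nd Q S) {p : V} (hp : p ∈ S) (hpQ : Q p = 0) (hp0 : p ≠ 0) :
    ∃ f ∈ S, Q f = 0 ∧ polar Q p f = 1 := by
  obtain ⟨c, hc, hpc⟩ := exists_one hS hp hp0
  refine ⟨c + (-Q c) • p, add_mem hc (S.smul_mem _ hp), ?_, ?_⟩
  · rw [form_add, form_smul, hpQ, polar_smul_right, polar_comm, hpc]; simp
  · rw [polar_add_right, polar_smul_right, polar_self_eq, hpQ, hpc]; simp

theorem le_of_singular (hS : Nd Q S) {p : V} (hp : p ∈ S) (hpQ : Q p = 0) (hp0 : p ≠ 0)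
    {T : Submodule F V} (hT : ∀ x ∈ S, Q x = 0 → x ∈ T) : S ≤ T := by
  obtain ⟨f, hf, hfQ, hpf⟩ := exists_partner hS hp hpQ hp0
  have hfp : polar Q f p = 1 := by rw [polar_comm]; exact hpf
  intro x hx
  set e := x - polar Q f x • p - polar Q p x • f with he
  have heS : e ∈ S := sub_mem (sub_mem hx (S.smul_mem _ hp)) (S.smul_mem _ hf)
  have hpe : polar Q p e = 0 := by
    rw [he, polar_sub_right, polar_sub_right, polar_smul_right, polar_smul_right, hpf,
      polar_self_eq, hpQ]
    simp
  have hfe : polar Q f e = 0 := by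
    rw [he, polar_sub_right, polar_sub_right, polar_smul_right, polar_smul_right, hfp,
      polar_self_eq, hfQ]
    simp
  have h1 := hT (e + p + (-Q e) • f) (add_mem (add_mem heS hp) (S.smul_mem _ hf)) (by
    rw [form_add, form_add, form_smul, hfQ, hpQ, polar_comm Q e p, hpe, polar_add_left,
      polar_smul_right, polar_smul_right, polar_comm Q e f, hfe, hpf]
    simp)
  have e' : x = (e + p + (-Q e) • f) + (polar Q f x - 1) • p + (polar Q p x + Q e) • f := by
    rw [he]; module
  rw [e']
  exact add_mem (add_mem h1 (T.smul_mem _ (hT p hp hpQ))) (T.smul_mem _ (hT f hf hfQ))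

/-- The vectors of a given non-zero value span a member of dimension at least four. -/
theorem le_of_norm_big (hS : Nd Q S) (hd : 4 ≤ Module.finrank F S) {c : F} (hc : c ≠ 0)
    {T : Submodule F V} (hT : ∀ x ∈ S, Q x = c → x ∈ T) : S ≤ T := by
  obtain ⟨p, hp, hp0, hpQ⟩ := exists_singular_mem (Q := Q) S (by omega)
  refine le_of_singular hS hp hpQ hp0 fun x hx hxQ => ?_
  obtain ⟨y, hy, hyQ⟩ := exists_value_of_le hS (U := cut Q S x) inf_le_left hd
    (finrank_cut S x) hc
  have h := hT (x + y) (add_mem hx hy.1) (by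
    rw [form_add, hxQ, hyQ, show polar Q x y = 0 from hy.2]; simp)
  simpa using sub_mem h (hT y hy.1 hyQ)

theorem nd_cut_pair (hS : Nd Q S) {p f : V} (hp : p ∈ S) (hf : f ∈ S) (hpQ : Q p = 0)
    (hfQ : Q f = 0) (hpf : polar Q p f = 1) : Nd Q (cut Q (cut Q S p) f) := by
  intro s hs h
  refine hS s hs.1.1 fun y hy => ?_
  have hsp : polar Q s p = 0 := by rw [polar_comm]; exact hs.1.2
  have hsf : polar Q s f = 0 := by rw [polar_comm]; exact hs.2
  have hpp : polar Q p p = 0 := by rw [polar_self_eq, hpQ, mul_zero]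
  have hff : polar Q f f = 0 := by rw [polar_self_eq, hfQ, mul_zero]
  have := h (y - polar Q f y • p - polar Q p y • f)
    ⟨⟨sub_mem (sub_mem hy (S.smul_mem _ hp)) (S.smul_mem _ hf), by
      show polar Q p _ = 0
      rw [polar_sub_right, polar_sub_right, polar_smul_right, polar_smul_right, hpp, hpf]
      simp⟩, by
      show polar Q f _ = 0
      rw [polar_sub_right, polar_sub_right, polar_smul_right, polar_smul_right, hff,
        polar_comm Q f p, hpf]
      simp⟩
  rwa [polar_sub_right, polar_sub_right, polar_smul_right, polar_smul_right, hsp, hsf, smul_zero,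
    smul_zero, sub_zero, sub_zero] at this

theorem finrank_cut_pair (p f : V) :
    Module.finrank F S ≤ Module.finrank F (cut Q (cut Q S p) f) + 2 := by
  have h1 := finrank_cut (Q := Q) S p
  have h2 := finrank_cut (Q := Q) (cut Q S p) f
  omega

theorem exists_avoid (X : Finset F) (h : X.card < Nat.card F) : ∃ c : F, c ∉ X := by
  classical
  haveI := Fintype.ofFinite F
  obtain ⟨c, -, hc⟩ := Finset.exists_mem_notMem_of_card_lt_card (s := X) (t := Finset.univ)
    (by rwa [Finset.card_univ, ← Nat.card_eq_fintype_card])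
  exact ⟨c, hc⟩

/-- A vector off a line of a plane pairing non-trivially with its generator. -/
theorem exists_skew (hS : Nd Q S) (hd : 2 ≤ Module.finrank F S) {s : V} (hs : s ∈ S)
    (hs0 : s ≠ 0) : ∃ y ∈ S, polar Q s y ≠ 0 ∧ ∀ r : F, y ≠ r • s := by
  obtain ⟨y₀, hy₀, hsy⟩ := exists_one hS hs hs0
  by_cases h : ∀ r : F, y₀ ≠ r • s
  · exact ⟨y₀, hy₀, by rw [hsy]; exact one_ne_zero, h⟩
  simp only [not_forall, not_not] at h
  obtain ⟨r₀, hr₀⟩ := h
  obtain ⟨z, hz, hzs⟩ : ∃ z ∈ S, z ∉ Submodule.span F {s} := by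
    by_contra hc
    simp only [not_exists, not_and, not_not] at hc
    have h' := Submodule.finrank_mono (show S ≤ Submodule.span F {s} from hc)
    rw [finrank_span_singleton hs0] at h'
    omega
  have hzs' : ∀ r : F, z ≠ r • s := fun r e =>
    hzs (Submodule.mem_span_singleton.mpr ⟨r, e.symm⟩)
  by_cases hsz : polar Q s z = 0
  · refine ⟨z + y₀, add_mem hz hy₀, ?_, fun r e => hzs' (r - r₀) ?_⟩
    · rw [polar_add_right, hsz, hsy, zero_add]; exact one_ne_zero
    · rw [sub_smul, ← e, ← hr₀, add_sub_cancel_right]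
  · exact ⟨z, hz, hsz, hzs'⟩

/-- A second vector of the same value in a plane. -/
theorem exists_norm_indep (hS : Nd Q S) (hd : 2 ≤ Module.finrank F S)
    (hsing : ∀ x ∈ S, x ≠ 0 → Q x = 0 → 4 ≤ Nat.card F) {s : V} (hs : s ∈ S) (hsQ : Q s ≠ 0) :
    ∃ s' ∈ S, Q s' = Q s ∧ ∀ r : F, s' ≠ r • s := by
  classical
  have hs0 : s ≠ 0 := fun h => hsQ (by rw [h, QuadraticMap.map_zero])
  obtain ⟨y, hy, hsy, hys⟩ := exists_skew hS hd hs hs0
  suffices ∃ x ∈ S, Q x ≠ 0 ∧ polar Q x s ≠ 0 ∧ ∀ r : F, x ≠ r • s by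
    obtain ⟨x, hx, hxQ, hxs, hxn⟩ := this
    refine ⟨(rf Q x).1 s, by rw [rf_apply]; exact sub_mem hs (S.smul_mem _ hx), map_form _ _,
      fun r e => ?_⟩
    rw [rf_apply] at e
    set μ := (Q x)⁻¹ * polar Q x s with hμ
    have hμ0 : μ ≠ 0 := mul_ne_zero (inv_ne_zero hxQ) hxs
    refine hxn (μ⁻¹ * (1 - r)) ?_
    have : μ • x = (1 - r) • s := by rw [sub_smul, one_smul, ← e]; abel
    rw [mul_smul, ← this, inv_smul_smul₀ hμ0]
  by_cases h : ∀ x ∈ S, x ≠ 0 → Q x ≠ 0
  · exact ⟨y, hy, h y hy (fun e => hys 0 (by rw [e, zero_smul])),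
      by rw [polar_comm]; exact hsy, hys⟩
  simp only [not_forall, not_not] at h
  obtain ⟨x₀, hx₀, hx₀0, hx₀Q⟩ := h
  have hq4 := hsing x₀ hx₀ hx₀0 hx₀Q
  let roots : Finset F :=
    (Polynomial.C (Q s) * Polynomial.X ^ 2 + Polynomial.C (polar Q s y) * Polynomial.X
      + Polynomial.C (Q y)).roots.toFinset
  let bad : Finset F := if (2 : F) = 0 then ∅ else {-(polar Q s y) / (2 * Q s)}
  have hb : bad.card ≤ 1 := by
    simp only [bad]; split <;> simp
  have hr : roots.card ≤ 2 := by
    refine (Multiset.toFinset_card_le _).trans ((Polynomial.card_roots' _).trans ?_)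
    exact Polynomial.natDegree_quadratic_le
  obtain ⟨l, hl⟩ := exists_avoid (roots ∪ bad) (by
    have := Finset.card_union_le roots bad; omega)
  simp only [Finset.mem_union, not_or] at hl
  refine ⟨y + l • s, add_mem hy (S.smul_mem l hs), fun e => hl.1 ?_, fun e => ?_,
    fun r e => hys (r - l) (by rw [sub_smul, ← e, add_sub_cancel_right])⟩
  · simp only [roots, Multiset.mem_toFinset]
    rw [Polynomial.mem_roots', Polynomial.IsRoot]
    refine ⟨fun h0 => hsQ ?_, ?_⟩
    · simpa using congrArg (fun p => Polynomial.coeff p 2) h0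
    · simp
      rw [form_add, form_smul, polar_smul_right, smul_eq_mul, polar_comm Q y s] at e
      linear_combination e
  · rw [polar_add_left, polar_smul_left, polar_self_eq, smul_eq_mul, polar_comm Q y s] at e
    by_cases h2 : (2 : F) = 0
    · exact hsy (by linear_combination e - (l * Q s) * h2)
    · refine hl.2 ?_
      simp only [bad, h2, if_false, Finset.mem_singleton]
      field_simp
      linear_combination e

theorem le_of_indep (hd : Module.finrank F S ≤ 2) {s s' : V} (hs : s ∈ S) (hs0 : s ≠ 0)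
    (hs' : s' ∈ S) (hn : ∀ r : F, s' ≠ r • s) {T : Submodule F V} (hsT : s ∈ T)
    (hs'T : s' ∈ T) : S ≤ T := by
  have hle : Submodule.span F {s, s'} ≤ S := Submodule.span_le.mpr (by
    intro x hx
    rcases hx with rfl | rfl
    · exact hs
    · exact hs')
  have hli : LinearIndependent F ![s, s'] :=
    (LinearIndependent.pair_iff' hs0).mpr fun a e => hn a e.symm
  have h2 : Module.finrank F (Submodule.span F {s, s'}) = 2 := by
    have := finrank_span_eq_card hli
    rwa [Matrix.range_cons, Matrix.range_cons, Matrix.range_empty, Set.union_empty,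
      Set.singleton_union, Fintype.card_fin] at this
  rw [← Submodule.eq_of_le_of_finrank_le hle (by omega)]
  exact Submodule.span_le.mpr (by
    intro x hx
    rcases hx with rfl | rfl
    · exact hsT
    · exact hs'T)

end Cfsg.Agent.OrthDec99
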