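import Cfsg.Agent.OrthDec99.Facts

/-!
Planes: values `γ = B(v,d) = Q d`, and reflection-invariant additive subgroups (helper99).
-/

set_option autoImplicit false
set_option linter.unusedSectionVars false

namespace Cfsg.Agent.OrthDec99

open QuadraticMap Cfsg.Agent.UnitaryOrthogonal
open Cfsg.Agent.Wreath (Nd cut mem_cut finrank_cut)

variable {F : Type*} [Field F] [Finite F]

/-- The roots of a quadratic polynomial. -/
noncomputable def quadRoots (a b c : F) : Finset F := by
  classical
  exact (Polynomial.C a * Polynomial.X ^ 2 + Polynomial.C b * Polynomial.X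
    + Polynomial.C c).roots.toFinset

theorem card_quadRoots_le (a b c : F) : (quadRoots a b c).card ≤ 2 := by
  classical
  exact (Multiset.toFinset_card_le _).trans
    ((Polynomial.card_roots' _).trans Polynomial.natDegree_quadratic_le)

theorem mem_quadRoots {a b c x : F} (ha : a ≠ 0) (h : a * x ^ 2 + b * x + c = 0) :
    x ∈ quadRoots a b c := by
  classical
  simp only [quadRoots, Multiset.mem_toFinset]
  rw [Polynomial.mem_roots', Polynomial.IsRoot]
  refine ⟨fun h0 => ha ?_, by simpa using h⟩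
  simpa using congrArg (fun p => Polynomial.coeff p 2) h0

theorem isSquare_div_of_not {x y : F} (hy0 : y ≠ 0) (hx : ¬ IsSquare x) (hy : ¬ IsSquare y) :
    IsSquare (x / y) := by
  haveI := Fintype.ofFinite F
  rcases Reflections.square_class hx hy0 with ⟨t, ht, h⟩ | ⟨t, ht, h⟩
  · exact absurd ⟨t, by rw [h]; ring⟩ hy
  · refine ⟨t⁻¹, ?_⟩
    have hx0 : x ≠ 0 := fun e => hy0 (by rw [h, e, zero_mul])
    rw [h]
    field_simp

/-- Among three non-zero elements two lie in one square class. -/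
theorem exists_square_ratio (x y z : F) (hy : y ≠ 0) (hz : z ≠ 0) :
    IsSquare (x / y) ∨ IsSquare (x / z) ∨ IsSquare (y / z) := by
  by_cases h1 : IsSquare (x / y)
  · exact Or.inl h1
  by_cases h2 : IsSquare (x / z)
  · exact Or.inr (Or.inl h2)
  refine Or.inr (Or.inr ?_)
  have hx : x ≠ 0 := fun e => h1 (by rw [e, zero_div]; exact IsSquare.zero)
  have h := isSquare_div_of_not (div_ne_zero hx hy) h2 h1
  rwa [div_div_div_cancel_left' _ _ hx] at h

theorem two_zero_or_five (h3 : Nat.card F ≠ 3) (h2 : (2 : F) ≠ 0) : 5 ≤ Nat.card F := by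
  haveI := Fintype.ofFinite F
  have hodd : Fintype.card F % 2 = 1 := FiniteField.odd_card_of_char_ne_two fun hc' => h2 (by
    have := ringChar.Nat.cast_ringChar (R := F); rw [hc'] at this; exact_mod_cast this)
  have h1 := Fintype.one_lt_card (α := F)
  rw [Nat.card_eq_fintype_card] at h3 ⊢
  omega

/-- Common value, odd characteristic. -/
theorem exists_common_odd (h2 : (2 : F) ≠ 0) {a c K K' : F} (ha : a ≠ 0) (hc : c ≠ 0) (hac : a ≠ c)
    (hK : K ≠ 0) (hK' : K' ≠ 0) (hbig : ¬ IsSquare K ∨ ¬ IsSquare K' ∨ 7 ≤ Nat.card F) :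
    ∃ z U W : F, z ≠ 0 ∧ 1 - a * z = K * U ^ 2 ∧ 1 - c * z = K' * W ^ 2 := by
  classical
  suffices ∃ U W : F, c * K * U ^ 2 + -(a * K') * W ^ 2 = c - a ∧ (K * U ^ 2 ≠ 1 ∨ K' * W ^ 2 ≠ 1) by
    obtain ⟨U, W, h, hne⟩ := this
    refine ⟨(1 - K * U ^ 2) / a, U, W, fun e => ?_, by field_simp; ring, ?_⟩
    · rw [div_eq_zero_iff, or_iff_left ha, sub_eq_zero] at e
      rcases hne with h' | h'
      · exact h' e.symm
      · refine h' (mul_left_cancel₀ ha ?_)
        linear_combination -h - c * e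
    · field_simp
      linear_combination h
  have sol := exists_sum_sq' h2 (mul_ne_zero hc hK) (neg_ne_zero.mpr (mul_ne_zero ha hK')) (c - a)
  by_cases h1 : IsSquare K
  swap
  · obtain ⟨U, W, h⟩ := sol
    refine ⟨U, W, h, Or.inl fun e => h1 ⟨K * U, ?_⟩⟩
    linear_combination -K * e
  by_cases h1' : IsSquare K'
  swap
  · obtain ⟨U, W, h⟩ := sol
    refine ⟨U, W, h, Or.inr fun e => h1' ⟨K' * W, ?_⟩⟩
    linear_combination -K' * e
  have h7 : 7 ≤ Nat.card F := by
    rcases hbig with h | h | h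
    · exact absurd h1 h
    · exact absurd h1' h
    · exact h
  obtain ⟨s, hs⟩ := h1
  obtain ⟨s', hs'⟩ := h1'
  have hs0 : s ≠ 0 := fun e => hK (by rw [hs, e, zero_mul])
  have hs'0 : s' ≠ 0 := fun e => hK' (by rw [hs', e, zero_mul])
  obtain ⟨m, hm⟩ := exists_avoid (({0, 1, c / a} : Finset F) ∪ quadRoots a 0 (-c)) (by
    have := Finset.card_union_le ({0, 1, c / a} : Finset F) (quadRoots a 0 (-c))
    have := card_quadRoots_le a 0 (-c)
    have : ({0, 1, c / a} : Finset F).card ≤ 3 := Finset.card_le_three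
    omega)
  simp only [Finset.mem_union, Finset.mem_insert, Finset.mem_singleton, not_or] at hm
  obtain ⟨⟨hm0, hm1, hm2⟩, hm3⟩ := hm
  have hd : c - a * m ^ 2 ≠ 0 := fun e => hm3 (mem_quadRoots ha (by linear_combination -e))
  have hn : a * m - c ≠ 0 := fun e => hm2 (by field_simp; linear_combination e)
  set w := 2 * (a * m - c) / (c - a * m ^ 2) with hw
  have hwd : w * (c - a * m ^ 2) = 2 * (a * m - c) := by rw [hw]; field_simp
  have hwe : (K * ((1 + w) / s) ^ 2) = (1 + w) ^ 2 := by rw [hs]; field_simp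
  have hwe' : (K' * ((1 + m * w) / s') ^ 2) = (1 + m * w) ^ 2 := by rw [hs']; field_simp
  refine ⟨(1 + w) / s, (1 + m * w) / s', ?_, Or.inl fun e => ?_⟩
  · linear_combination c * hwe - a * hwe' + w * hwd
  · rw [hwe] at e
    have hw0 : w ≠ 0 := div_ne_zero (mul_ne_zero h2 hn) hd
    have hw2 : w = -2 := by
      have : w * (w + 2) = 0 := by linear_combination e
      exact eq_neg_of_add_eq_zero_left ((mul_eq_zero.mp this).resolve_left hw0)
    have h4 : (2 * a) * (m * (m - 1)) = 0 := by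
      rw [hw2] at hwd; linear_combination hwd
    rcases mul_eq_zero.mp h4 with h | h
    · exact mul_ne_zero h2 ha h
    · rcases mul_eq_zero.mp h with h | h
      · exact hm0 h
      · exact hm1 (sub_eq_zero.mp h)

/-- Common value, characteristic two. -/
theorem exists_common_two (h2 : (2 : F) = 0) {q p κ κ' : F} (hq : q ≠ 0) (hp : p ≠ 0) (hne : q ≠ p)
    (hbig : 7 ≤ Nat.card F ∨ ∀ u : F, q * u ^ 2 + u + κ ≠ 0) :
    ∃ u u' : F, q * u ^ 2 + u + κ = p * u' ^ 2 + u' + κ' ∧ q * u ^ 2 + u + κ ≠ 0 := by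
  classical
  haveI := Fintype.ofFinite F
  let L : F × F →+ F :=
    { toFun := fun x => q * x.1 ^ 2 + x.1 + (p * x.2 ^ 2 + x.2)
      map_zero' := by simp
      map_add' := fun x y => by
        simp only [Prod.fst_add, Prod.snd_add]
        linear_combination (q * x.1 * y.1 + p * x.2 * y.2) * h2 }
  have hL : ∀ x, L x = q * x.1 ^ 2 + x.1 + (p * x.2 ^ 2 + x.2) := fun _ => rfl
  obtain ⟨m₀, hm₀⟩ := exists_sqrt h2 (q / p)
  -- the kernel is small
  let Φ : L.ker → F := fun x =>
    if x.1.1 = 0 then (if x.1.2 = 0 then 1 else m₀) else x.1.2 / x.1.1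
  have hm1 : m₀ ≠ 1 := fun e => hne (by
    rw [e, one_mul] at hm₀
    exact (div_eq_one_iff_eq hp).mp hm₀.symm)
  have hslope : ∀ u u' : F, u ≠ 0 → L (u, u') = 0 →
      u * (q + p * (u' / u) ^ 2) + (1 + u' / u) = 0 := fun u u' hu h => by
    rw [hL] at h
    field_simp
    linear_combination h
  have hnot : ∀ u u' : F, u ≠ 0 → L (u, u') = 0 → u' / u ≠ 1 ∧ u' / u ≠ m₀ := by
    intro u u' hu h
    have hs := hslope u u' hu h
    refine ⟨fun e => ?_, fun e => ?_⟩
    · rw [e] at hs
      have : u * (q + p) = 0 := by linear_combination hs - h2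
      exact hne (by linear_combination ((mul_eq_zero.mp this).resolve_left hu) - p * h2)
    · rw [e] at hs
      have hz : q + p * m₀ ^ 2 = 0 := by
        rw [show m₀ ^ 2 = q / p by rw [← hm₀]; ring, mul_div_cancel₀ _ hp]
        linear_combination q * h2
      rw [hz, mul_zero, zero_add] at hs
      exact hm1 (by linear_combination hs - h2)
  have hΦ : Function.Injective Φ := by
    rintro ⟨⟨u, u'⟩, hx⟩ ⟨⟨v, v'⟩, hy⟩ he
    have hx' : L (u, u') = 0 := hx
    have hy' : L (v, v') = 0 := hy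
    simp only [Φ] at he
    have zero : ∀ w : F, L (0, w) = 0 → w ≠ 0 → w = p⁻¹ := fun w h hw => by
      rw [hL] at h
      have : w * (p * w + 1) = 0 := by simpa [mul_add, pow_two, mul_comm, mul_left_comm] using h
      have h' := (mul_eq_zero.mp this).resolve_left hw
      field_simp
      linear_combination h' - h2
    by_cases hu : u = 0 <;> by_cases hv : v = 0
    · subst hu; subst hv
      by_cases hu' : u' = 0 <;> by_cases hv' : v' = 0
      · subst hu'; subst hv'; rfl
      · simp [hu', hv'] at he; exact absurd he.symm hm1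
      · simp [hu', hv'] at he; exact absurd he hm1
      · obtain rfl := (zero u' hx' hu').trans (zero v' hy' hv').symm
        rfl
    · simp only [hu, hv, if_true, if_false] at he
      have := hnot v v' hv hy'
      by_cases hu' : u' = 0
      · rw [if_pos hu'] at he; exact absurd he.symm this.1
      · rw [if_neg hu'] at he; exact absurd he.symm this.2
    · simp only [hu, hv, if_true, if_false] at he
      have := hnot u u' hu hx'
      by_cases hv' : v' = 0
      · rw [if_pos hv'] at he; exact absurd he this.1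
      · rw [if_neg hv'] at he; exact absurd he this.2
    · simp only [hu, hv, if_false] at he
      have h1 := hslope u u' hu hx'
      have h3 := hslope v v' hv hy'
      rw [← he] at h3
      have hz : q + p * (u' / u) ^ 2 ≠ 0 := fun e => (hnot u u' hu hx').2 (by
        have hsq : (u' / u - m₀) * (u' / u - m₀) = 0 := by
          have : p * ((u' / u - m₀) * (u' / u - m₀)) = 0 := by
            rw [show p * ((u' / u - m₀) * (u' / u - m₀)) =
              p * (u' / u) ^ 2 + p * (m₀ * m₀) - 2 * (p * (u' / u) * m₀) by ring, hm₀,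
              mul_div_cancel₀ _ hp, h2]
            linear_combination e
          exact (mul_eq_zero.mp this).resolve_left hp
        exact sub_eq_zero.mp (mul_self_eq_zero.mp hsq))
      have e : u = v := mul_right_cancel₀ hz (by linear_combination h1 - h3)
      subst e
      field_simp at he
      subst he
      rfl
  have hker : Nat.card L.ker ≤ Nat.card F := Nat.card_le_card_of_injective Φ hΦ
  have hprod : Nat.card F * Nat.card F = Nat.card L.range * Nat.card L.ker := by
    rw [← Nat.card_prod, L.ker.card_eq_card_quotient_mul_card_addSubgroup,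
      Nat.card_congr (QuotientAddGroup.quotientKerEquivRange L).toEquiv]
  have hrange : Nat.card L.range ≤ Nat.card F := Nat.card_le_card_of_injective (fun x : L.range => (x : F)) Subtype.val_injective
  have hpos : 0 < Nat.card F := Nat.card_pos
  have hr : Nat.card L.range = Nat.card F := by nlinarith
  have hk : Nat.card L.ker = Nat.card F := by rw [hr] at hprod; nlinarith
  obtain ⟨⟨u₀, u₀'⟩, hu₀⟩ : ∃ x, L x = κ + κ' := by
    have : L.range = ⊤ := AddSubgroup.eq_top_of_card_eq _ hr
    exact AddMonoidHom.mem_range.mp (this ▸ AddSubgroup.mem_top (κ + κ'))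
  by_contra hcon
  simp only [not_exists, not_and, not_not] at hcon
  have key : ∀ x : L.ker, q * (u₀ + x.1.1) ^ 2 + (u₀ + x.1.1) + κ = 0 ∧
      p * (u₀' + x.1.2) ^ 2 + (u₀' + x.1.2) + κ' = 0 := fun x => by
    have hx := x.2
    rw [AddMonoidHom.mem_ker] at hx
    have hsum : L (u₀ + x.1.1, u₀' + x.1.2) = κ + κ' := by
      rw [show (u₀ + x.1.1, u₀' + x.1.2) = (u₀, u₀') + x.1 from rfl, map_add, hu₀, hx, add_zero]
    rw [hL] at hsum
    have heq : q * (u₀ + x.1.1) ^ 2 + (u₀ + x.1.1) + κ
        = p * (u₀' + x.1.2) ^ 2 + (u₀' + x.1.2) + κ' := by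
      linear_combination hsum + (κ - p * (u₀' + x.1.2) ^ 2 - (u₀' + x.1.2)) * h2
    have := hcon _ _ heq
    exact ⟨this, heq ▸ this⟩
  rcases hbig with h7 | hno
  · let G : L.ker → (quadRoots q 1 κ ×ˢ quadRoots p 1 κ' : Finset (F × F)) := fun x =>
      ⟨(u₀ + x.1.1, u₀' + x.1.2), Finset.mem_product.mpr
        ⟨mem_quadRoots hq (by linear_combination (key x).1),
         mem_quadRoots hp (by linear_combination (key x).2)⟩⟩
    have hG : Function.Injective G := fun x y h => by
      have h' := congrArg Subtype.val h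
      simp only [G, Prod.mk.injEq, add_right_inj] at h'
      exact Subtype.ext (Prod.ext h'.1 h'.2)
    have h4 := Nat.card_le_card_of_injective G hG
    rw [Nat.card_eq_finsetCard, Finset.card_product, hk] at h4
    have := card_quadRoots_le q 1 κ
    have := card_quadRoots_le p 1 κ'
    nlinarith
  · exact hno _ (key 0).1

variable {V : Type*} [AddCommGroup V] [Module F V] [FiniteDimensional F V] {Q : QuadraticForm F V}
variable {S : Submodule F V}

theorem sub_rf (a x : V) : x - (rf Q a).1 x = ((Q a)⁻¹ * polar Q a x) • a := by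
  rw [rf_apply, sub_sub_cancel]

theorem eq_smul_of_perp (hS : Nd Q S) (hd : Module.finrank F S ≤ 2) {v x : V} (hv : v ∈ S)
    (hv0 : v ≠ 0) (hvv : polar Q v v = 0) (hx : x ∈ S) (h : polar Q v x = 0) :
    ∃ r : F, x = r • v := by
  obtain ⟨y, hy, hvy⟩ := exists_one hS hv hv0
  have hyn : ∀ r : F, y ≠ r • v := fun r e => by
    rw [e, polar_smul_right, hvv, smul_zero] at hvy
    exact zero_ne_one hvy
  refine ⟨polar Q y x, sub_eq_zero.mp (hS _ (sub_mem hx (S.smul_mem _ hv)) fun w hw => ?_)⟩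
  exact le_of_indep hd hv hv0 hy hyn
    (T := LinearMap.ker (polarBilin Q (x - polar Q y x • v)))
    (by
      show polar Q _ v = 0
      rw [polar_sub_left, polar_smul_left, polar_comm Q x, h, hvv]; simp)
    (by
      show polar Q _ y = 0
      rw [polar_sub_left, polar_smul_left, hvy, polar_comm Q x]; simp) hw

theorem exists_aniso_skew (hS : Nd Q S) (hd : Module.finrank F S = 2)
    (hsing : ∀ x ∈ S, x ≠ 0 → Q x = 0 → 4 ≤ Nat.card F) {v : V} (hv : v ∈ S) (hv0 : v ≠ 0) :
    ∃ x ∈ S, Q x ≠ 0 ∧ polar Q v x ≠ 0 ∧ ∀ r : F, x ≠ r • v := by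
  classical
  obtain ⟨y, hy, hvy, hyn⟩ := exists_skew hS (by omega) hv hv0
  by_cases h : ∀ x ∈ S, x ≠ 0 → Q x ≠ 0
  · exact ⟨y, hy, h y hy (fun e => hyn 0 (by rw [e, zero_smul])), hvy, hyn⟩
  simp only [not_forall, not_not] at h
  obtain ⟨x₀, hx₀, hx₀0, hx₀Q⟩ := h
  have h4 := hsing x₀ hx₀ hx₀0 hx₀Q
  have hgood : ∀ r : F, ∀ s : F, y + r • v ≠ s • v := fun r s e =>
    hyn (s - r) (by rw [sub_smul, ← e, add_sub_cancel_right])
  have hQ : ∀ r : F, Q (y + r • v) = Q v * r ^ 2 + polar Q v y * r + Q y := fun r => by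
    rw [form_add, form_smul, polar_smul_right, smul_eq_mul, polar_comm Q y]; ring
  have hB : ∀ r : F, polar Q v (y + r • v) = polar Q v y + 2 * Q v * r := fun r => by
    rw [polar_add_right, polar_smul_right, polar_self_eq, smul_eq_mul]; ring
  by_cases hvQ : Q v = 0
  · obtain ⟨r, hr⟩ := exists_avoid ({-(Q y) / polar Q v y} : Finset F) (by simp; omega)
    refine ⟨y + r • v, add_mem hy (S.smul_mem r hv), fun e => hr ?_, ?_, hgood r⟩
    · rw [hQ, hvQ] at e
      simp only [Finset.mem_singleton]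
      field_simp
      linear_combination e
    · rw [hB, hvQ, mul_zero, zero_mul, add_zero]; exact hvy
  obtain ⟨r, hr⟩ := exists_avoid
    (quadRoots (Q v) (polar Q v y) (Q y) ∪ {-(polar Q v y) / (2 * Q v)}) (by
      have := Finset.card_union_le (quadRoots (Q v) (polar Q v y) (Q y))
        {-(polar Q v y) / (2 * Q v)}
      have := card_quadRoots_le (Q v) (polar Q v y) (Q y)
      rw [Finset.card_singleton] at *
      omega)
  simp only [Finset.mem_union, Finset.mem_singleton, not_or] at hr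
  refine ⟨y + r • v, add_mem hy (S.smul_mem r hv),
    fun e => hr.1 (mem_quadRoots hvQ (by rw [← hQ]; exact e)), fun e => ?_, hgood r⟩
  rw [hB] at e
  by_cases h2 : (2 : F) = 0
  · exact hvy (by rwa [h2, zero_mul, zero_mul, add_zero] at e)
  · refine hr.2 ?_
    field_simp
    linear_combination e

/-- An orthogonal companion of a non-singular vector. -/
theorem exists_orth_vec (h2 : (2 : F) ≠ 0) (hS : Nd Q S) (hd : Module.finrank F S = 2) {v : V}
    (hv : v ∈ S) (hvQ : Q v ≠ 0) :
    ∃ b ∈ S, polar Q v b = 0 ∧ Q b ≠ 0 ∧ ∀ r : F, b ≠ r • v := by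
  have hv0 : v ≠ 0 := fun e => hvQ (by rw [e, QuadraticMap.map_zero])
  obtain ⟨y, hy, -, hyn⟩ := exists_skew hS (by omega) hv hv0
  set b := y - (polar Q v y / (2 * Q v)) • v with hb
  have hbn : ∀ r : F, b ≠ r • v := fun r e =>
    hyn (r + polar Q v y / (2 * Q v)) (by rw [add_smul, ← e, hb, sub_add_cancel])
  have hvb : polar Q v b = 0 := by
    rw [hb, polar_sub_right, polar_smul_right, polar_self_eq, smul_eq_mul,
      div_mul_cancel₀ _ (mul_ne_zero h2 hvQ), sub_self]
  have hbS : b ∈ S := sub_mem hy (S.smul_mem _ hv)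
  refine ⟨b, hbS, hvb, fun hbQ => hbn 0 ?_, hbn⟩
  rw [zero_smul]
  refine hS b hbS fun w hw => ?_
  exact le_of_indep (by omega) hv hv0 hbS hbn (T := LinearMap.ker (polarBilin Q b))
    (by show polar Q b v = 0; rw [polar_comm]; exact hvb)
    (by show polar Q b b = 0; rw [polar_self_eq, hbQ, mul_zero]) hw

/-- A vector whose reflection moves `v` neither onto its line nor onto its orthogonal. -/
theorem exists_move_vec (hS : Nd Q S) (hd : Module.finrank F S = 2) (h3 : Nat.card F ≠ 3)
    (hsing : ∀ x ∈ S, x ≠ 0 → Q x = 0 → 7 ≤ Nat.card F) {v : V} (hv : v ∈ S) (hv0 : v ≠ 0) :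
    ∃ x ∈ S, Q x ≠ 0 ∧ polar Q v x ≠ 0 ∧ (∀ r : F, x ≠ r • v) ∧
      2 * Q v * Q x ≠ polar Q v x ^ 2 := by
  classical
  by_cases h : 2 * Q v = 0
  · obtain ⟨x, hx, hxQ, hvx, hxn⟩ := exists_aniso_skew hS hd
      (fun x hx h0 hQ => le_trans (by norm_num) (hsing x hx h0 hQ)) hv hv0
    exact ⟨x, hx, hxQ, hvx, hxn, fun e => hvx (by
      rw [h, zero_mul] at e; exact pow_eq_zero_iff two_ne_zero |>.mp e.symm)⟩
  have h2 : (2 : F) ≠ 0 := fun e => h (by rw [e, zero_mul])
  have hvQ : Q v ≠ 0 := fun e => h (by rw [e, mul_zero])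
  obtain ⟨b, hb, hvb, hbQ, hbn⟩ := exists_orth_vec h2 hS hd hv hvQ
  have h5 := two_zero_or_five h3 h2
  have hQ : ∀ u : F, Q (u • v + b) = Q v * u ^ 2 + Q b := fun u => by
    rw [form_add, form_smul, polar_smul_left, hvb, smul_zero, add_zero]; ring
  obtain ⟨u, hu0, hu1, hu2⟩ : ∃ u : F, u ≠ 0 ∧ Q v * u ^ 2 - Q b ≠ 0 ∧
      Q v * u ^ 2 + Q b ≠ 0 := by
    by_cases hs : ∀ x ∈ S, x ≠ 0 → Q x ≠ 0
    · obtain ⟨u, hu⟩ := exists_avoid (({0} : Finset F) ∪ quadRoots (Q v) 0 (-Q b)) (by
        have := Finset.card_union_le ({0} : Finset F) (quadRoots (Q v) 0 (-Q b))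
        have := card_quadRoots_le (Q v) 0 (-Q b)
        rw [Finset.card_singleton] at *
        omega)
      simp only [Finset.mem_union, Finset.mem_singleton, not_or] at hu
      refine ⟨u, hu.1, fun e => hu.2 (mem_quadRoots hvQ (by linear_combination e)), ?_⟩
      rw [← hQ]
      refine hs _ (add_mem (S.smul_mem u hv) hb) fun e => hbn (-u) ?_
      rw [neg_smul]; exact eq_neg_of_add_eq_zero_right e
    · simp only [not_forall, not_not] at hs
      obtain ⟨x₀, hx₀, hx₀0, hx₀Q⟩ := hs
      have h7 := hsing x₀ hx₀ hx₀0 hx₀Q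
      obtain ⟨u, hu⟩ := exists_avoid
        ((({0} : Finset F) ∪ quadRoots (Q v) 0 (-Q b)) ∪ quadRoots (Q v) 0 (Q b)) (by
        have := Finset.card_union_le (({0} : Finset F) ∪ quadRoots (Q v) 0 (-Q b))
          (quadRoots (Q v) 0 (Q b))
        have := Finset.card_union_le ({0} : Finset F) (quadRoots (Q v) 0 (-Q b))
        have := card_quadRoots_le (Q v) 0 (-Q b)
        have := card_quadRoots_le (Q v) 0 (Q b)
        rw [Finset.card_singleton] at *
        omega)
      simp only [Finset.mem_union, Finset.mem_singleton, not_or] at hu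
      exact ⟨u, hu.1.1, fun e => hu.1.2 (mem_quadRoots hvQ (by linear_combination e)),
        fun e => hu.2 (mem_quadRoots hvQ (by linear_combination e))⟩
  have hB : polar Q v (u • v + b) = u * (2 * Q v) := by
    rw [polar_add_right, polar_smul_right, hvb, polar_self_eq, smul_eq_mul, add_zero]
  refine ⟨u • v + b, add_mem (S.smul_mem u hv) hb, by rw [hQ]; exact hu2,
    by rw [hB]; exact mul_ne_zero hu0 h, fun r e => hbn (r - u) (by
      rw [sub_smul, ← e, add_sub_cancel_left]), fun e => ?_⟩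
  rw [hB, hQ] at e
  refine hu1 ((mul_eq_zero.mp ?_).resolve_left h)
  linear_combination -e

/-- A value of `v` on a plane, for a singular `v`. -/
theorem value_singular (hS : Nd Q S) {v : V} (hv : v ∈ S) (hv0 : v ≠ 0) (hvQ : Q v = 0) (γ : F) :
    ∃ d ∈ S, polar Q v d = γ ∧ Q d = γ := by
  obtain ⟨f, hf, hfQ, hvf⟩ := exists_partner hS hv hvQ hv0
  refine ⟨v + γ • f, add_mem hv (S.smul_mem γ hf), ?_, ?_⟩
  · rw [polar_add_right, polar_smul_right, polar_self_eq, hvQ, hvf]; simp
  · rw [form_add, form_smul, hvQ, hfQ, polar_smul_right, hvf]; simp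

/-- Some non-zero value of `v` on a plane. -/
theorem value_exists (hS : Nd Q S) (hd : Module.finrank F S = 2)
    (hsing : ∀ x ∈ S, x ≠ 0 → Q x = 0 → 4 ≤ Nat.card F) {v : V} (hv : v ∈ S) (hv0 : v ≠ 0) :
    ∃ γ : F, γ ≠ 0 ∧ ∃ d ∈ S, polar Q v d = γ ∧ Q d = γ := by
  obtain ⟨x, hx, hxQ, hvx, -⟩ := exists_aniso_skew hS hd hsing hv hv0
  refine ⟨polar Q v x ^ 2 / Q x, div_ne_zero (pow_ne_zero 2 hvx) hxQ,
    (polar Q v x / Q x) • x, S.smul_mem _ hx, ?_, ?_⟩
  · rw [polar_smul_right, smul_eq_mul]; ring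
  · rw [form_smul]; field_simp

variable {S' : Submodule F V}

/-- Opposite values of two non-zero vectors in isometric planes. -/
theorem exists_pair_values (hS : Nd Q S) (hS' : Nd Q S') (hd : Module.finrank F S = 2)
    (hd' : Module.finrank F S' = 2) (iso : ∃ e : S ≃ₗ[F] S', ∀ w : S, Q ((e w : S') : V) = Q (w : V))
    (hsing : ∀ x ∈ S, x ≠ 0 → Q x = 0 → 7 ≤ Nat.card F)
    (hsing' : ∀ x ∈ S', x ≠ 0 → Q x = 0 → 7 ≤ Nat.card F)
    {v v' : V} (hv : v ∈ S) (hv0 : v ≠ 0) (hv' : v' ∈ S') (hv'0 : v' ≠ 0) :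
    ∃ γ : F, γ ≠ 0 ∧ (∃ d ∈ S, polar Q v d = γ ∧ Q d = γ) ∧
      ∃ d ∈ S', polar Q v' d = -γ ∧ Q d = -γ := by
  classical
  by_cases hvQ : Q v = 0
  · obtain ⟨γ, hγ, hγv⟩ := value_exists hS' hd'
      (fun x hx h0 hQ => le_trans (by norm_num) (hsing' x hx h0 hQ)) hv' hv'0
    exact ⟨-γ, neg_ne_zero.mpr hγ, value_singular hS hv hv0 hvQ _, by rwa [neg_neg]⟩
  by_cases hv'Q : Q v' = 0
  · obtain ⟨γ, hγ, hγv⟩ := value_exists hS hd
      (fun x hx h0 hQ => le_trans (by norm_num) (hsing x hx h0 hQ)) hv hv0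
    exact ⟨γ, hγ, hγv, value_singular hS' hv' hv'0 hv'Q _⟩
  by_cases h2 : (2 : F) = 0
  · have hneg : ∀ x : F, -x = x := fun x => by linear_combination -x * h2
    have hbb : ∀ w : V, polar Q w w = 0 := fun w => by rw [polar_self_eq, h2, zero_mul]
    by_cases hpq : Q v = Q v'
    · -- carry a value along an isometry
      obtain ⟨γ, hγ, d, hdS, hd1, hd2⟩ := value_exists hS hd
        (fun x hx h0 hQ => le_trans (by norm_num) (hsing x hx h0 hQ)) hv hv0
      obtain ⟨e, he⟩ := iso
      set w := (e ⟨v, hv⟩ : V) with hw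
      set d₁ := (e ⟨d, hdS⟩ : V) with hd₁
      have hwQ : Q w = Q v' := (he _).trans hpq
      have hd₁Q : Q d₁ = γ := (he _).trans hd2
      have hwd : polar Q w d₁ = γ := by
        have h1 := he (⟨v, hv⟩ + ⟨d, hdS⟩)
        rw [map_add, Submodule.coe_add, Submodule.coe_add, ← hw, ← hd₁] at h1
        rw [← hd1]
        simp only [polar, h1, show Q w = Q v from he _, show Q d₁ = Q d from he _]
      have hwS : w ∈ S' := (e ⟨v, hv⟩).2
      have hdS' : d₁ ∈ S' := (e ⟨d, hdS⟩).2
      by_cases hz : Q (w - v') = 0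
      · have hperp : polar Q w v' = 0 := by
          rw [sub_eq_add_neg, form_add, QuadraticMap.map_neg, polar_neg_right, hwQ] at hz
          linear_combination -hz + Q v' * h2
        have hw0 : w ≠ 0 := fun e0 => hv'Q (by rw [← hwQ, e0, QuadraticMap.map_zero])
        obtain ⟨r, hr⟩ := eq_smul_of_perp hS' hd'.le hwS hw0 (hbb w) hv' hperp
        have hr1 : r = 1 := by
          have h1 : Q v' = r * r * Q w := by rw [hr, form_smul]
          rw [hwQ] at h1
          have h2' : (r - 1) * (r - 1) * Q v' = 0 := by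
            linear_combination -h1 + (1 - r) * Q v' * h2
          exact sub_eq_zero.mp (mul_self_eq_zero.mp ((mul_eq_zero.mp h2').resolve_right hv'Q))
        rw [hr1, one_smul] at hr
        exact ⟨γ, hγ, ⟨d, hdS, hd1, hd2⟩, d₁, hdS', by rw [hr, hneg, hwd], by rw [hneg, hd₁Q]⟩
      · refine ⟨γ, hγ, ⟨d, hdS, hd1, hd2⟩, (rf Q (w - v')).1 d₁, ?_, ?_, by rw [hneg, map_form, hd₁Q]⟩
        · rw [rf_apply]; exact sub_mem hdS' (S'.smul_mem _ (sub_mem hwS hv'))
        · rw [hneg]
          exact (congrArg (fun z => polar Q z _) (rf_sub_apply hwQ hz).symm).trans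
            ((map_polar _ _ _).trans hwd)
    · obtain ⟨b, hb, hvb⟩ := exists_one hS hv hv0
      obtain ⟨b', hb', hvb'⟩ := exists_one hS' hv' hv'0
      have hbn : ∀ r : F, b ≠ r • v := fun r e => by
        rw [e, polar_smul_right, hbb, smul_zero] at hvb; exact zero_ne_one hvb
      have hQ : ∀ u : F, Q (u • v + b) = Q v * u ^ 2 + u + Q b := fun u => by
        rw [form_add, form_smul, polar_smul_left, hvb]; simp; ring
      have hQ' : ∀ u : F, Q (u • v' + b') = Q v' * u ^ 2 + u + Q b' := fun u => by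
        rw [form_add, form_smul, polar_smul_left, hvb']; simp; ring
      obtain ⟨u, u', he, hne⟩ := exists_common_two h2 (κ := Q b) (κ' := Q b') hvQ hv'Q hpq (by
        by_cases hs : ∀ x ∈ S, x ≠ 0 → Q x ≠ 0
        · exact Or.inr fun u => by
            rw [← hQ]
            refine hs _ (add_mem (S.smul_mem u hv) hb) fun e => hbn (-u) ?_
            rw [neg_smul]; exact eq_neg_of_add_eq_zero_right e
        · simp only [not_forall, not_not] at hs
          obtain ⟨x₀, hx₀, hx₀0, hx₀Q⟩ := hs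
          exact Or.inl (hsing x₀ hx₀ hx₀0 hx₀Q))
      set P := Q v * u ^ 2 + u + Q b with hP
      refine ⟨P⁻¹, inv_ne_zero hne, ⟨P⁻¹ • (u • v + b),
          S.smul_mem _ (add_mem (S.smul_mem u hv) hb), ?_, ?_⟩,
        P⁻¹ • (u' • v' + b'), S'.smul_mem _ (add_mem (S'.smul_mem u' hv') hb'), ?_, ?_⟩
      · rw [polar_smul_right, polar_add_right, polar_smul_right, hbb, hvb]; simp
      · rw [form_smul, hQ, ← hP]; field_simp
      · rw [hneg, polar_smul_right, polar_add_right, polar_smul_right, hbb, hvb']; simp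
      · rw [hneg, form_smul, hQ', ← he]; field_simp
  -- odd characteristic
  obtain ⟨b, hb, hvb, hbQ, hbn⟩ := exists_orth_vec h2 hS hd hv hvQ
  obtain ⟨b', hb', hvb', hb'Q, hbn'⟩ := exists_orth_vec h2 hS' hd' hv' hv'Q
  have h4 : (4 : F) ≠ 0 := fun e => h2 (mul_self_eq_zero.mp (by linear_combination e))
  have key : ∀ {T : Submodule F V} {w c : V}, w ∈ T → c ∈ T → polar Q w c = 0 → Q w ≠ 0 →
      ∀ {γ U : F}, γ ≠ 0 → 1 - 4 * Q w * γ⁻¹ = -(Q c / Q w) * U ^ 2 →
      ∃ d ∈ T, polar Q w d = γ ∧ Q d = γ := by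
    intro T w c hw hc hwc hwQ γ U hγ he
    refine ⟨(γ / (2 * Q w)) • (w + U • c),
      T.smul_mem _ (add_mem hw (T.smul_mem U hc)), ?_, ?_⟩
    · rw [polar_smul_right, polar_add_right, polar_smul_right, hwc, polar_self_eq]
      simp only [smul_eq_mul, mul_zero, add_zero]
      field_simp
    · rw [form_smul, form_add, form_smul, polar_smul_right, hwc, smul_zero, add_zero]
      field_simp at he ⊢
      linear_combination he
  by_cases hpq : 4 * Q v = -(4 * Q v')
  · refine ⟨4 * Q v, mul_ne_zero h4 hvQ, key hv hb hvb hvQ (U := 0) (mul_ne_zero h4 hvQ) ?_,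
      key hv' hb' hvb' hv'Q (U := 0) (neg_ne_zero.mpr (mul_ne_zero h4 hvQ)) ?_⟩
    · field_simp; ring
    · rw [hpq, neg_neg]; field_simp; ring
  have hbig : ¬ IsSquare (-(Q b / Q v)) ∨ ¬ IsSquare (-(Q b' / Q v')) ∨ 7 ≤ Nat.card F := by
    by_cases hs : IsSquare (-(Q b / Q v))
    · obtain ⟨r, hr⟩ := hs
      refine Or.inr (Or.inr (hsing (r • v + b) (add_mem (S.smul_mem r hv) hb)
        (fun e => hbn (-r) (by rw [neg_smul]; exact eq_neg_of_add_eq_zero_right e)) ?_))
      rw [form_add, form_smul, polar_smul_left, hvb, smul_zero, add_zero, ← hr]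
      field_simp; ring
    · exact Or.inl hs
  obtain ⟨z, U, W, hz, he, he'⟩ := exists_common_odd h2 (a := 4 * Q v) (c := -(4 * Q v'))
    (mul_ne_zero h4 hvQ) (neg_ne_zero.mpr (mul_ne_zero h4 hv'Q)) hpq
    (neg_ne_zero.mpr (div_ne_zero hbQ hvQ)) (neg_ne_zero.mpr (div_ne_zero hb'Q hv'Q)) hbig
  refine ⟨z⁻¹, inv_ne_zero hz, key hv hb hvb hvQ (U := U) (inv_ne_zero hz) (by rw [inv_inv]; exact he),
    key hv' hb' hvb' hv'Q (U := W) (neg_ne_zero.mpr (inv_ne_zero hz)) ?_⟩
  rw [← neg_inv, inv_inv]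
  linear_combination he'

/-- A reflection-invariant additive subgroup contains the lines it sees. -/
theorem line_le (hS : Nd Q S) (hd : Module.finrank F S = 2)
    (hsing : ∀ x ∈ S, x ≠ 0 → Q x = 0 → 7 ≤ Nat.card F) {A : AddSubgroup V}
    (hA : ∀ x ∈ S, Q x ≠ 0 → ∀ z ∈ S, z ∈ A → (rf Q x).1 z ∈ A)
    {x : V} (hx : x ∈ S) (hxQ : Q x ≠ 0) {s : V} (hs : s ∈ S) (hsA : s ∈ A)
    (hxs : polar Q x s ≠ 0) : ∀ r : F, r • x ∈ A := by
  classical
  haveI := Fintype.ofFinite F
  have step : ∀ y ∈ S, Q y ≠ 0 → ∀ z ∈ S, z ∈ A → ((Q y)⁻¹ * polar Q y z) • y ∈ A :=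
    fun y hy hyQ z hz hzA => by
      rw [← sub_rf]; exact sub_mem hzA (hA y hy hyQ z hz hzA)
  let G : Subring F :=
    { carrier := {l | ∀ μ : F, μ • x ∈ A → (l * μ) • x ∈ A}
      mul_mem' := fun {a b} ha hb μ hμ => by rw [mul_assoc]; exact ha _ (hb μ hμ)
      one_mem' := fun μ hμ => by rwa [one_mul]
      add_mem' := fun {a b} ha hb μ hμ => by
        rw [add_mul, add_smul]; exact add_mem (ha μ hμ) (hb μ hμ)
      zero_mem' := fun μ _ => by rw [zero_mul, zero_smul]; exact zero_mem A
      neg_mem' := fun {a} ha μ hμ => by rw [neg_mul, neg_smul]; exact neg_mem (ha μ hμ) }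
  have hinv : ∀ l ∈ G, l⁻¹ ∈ G := fun l hl => by
    by_cases h0 : l = 0
    · rw [h0, inv_zero]; exact zero_mem G
    have hc : 2 ≤ Fintype.card F := Fintype.one_lt_card
    have : l⁻¹ = l ^ (Fintype.card F - 2) := by
      refine inv_eq_of_mul_eq_one_right ?_
      rw [← pow_succ', show Fintype.card F - 2 + 1 = Fintype.card F - 1 by omega]
      exact FiniteField.pow_card_sub_one_eq_one l h0
    rw [this]; exact pow_mem hl _
  have htau : ∀ y ∈ S, Q y ≠ 0 → polar Q x y ^ 2 / (Q x * Q y) ∈ G := fun y hy hyQ μ hμ => by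
    have h1 := step y hy hyQ _ (S.smul_mem μ hx) hμ
    have h3 := step x hx hxQ _ (S.smul_mem _ hy) h1
    rw [polar_smul_right, polar_smul_right, polar_comm Q y x, smul_eq_mul, smul_eq_mul] at h3
    convert h3 using 2
    field_simp
  suffices hall : ∀ r : F, r ∈ G by
    intro r
    have hμ := step x hx hxQ s hs hsA
    have h := hall (r / ((Q x)⁻¹ * polar Q x s)) _ hμ
    rwa [div_mul_cancel₀ _ (mul_ne_zero (inv_ne_zero hxQ) hxs)] at h
  have hxx0 : x ≠ 0 := fun e => hxQ (by rw [e, QuadraticMap.map_zero])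
  by_cases h2 : (2 : F) = 0
  · obtain ⟨b, hb, hxb⟩ := exists_one hS hx hxx0
    have hbb : polar Q x x = 0 := by rw [polar_self_eq, h2, zero_mul]
    have hbn : ∀ r : F, b ≠ r • x := fun r e => by
      rw [e, polar_smul_right, hbb, smul_zero] at hxb; exact zero_ne_one hxb
    set κ := Q x * Q b with hκ
    have hval : ∀ w : F, w ^ 2 + w + κ ≠ 0 → w ^ 2 + w + κ ∈ G := fun w hw => by
      have hQy : Q x * Q ((w / Q x) • x + b) = w ^ 2 + w + κ := by
        rw [form_add, form_smul, polar_smul_left, hxb, hκ]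
        simp
        field_simp
        ring
      have hyQ : Q ((w / Q x) • x + b) ≠ 0 := fun e => hw (by rw [← hQy, e, mul_zero])
      have h := hinv _ (htau _ (add_mem (S.smul_mem _ hx) hb) hyQ)
      rwa [polar_add_right, polar_smul_right, hbb, hxb, smul_zero, zero_add, one_pow, one_div,
        inv_inv, hQy] at h
    have hcase : 7 ≤ Nat.card F ∨ ∀ w : F, w ^ 2 + w + κ ≠ 0 := by
      by_cases hs' : ∀ y ∈ S, y ≠ 0 → Q y ≠ 0
      · refine Or.inr fun w hw => ?_
        have hne : (w / Q x) • x + b ≠ 0 := fun e => hbn (-(w / Q x)) (by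
          rw [neg_smul]; exact eq_neg_of_add_eq_zero_right e)
        refine hs' _ (add_mem (S.smul_mem _ hx) hb) hne ((mul_eq_zero.mp ?_).resolve_left hxQ)
        rw [form_add, form_smul, polar_smul_left, hxb]
        simp only [smul_eq_mul, mul_one]
        rw [hκ] at hw
        field_simp
        linear_combination hw
      · simp only [not_forall, not_not] at hs'
        obtain ⟨x₀, hx₀, hx₀0, hx₀Q⟩ := hs'
        exact Or.inl (hsing x₀ hx₀ hx₀0 hx₀Q)
    have hT : ∀ v : F, v ^ 2 + v ∈ G := fun v => by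
      rcases hcase with h7 | hno
      · obtain ⟨w, hw⟩ := exists_avoid (quadRoots 1 1 κ ∪ quadRoots 1 1 (v ^ 2 + v + κ)) (by
          have := Finset.card_union_le (quadRoots (1 : F) 1 κ) (quadRoots 1 1 (v ^ 2 + v + κ))
          have := card_quadRoots_le (1 : F) 1 κ
          have := card_quadRoots_le (1 : F) 1 (v ^ 2 + v + κ)
          omega)
        simp only [Finset.mem_union, not_or] at hw
        have h1 := hval w fun e => hw.1 (mem_quadRoots one_ne_zero (by linear_combination e))
        have h3 := hval (w + v) fun e => hw.2 (mem_quadRoots one_ne_zero (by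
          linear_combination e - w * v * h2))
        have := sub_mem h3 h1
        convert this using 1
        linear_combination -w * v * h2
      · have := sub_mem (hval v (hno v)) (hval 0 (hno 0))
        convert this using 1
        ring
    intro r
    by_cases hr : r = 0
    · rw [hr]; exact zero_mem G
    by_cases hr1 : r = 1
    · rw [hr1]; exact one_mem G
    obtain ⟨g, hg, hgg⟩ : ∃ g ∈ G, g - g ^ 2 ≠ 0 := by
      have hne : ∀ g : F, g ≠ 0 → g ≠ 1 → g - g ^ 2 ≠ 0 := fun g h0 h1 e => by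
        have : g * (1 - g) = 0 := by linear_combination e
        exact (mul_eq_zero.mp this).elim h0 fun h => h1 (sub_eq_zero.mp h).symm
      rcases hcase with h7 | hno
      · obtain ⟨v, hv⟩ := exists_avoid (quadRoots (1 : F) 1 0 ∪ quadRoots 1 1 1) (by
          have := Finset.card_union_le (quadRoots (1 : F) 1 0) (quadRoots 1 1 1)
          have := card_quadRoots_le (1 : F) 1 0
          have := card_quadRoots_le (1 : F) 1 1
          omega)
        simp only [Finset.mem_union, not_or] at hv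
        exact ⟨_, hT v, hne _ (fun e => hv.1 (mem_quadRoots one_ne_zero (by linear_combination e)))
          fun e => hv.2 (mem_quadRoots one_ne_zero (by linear_combination e + h2))⟩
      · have hr0 : r ^ 2 + r ≠ 0 := fun e => by
          have : r * (r + 1) = 0 := by linear_combination e
          exact hr1 (by linear_combination (mul_eq_zero.mp this).resolve_left hr - h2)
        by_cases h1 : r ^ 2 + r = 1
        · refine ⟨κ, ?_, hne κ (fun e => hno 0 (by rw [e]; ring)) fun e => hno r (by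
            rw [h1, e]; linear_combination h2)⟩
          have := hval 0 (hno 0)
          simpa using this
        · exact ⟨_, hT r, hne _ hr0 h1⟩
    have h1 := sub_mem (hT (g * r)) (mul_mem (pow_mem hg 2) (hT r))
    have h3 := mul_mem (hinv _ (sub_mem hg (pow_mem hg 2))) h1
    convert h3 using 1
    rw [show (g * r) ^ 2 + g * r - g ^ 2 * (r ^ 2 + r) = (g - g ^ 2) * r by ring,
      inv_mul_cancel_left₀ hgg]
  · obtain ⟨b, hb, hxb, hbQ, hbn⟩ := exists_orth_vec h2 hS hd hx hxQ
    have hQy : ∀ u : F, Q (u • x + b) = Q x * u ^ 2 + Q b := fun u => by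
      rw [form_add, form_smul, polar_smul_left, hxb, smul_zero, add_zero]; ring
    have h4 : (4 : F) ≠ 0 := fun e => h2 (mul_self_eq_zero.mp (by linear_combination e))
    have h4G : (4 : F) ∈ G := natCast_mem G 4
    set K := Q b / Q x with hK
    have hK0 : K ≠ 0 := div_ne_zero hbQ hxQ
    have hval : ∀ u : F, u ≠ 0 → Q x * u ^ 2 + Q b ≠ 0 → K / u ^ 2 ∈ G := fun u hu hyQ => by
      have h1 := htau _ (add_mem (S.smul_mem u hx) hb) (by rw [hQy]; exact hyQ)
      rw [polar_add_right, polar_smul_right, hxb, polar_self_eq, add_zero, smul_eq_mul, hQy] at h1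
      have h3 := sub_mem (mul_mem h4G (hinv _ h1)) (one_mem G)
      convert h3 using 1
      rw [hK]
      field_simp
      ring
    obtain ⟨u₁, hu₁, hu₁Q, hext⟩ : ∃ u₁ : F, u₁ ≠ 0 ∧ Q x * u₁ ^ 2 + Q b ≠ 0 ∧
        ∀ v : F, v ≠ 0 → ∃ m : F, m ≠ 0 ∧ Q x * (m * u₁) ^ 2 + Q b ≠ 0 ∧
          Q x * (v / m * u₁) ^ 2 + Q b ≠ 0 := by
      by_cases hs' : ∀ y ∈ S, y ≠ 0 → Q y ≠ 0
      · have hno : ∀ u : F, Q x * u ^ 2 + Q b ≠ 0 := fun u => by
          rw [← hQy]
          refine hs' _ (add_mem (S.smul_mem u hx) hb) fun e => hbn (-u) ?_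
          rw [neg_smul]; exact eq_neg_of_add_eq_zero_right e
        exact ⟨1, one_ne_zero, hno 1, fun v _ => ⟨1, one_ne_zero, hno _, hno _⟩⟩
      · simp only [not_forall, not_not] at hs'
        obtain ⟨x₀, hx₀, hx₀0, hx₀Q⟩ := hs'
        have h7 := hsing x₀ hx₀ hx₀0 hx₀Q
        obtain ⟨u₁, hu⟩ := exists_avoid ({0} ∪ quadRoots (Q x) 0 (Q b)) (by
          have := Finset.card_union_le ({0} : Finset F) (quadRoots (Q x) 0 (Q b))
          have := card_quadRoots_le (Q x) 0 (Q b)
          rw [Finset.card_singleton] at *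
          omega)
        simp only [Finset.mem_union, Finset.mem_singleton, not_or] at hu
        refine ⟨u₁, hu.1, fun e => hu.2 (mem_quadRoots hxQ (by linear_combination e)),
          fun v hv => ?_⟩
        obtain ⟨m, hm⟩ := exists_avoid ((({0} : Finset F) ∪ (quadRoots (Q x) 0 (Q b)).image (· / u₁))
          ∪ (quadRoots (Q x) 0 (Q b)).image (fun w => v * u₁ / w)) (by
          have := Finset.card_union_le (({0} : Finset F) ∪ (quadRoots (Q x) 0 (Q b)).image (· / u₁))
            ((quadRoots (Q x) 0 (Q b)).image (fun w => v * u₁ / w))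
          have := Finset.card_union_le ({0} : Finset F) ((quadRoots (Q x) 0 (Q b)).image (· / u₁))
          have := Finset.card_image_le (s := quadRoots (Q x) 0 (Q b)) (f := (· / u₁))
          have := Finset.card_image_le (s := quadRoots (Q x) 0 (Q b)) (f := fun w => v * u₁ / w)
          have := card_quadRoots_le (Q x) 0 (Q b)
          rw [Finset.card_singleton] at *
          omega)
        simp only [Finset.mem_union, Finset.mem_singleton, Finset.mem_image, not_or,
          not_exists, not_and] at hm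
        refine ⟨m, hm.1.1, fun e => hm.1.2 (m * u₁) (mem_quadRoots hxQ (by linear_combination e))
          (by rw [mul_div_cancel_right₀ _ hu.1]), fun e => ?_⟩
        refine hm.2 (v / m * u₁) (mem_quadRoots hxQ (by linear_combination e)) ?_
        field_simp [hm.1.1, hu.1]
    have hsq : ∀ v : F, v ^ 2 ∈ G := by
      have base : ∀ m : F, m ≠ 0 → Q x * (m * u₁) ^ 2 + Q b ≠ 0 → m ^ 2 ∈ G := fun m hm hmQ => by
        have h := mul_mem (hval u₁ hu₁ hu₁Q) (hinv _ (hval _ (mul_ne_zero hm hu₁) hmQ))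
        convert h using 1
        field_simp
      intro v
      by_cases hv : v = 0
      · rw [hv]; simpa using zero_mem G
      obtain ⟨m, hm, h1, h3⟩ := hext v hv
      have h := mul_mem (base m hm h1) (base _ (div_ne_zero hv hm) h3)
      convert h using 1
      field_simp
    intro r
    have h := mul_mem (hinv _ h4G) (sub_mem (hsq (r + 1)) (hsq (r - 1)))
    convert h using 1
    field_simp
    ring

/-- A reflection-invariant additive subgroup meeting a plane contains it. -/
theorem plane_le (hS : Nd Q S) (hd : Module.finrank F S = 2)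
    (hsing : ∀ x ∈ S, x ≠ 0 → Q x = 0 → 7 ≤ Nat.card F) {A : AddSubgroup V}
    (hA : ∀ x ∈ S, Q x ≠ 0 → ∀ z ∈ S, z ∈ A → (rf Q x).1 z ∈ A)
    {s : V} (hs : s ∈ S) (hs0 : s ≠ 0) (hsA : s ∈ A) : ∀ z ∈ S, z ∈ A := by
  have h4 : ∀ x ∈ S, x ≠ 0 → Q x = 0 → 4 ≤ Nat.card F := fun x hx h0 hQ =>
    le_trans (by norm_num) (hsing x hx h0 hQ)
  obtain ⟨x, hx, hxQ, hsx, -⟩ := exists_aniso_skew hS hd h4 hs hs0
  have hline := line_le hS hd hsing hA hx hxQ hs hsA (by rwa [polar_comm])
  have hx0 : x ≠ 0 := fun e => hxQ (by rw [e, QuadraticMap.map_zero])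
  obtain ⟨y, hy, hyQ, hxy, hyn⟩ := exists_aniso_skew hS hd h4 hx hx0
  have hline' := line_le hS hd hsing hA hy hyQ hx (by simpa using hline 1) (by rwa [polar_comm])
  intro z hz
  have hmem := le_of_indep hd.le hx hx0 hy hyn (T := Submodule.span F {x, y})
    (Submodule.subset_span (by simp)) (Submodule.subset_span (by simp)) hz
  obtain ⟨α, β, rfl⟩ := Submodule.mem_span_pair.mp hmem
  exact add_mem (hline α) (hline' β)

end Cfsg.Agent.OrthDec99
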