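import Cfsg.Agent.OrthDec99.Base

/-!
The congruence class of the member vectors of one value; an element moving a member vector to a
member vector enlarges it (helper99).
-/

set_option autoImplicit false
set_option linter.unusedSectionVars false

namespace Cfsg.Agent.OrthDec99

open QuadraticMap Cfsg.Agent.UnitaryOrthogonal Cfsg.Agent.OrthStab
open Cfsg.Agent.Wreath (Nd cut mem_cut finrank_cut Perm)

variable {F : Type*} [Field F] [Finite F] {V : Type*} [AddCommGroup V] [Module F V]
variable [FiniteDimensional F V] {Q : QuadraticForm F V}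
variable {t k : ℕ} {D : Fin t → Submodule F V}

/-- `a` is congruent to a member vector of value `c`. -/
def Reach (M : Subgroup (orth Q)) (D : Fin t → Submodule F V) (c : F) (a : V) : Prop :=
  ∃ (j : Fin t) (m : V), m ∈ D j ∧ Q m = c ∧ Rel M a m

/-- A vector congruent to the member vectors but outside every member. -/
def HasNonmember (M : Subgroup (orth Q)) (D : Fin t → Submodule F V) : Prop :=
  ∃ c : F, c ≠ 0 ∧ ∃ a, Reach M D c a ∧ ∀ l, a ∉ D l

theorem Reach.norm {M : Subgroup (orth Q)} {c : F} {a : V} (h : Reach M D c a) : Q a = c := by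
  obtain ⟨j, m, -, hm, hr⟩ := h
  rw [hr.1, hm]

variable (hD : Sys Q k D)
include hD

/-- The two reflections of an element of the stabiliser lie in two members. -/
theorem mem_pair_of_perm {u v : V} (hu : Q u ≠ 0) (hv : Q v ≠ 0) (hind : ∀ r : F, v ≠ r • u)
    (hP : Perm D (rf Q u * rf Q v)) :
    ∃ a b : Fin t, u ∈ D a ⊔ D b ∧ v ∈ D a ⊔ D b := by
  classical
  set x := rf Q u * rf Q v with hx
  set W := Submodule.span F ({u, v} : Set V) with hW
  have huW : u ∈ W := Submodule.subset_span (by simp)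
  have hvW : v ∈ W := Submodule.subset_span (by simp)
  have hu0 : u ≠ 0 := fun e => hu (by rw [e, QuadraticMap.map_zero])
  have hW2 : Module.finrank F W = 2 := by
    have hli : LinearIndependent F ![u, v] :=
      (LinearIndependent.pair_iff' hu0).mpr fun a e => hind a e.symm
    have := finrank_span_eq_card hli
    rwa [Matrix.range_cons, Matrix.range_cons, Matrix.range_empty, Set.union_empty,
      Set.singleton_union, Fintype.card_fin] at this
  have himg : ∀ z, x.1 z - z ∈ W := fun z => by
    rw [hx, coe_mul_apply, rf_apply, rf_apply]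
    have : z - ((Q v)⁻¹ * polar Q v z) • v - ((Q u)⁻¹ * polar Q u (z - ((Q v)⁻¹ * polar Q v z) • v)) • u - z
        = -(((Q v)⁻¹ * polar Q v z) • v) - ((Q u)⁻¹ * polar Q u (z - ((Q v)⁻¹ * polar Q v z) • v)) • u := by
      abel
    rw [this]
    exact sub_mem (neg_mem (W.smul_mem _ hvW)) (W.smul_mem _ huW)
  by_cases hmove : ∀ m, ∀ z ∈ D m, x.1 z ∈ D m
  swap
  · simp only [not_forall] at hmove
    obtain ⟨m, z₀, hz₀, hz₀'⟩ := hmove
    obtain ⟨l, hl⟩ := hP m
    have hml : m ≠ l := fun e => hz₀' (e ▸ hl z₀ hz₀)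
    let L : D m →ₗ[F] W :=
      ((x.1.toLinearMap - LinearMap.id).comp (D m).subtype).codRestrict W fun z => himg z
    have hinj : Function.Injective L := by
      rw [injective_iff_map_eq_zero]
      intro z hz
      have he : x.1 (z : V) - z = 0 := congrArg Subtype.val hz
      have h1 : (z : V) ∈ D l := by
        have := hl z z.2
        rwa [sub_eq_zero.mp he] at this
      refine Subtype.ext (hD.ndOn m z z.2 fun y hy => ?_)
      rw [polar_comm]; exact hD.orth m l hml y hy z h1
    have hk := LinearMap.finrank_le_finrank_of_injective hinj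
    have hk2 := hD.two_le
    rw [hD.dim, hW2] at hk
    have hsurj := (LinearMap.injective_iff_surjective_of_finrank_eq_finrank
      (by rw [hD.dim, hW2]; omega)).mp hinj
    have key : ∀ w ∈ W, w ∈ D m ⊔ D l := fun w hw => by
      obtain ⟨z, hz⟩ := hsurj ⟨w, hw⟩
      have he : x.1 (z : V) - z = w := congrArg Subtype.val hz
      rw [← he]
      exact sub_mem (Submodule.mem_sup_right (hl z z.2)) (Submodule.mem_sup_left z.2)
    exact ⟨m, l, key u huW, key v hvW⟩
  -- every member is stabilised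
  have hcomp : ∀ z m, pr hD m (x.1 z - z) ∈ W := fun z m => by
    have e : pr hD m (x.1 z) = x.1 (pr hD m z) := by
      conv_lhs => rw [← sum_pr hD z, map_sum]
      rw [show pr hD m (∑ i, x.1 (pr hD i z)) = ∑ i, pr hD m (x.1 (pr hD i z)) from
        map_sum (prL hD m) _ _, Finset.sum_eq_single m (fun i _ hi =>
          pr_other hD hi (hmove i _ (pr_mem hD i z))) (by simp),
        pr_self hD (hmove m _ (pr_mem hD m z))]
    rw [pr_sub, e]
    exact himg _
  obtain ⟨z₁, hz₁u, hz₁v⟩ : ∃ z, polar Q z u = 1 ∧ polar Q z v = 0 := by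
    obtain ⟨c, hc, hcS⟩ := exists_dual_vec hD.nd (S := Submodule.span F {v}) (e := u) (fun hm => by
      obtain ⟨r, hr⟩ := Submodule.mem_span_singleton.mp hm
      by_cases hr0 : r = 0
      · exact hu0 (by rw [← hr, hr0, zero_smul])
      · exact hind r⁻¹ (by rw [← hr, inv_smul_smul₀ hr0]))
    exact ⟨c, hc, hcS v (Submodule.mem_span_singleton_self v)⟩
  have hpu : ∀ m, pr hD m u ∈ W := fun m => by
    have h := hcomp z₁ m
    have e : x.1 z₁ - z₁ = (-(Q u)⁻¹) • u := by
      rw [hx, coe_mul_apply, rf_apply_of_polar (a := v) (by rw [polar_comm]; exact hz₁v), rf_apply,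
        polar_comm Q u z₁, hz₁u]
      module
    rw [e, pr_smul] at h
    exact (W.smul_mem_iff (neg_ne_zero.mpr (inv_ne_zero hu))).mp h
  obtain ⟨z₂, hz₂v⟩ : ∃ z, polar Q z v = 1 := by
    obtain ⟨c, hc, -⟩ := exists_dual_vec hD.nd (S := ⊥) (e := v)
      (by
        rw [Submodule.mem_bot]
        exact fun e => hv (by rw [e, QuadraticMap.map_zero]))
    exact ⟨c, hc⟩
  have hpv : ∀ m, pr hD m v ∈ W := fun m => by
    have h := hcomp z₂ m
    set α := (Q u)⁻¹ * polar Q u (z₂ - ((Q v)⁻¹ * 1) • v)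
    have e : x.1 z₂ - z₂ = (-(Q v)⁻¹) • v + (-α) • u := by
      rw [hx, coe_mul_apply, rf_apply, rf_apply, polar_comm Q v z₂, hz₂v]
      simp only [α]
      module
    rw [e, pr_add, pr_smul, pr_smul] at h
    have h' := sub_mem h (W.smul_mem (-α) (hpu m))
    rw [add_sub_cancel_right] at h'
    exact (W.smul_mem_iff (neg_ne_zero.mpr (inv_ne_zero hv))).mp h'
  obtain ⟨a, ha⟩ : ∃ a, pr hD a u ≠ 0 := by
    by_contra hc
    simp only [not_exists, not_not] at hc
    exact hu0 (by rw [← sum_pr hD u]; exact Finset.sum_eq_zero fun i _ => hc i)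
  -- at most two members meet the plane
  have three : ∀ p q r : Fin t, p ≠ q → p ≠ r → q ≠ r → ∀ e₁ ∈ W, ∀ e₂ ∈ W, ∀ e₃ ∈ W, e₁ ∈ D p →
      e₂ ∈ D q → e₃ ∈ D r → e₁ ≠ 0 → e₂ ≠ 0 → e₃ = 0 := by
    intro p q r hpq hpr hqr e₁ h1 e₂ h2 e₃ h3 d1 d2 d3 n1 n2
    have hli : LinearIndependent F ![e₁, e₂] := (LinearIndependent.pair_iff' n1).mpr fun s e => by
      have := congrArg (pr hD q) e
      rw [pr_smul, pr_other hD hpq d1, smul_zero, pr_self hD d2] at this
      exact n2 this.symm
    have hle : Submodule.span F ({e₁, e₂} : Set V) ≤ W := Submodule.span_le.mpr (by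
      intro y hy
      rcases hy with rfl | rfl
      · exact h1
      · exact h2)
    have hd : Module.finrank F (Submodule.span F ({e₁, e₂} : Set V)) = 2 := by
      have := finrank_span_eq_card hli
      rwa [Matrix.range_cons, Matrix.range_cons, Matrix.range_empty, Set.union_empty,
        Set.singleton_union, Fintype.card_fin] at this
    have heq := Submodule.eq_of_le_of_finrank_le hle (by omega)
    rw [← heq] at h3
    obtain ⟨s, s', hs⟩ := Submodule.mem_span_pair.mp h3
    have := congrArg (pr hD r) hs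
    rw [pr_add, pr_smul, pr_smul, pr_other hD hpr d1, pr_other hD hqr d2, smul_zero, smul_zero,
      zero_add, pr_self hD d3] at this
    exact this.symm
  by_cases hb : ∃ b, b ≠ a ∧ (pr hD b u ≠ 0 ∨ pr hD b v ≠ 0)
  · obtain ⟨b, hba, hb⟩ := hb
    obtain ⟨e, heW, heb, he0⟩ : ∃ e, e ∈ W ∧ e ∈ D b ∧ e ≠ 0 := by
      rcases hb with h | h
      · exact ⟨_, hpu b, pr_mem hD b u, h⟩
      · exact ⟨_, hpv b, pr_mem hD b v, h⟩
    refine ⟨a, b, mem_sup_of_pr hD fun m hma hmb => ?_, mem_sup_of_pr hD fun m hma hmb => ?_⟩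
    · exact three a b m hba.symm hma.symm hmb.symm _ (hpu a) e heW _ (hpu m) (pr_mem hD a u) heb
        (pr_mem hD m u) ha he0
    · exact three a b m hba.symm hma.symm hmb.symm _ (hpu a) e heW _ (hpv m) (pr_mem hD a u) heb
        (pr_mem hD m v) ha he0
  · simp only [not_exists, not_and, not_or, not_not] at hb
    exact ⟨a, a, mem_sup_of_pr hD fun m hma _ => (hb m hma).1,
      mem_sup_of_pr hD fun m hma _ => (hb m hma).2⟩

/-- If the vectors of one value of a member go to members, so does the member. -/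
theorem member_image (hO : Ok Q k D) {x : orth Q} {i : Fin t} {c : F} (hc : c ≠ 0)
    (h : ∀ m ∈ D i, Q m = c → ∃ l, x.1 m ∈ D l) : ∃ l, ∀ z ∈ D i, x.1 z ∈ D l := by
  classical
  obtain ⟨s, hs, hsQ⟩ := exists_norm hD i hc
  obtain ⟨a, ha⟩ := h s hs hsQ
  have hs0 : s ≠ 0 := fun e => hc (by rw [← hsQ, e, QuadraticMap.map_zero])
  have hxs : x.1 s ≠ 0 := fun e => hs0 (x.1.map_eq_zero_iff.mp e)
  rcases hO.dim with hk | hk
  · -- planes
    obtain ⟨s', hs', hs'Q, hn⟩ := exists_norm_indep (hD.ndOn i) (by rw [hD.dim, hk])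
      (fun y hy hy0 hyQ => le_trans (by norm_num) (hO.plane hk i y hy hy0 hyQ)) hs
      (by rw [hsQ]; exact hc)
    obtain ⟨b, hb⟩ := h s' hs' (hs'Q.trans hsQ)
    by_cases hab : a = b
    · subst hab
      exact ⟨a, fun z hz =>
        (le_of_indep (by rw [hD.dim, hk]) hs hs0 hs' hn (T := (D a).comap x.1.toLinearMap) ha hb)
          hz⟩
    exfalso
    have hperp : polar Q s s' = 0 := by rw [← map_polar x]; exact hD.orth a b hab _ ha _ hb
    have hxs' : x.1 s' ≠ 0 := fun e => by
      have := x.1.map_eq_zero_iff.mp e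
      exact hn 0 (by rw [this, zero_smul])
    by_cases h2 : (2 : F) = 0
    · refine hs0 (hD.ndOn i s hs fun y hy => ?_)
      exact (le_of_indep (by rw [hD.dim, hk]) hs hs0 hs' hn
        (T := LinearMap.ker (polarBilin Q s))
        (by show polar Q s s = 0; rw [polar_self_eq, h2, zero_mul]) hperp) hy
    -- a third vector of the same value
    obtain ⟨lam, μ, hl0, hμ0, hlm⟩ : ∃ lam μ : F, lam ≠ 0 ∧ μ ≠ 0 ∧ lam * lam + μ * μ = 1 := by
      haveI := Fintype.ofFinite F
      have hodd : Fintype.card F % 2 = 1 := FiniteField.odd_card_of_char_ne_two fun hc' => h2 (by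
        have := ringChar.Nat.cast_ringChar (R := F); rw [hc'] at this; exact_mod_cast this)
      have h3 := hO.three hk
      have h1 := Fintype.one_lt_card (α := F)
      rw [Nat.card_eq_fintype_card] at h3
      have h7 : 7 ≤ Nat.card F := by
        by_contra hlt
        rw [Nat.card_eq_fintype_card] at hlt
        have h5 : Fintype.card F = 5 := by omega
        have h50 : (5 : F) = 0 := by
          have := FiniteField.cast_card_eq_zero (K := F)
          rw [h5] at this; exact_mod_cast this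
        have hne : s + (2 : F) • s' ≠ 0 := fun e => hn (-(2 : F)⁻¹) (by
          rw [neg_smul, eq_neg_of_add_eq_zero_left e, smul_neg, neg_neg, inv_smul_smul₀ h2])
        have h7' := hO.plane hk i _ (add_mem hs ((D i).smul_mem 2 hs')) hne (by
          rw [form_add, form_smul, polar_smul_right, hperp, smul_zero, hs'Q, hsQ]
          linear_combination c * h50)
        rw [Nat.card_eq_fintype_card] at h7'
        omega
      let bad : Finset F := {0, 1, -1} ∪ (Polynomial.X ^ 2 + Polynomial.C (1 : F)).roots.toFinset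
      have hbad : bad.card ≤ 5 := by
        refine (Finset.card_union_le _ _).trans ?_
        have e1 : ({0, 1, -1} : Finset F).card ≤ 3 := Finset.card_le_three
        have e2 : (Polynomial.X ^ 2 + Polynomial.C (1 : F)).roots.toFinset.card ≤ 2 := by
          refine (Multiset.toFinset_card_le _).trans ((Polynomial.card_roots' _).trans ?_)
          rw [Polynomial.natDegree_X_pow_add_C]
        omega
      obtain ⟨r, hr⟩ := exists_avoid bad (by omega)
      simp only [bad, Finset.mem_union, Finset.mem_insert, Finset.mem_singleton, not_or,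
        Multiset.mem_toFinset] at hr
      obtain ⟨⟨hr0, hr1, hr2⟩, hr3⟩ := hr
      have hd : 1 + r * r ≠ 0 := fun e => hr3 (by
        rw [Polynomial.mem_roots', Polynomial.IsRoot]
        refine ⟨(Polynomial.monic_X_pow_add_C (1 : F) (by norm_num)).ne_zero, ?_⟩
        simp
        linear_combination e)
      refine ⟨2 * r / (1 + r * r), (1 - r * r) / (1 + r * r), div_ne_zero (mul_ne_zero h2 hr0) hd,
        div_ne_zero (fun e => ?_) hd, ?_⟩
      · exact (mul_self_eq_one_iff.mp (sub_eq_zero.mp e).symm).elim hr1 hr2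
      · rw [div_mul_div_comm, div_mul_div_comm, ← add_div, div_eq_one_iff_eq (mul_ne_zero hd hd)]
        ring
    obtain ⟨l, hl⟩ := h (lam • s + μ • s') (add_mem ((D i).smul_mem _ hs) ((D i).smul_mem _ hs'))
      (by
        rw [form_add, form_smul, form_smul, polar_smul_left, polar_smul_right, hperp, hs'Q, hsQ]
        simp
        linear_combination c * hlm)
    rw [map_add, map_smul, map_smul] at hl
    have e1 : l = a := by
      by_contra hla
      have := pr_other hD hla hl
      rw [pr_add, pr_smul, pr_smul, pr_self hD ha, pr_other hD (Ne.symm hab) hb, smul_zero,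
        add_zero] at this
      exact hxs ((smul_eq_zero.mp this).resolve_left hl0)
    have e2 : l = b := by
      by_contra hlb
      have := pr_other hD hlb hl
      rw [pr_add, pr_smul, pr_smul, pr_other hD hab ha, pr_self hD hb, smul_zero, zero_add] at this
      exact hxs' ((smul_eq_zero.mp this).resolve_left hμ0)
    exact hab (e1.symm.trans e2)
  -- larger members: the parts inside and outside `D a`
  set A := D i ⊓ (D a).comap x.1.toLinearMap with hA
  set B := D i ⊓ LinearMap.ker ((prL hD a).comp x.1.toLinearMap) with hB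
  have hmemB : ∀ v, v ∈ B ↔ v ∈ D i ∧ pr hD a (x.1 v) = 0 := fun v => Iff.rfl
  have hcase : ∀ m ∈ D i, Q m = c → m ∈ A ∨ m ∈ B := fun m hm hmQ => by
    obtain ⟨l, hl⟩ := h m hm hmQ
    by_cases e : l = a
    · subst e; exact Or.inl ⟨hm, hl⟩
    · exact Or.inr ((hmemB m).mpr ⟨hm, pr_other hD e hl⟩)
  have hsum : D i ≤ A ⊔ B := exists_norm_span hD hO i hc fun m hm hmQ => by
    rcases hcase m hm hmQ with h' | h'
    · exact Submodule.mem_sup_left h'
    · exact Submodule.mem_sup_right h'
  by_cases hB0 : B = ⊥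
  · refine ⟨a, fun z hz => ?_⟩
    have := hsum hz
    rw [hB0, sup_bot_eq] at this
    exact this.2
  exfalso
  have hAB : ∀ p ∈ A, ∀ q ∈ B, polar Q p q = 0 := fun p hp q hq => by
    have hp2 : x.1 p ∈ D a := hp.2
    rw [← map_polar x, polar_comm, ← pr_polar hD hp2, ((hmemB q).mp hq).2, polar_zero_left]
  have hdis : A ⊓ B = ⊥ := (Submodule.eq_bot_iff _).mpr fun v hv => by
    have h2' := ((hmemB v).mp hv.2).2
    have hv2 : x.1 v ∈ D a := hv.1.2
    rw [pr_self hD hv2] at h2'
    exact x.1.map_eq_zero_iff.mp h2'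
  have ndpart : ∀ P R : Submodule F V, P ≤ D i → D i ≤ P ⊔ R →
      (∀ p ∈ P, ∀ q ∈ R, polar Q p q = 0) → Nd Q P := fun P R hP hPR horth v hv hall =>
    hD.ndOn i v (hP hv) fun y hy => by
      obtain ⟨p, hp, q, hq, rfl⟩ := Submodule.mem_sup.mp (hPR hy)
      rw [polar_add_right, hall p hp, horth v hv q hq, add_zero]
  have hndA := ndpart A B inf_le_left hsum hAB
  have hndB := ndpart B A inf_le_left (by rw [sup_comm]; exact hsum)
    fun p hp q hq => by rw [polar_comm]; exact hAB q hq p hp
  have hdim : Module.finrank F A + Module.finrank F B = k := by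
    have e := Submodule.finrank_sup_add_finrank_inf_eq A B
    rw [hdis, finrank_bot, add_zero, le_antisymm (sup_le inf_le_left inf_le_left) hsum, hD.dim] at e
    omega
  -- no vector of value `c` has both parts
  have hno : ∀ p ∈ A, ∀ q ∈ B, p ≠ 0 → q ≠ 0 → Q p + Q q ≠ c := fun p hp q hq hp0 hq0 e => by
    have hQ : Q (p + q) = c := by rw [form_add, hAB p hp q hq, add_zero, e]
    rcases hcase _ (add_mem hp.1 hq.1) hQ with h' | h'
    · have hqA : q ∈ A := by simpa using sub_mem h' hp
      exact hq0 ((Submodule.eq_bot_iff _).mp hdis q ⟨hqA, hq⟩)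
    · have hpB : p ∈ B := by simpa using sub_mem h' hq
      exact hp0 ((Submodule.eq_bot_iff _).mp hdis p ⟨hp, hpB⟩)
  have hAs : s ∈ A := ⟨hs, ha⟩
  have sing : ∀ X : Submodule F V, 3 ≤ Module.finrank F X → ∀ e : F, ∃ v ∈ X, v ≠ 0 ∧
      (Nd Q X → Q v = e) := fun X hX e => by
    by_cases he : e = 0
    · obtain ⟨v, hv, hv0, hvQ⟩ := exists_singular_mem (Q := Q) X hX
      exact ⟨v, hv, hv0, fun _ => hvQ.trans he.symm⟩
    · by_cases hX' : Nd Q X
      · obtain ⟨v, hv, hvQ⟩ := exists_value hX' (by omega) he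
        exact ⟨v, hv, fun h0 => he (by rw [← hvQ, h0, QuadraticMap.map_zero]), fun _ => hvQ⟩
      · obtain ⟨v, hv, hv0, -⟩ := exists_singular_mem (Q := Q) X hX
        exact ⟨v, hv, hv0, fun h' => absurd h' hX'⟩
  rcases le_or_gt 3 (Module.finrank F B) with hb3 | hb3
  · obtain ⟨q, hq, hq0, hqQ⟩ := sing B hb3 0
    exact hno s hAs q hq hs0 hq0 (by rw [hqQ hndB, add_zero, hsQ])
  rcases le_or_gt 3 (Module.finrank F A) with ha3 | ha3
  · obtain ⟨q, hq, hq0⟩ := B.ne_bot_iff.mp hB0
    obtain ⟨p, hp, hp0, hpQ⟩ := sing A ha3 (c - Q q)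
    exact hno p hp q hq hp0 hq0 (by rw [hpQ hndA, sub_add_cancel])
  have hk4 : k = 4 := by omega
  have hA2 : Module.finrank F A = 2 := by omega
  have hB2 : Module.finrank F B = 2 := by omega
  by_cases hq2 : Nat.card F = 2
  · -- two elements
    haveI := Fintype.ofFinite F
    have h2 : (2 : F) = 0 := by
      have := FiniteField.cast_card_eq_zero (K := F)
      rw [← Nat.card_eq_fintype_card, hq2] at this; exact_mod_cast this
    have h01 : ∀ r : F, r ≠ 0 → r = 1 := fun r hr => by
      classical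
      by_contra hr1
      have h3 : ({0, 1, r} : Finset F).card = 3 := by
        rw [Finset.card_eq_three]
        exact ⟨0, 1, r, zero_ne_one, Ne.symm hr, Ne.symm hr1, rfl⟩
      have := Finset.card_le_univ ({0, 1, r} : Finset F)
      rw [h3, ← Nat.card_eq_fintype_card, hq2] at this
      omega
    have hc1 := h01 c hc
    have hall : ∀ X Y : Submodule F V, Module.finrank F X = 2 → Nd Q X →
        (∀ p ∈ X, ∀ q ∈ Y, p ≠ 0 → q ≠ 0 → Q p + Q q ≠ c) → ∀ q ∈ Y, q ≠ 0 → Q q = 1 := by
      intro X Y hX hXnd hXY q hq hq0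
      by_contra hne
      have hq0' : Q q = 0 := by
        by_contra h'; exact hne (h01 _ h')
      obtain ⟨p, hp, hpQ⟩ := exists_value hXnd (by omega) hc
      exact hXY p hp q hq (fun e => hc (by rw [← hpQ, e, QuadraticMap.map_zero])) hq0
        (by rw [hpQ, hq0', add_zero])
    have hBall := hall A B hA2 hndA hno
    have hAall := hall B A hB2 hndB fun p hp q hq hp0 hq0 => by
      rw [add_comm]; exact hno q hq p hp hq0 hp0
    let bA := Module.finBasisOfFinrankEq F A hA2
    let bB := Module.finBasisOfFinrankEq F B hB2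
    let G : ↥A →ₗ[F] V := A.subtype + B.subtype.comp (bA.equiv bB (Equiv.refl _)).toLinearMap
    have hG : ∀ p : A, G p = (p : V) + (bA.equiv bB (Equiv.refl _) p : V) := fun p => rfl
    have hGinj : Function.Injective G := by
      rw [injective_iff_map_eq_zero]
      intro p hp
      rw [hG] at hp
      refine Subtype.ext ((Submodule.eq_bot_iff _).mp hdis p ⟨p.2, ?_⟩)
      rw [eq_neg_of_add_eq_zero_left hp]
      exact neg_mem (bA.equiv bB (Equiv.refl _) p).2
    obtain ⟨u, hu, huQ⟩ := hO.small hk4 hq2 i (LinearMap.range G) (by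
        rintro _ ⟨p, rfl⟩
        rw [hG]
        exact add_mem p.2.1 (bA.equiv bB (Equiv.refl _) p).2.1)
      (by rw [LinearMap.finrank_range_of_inj hGinj, hA2])
    obtain ⟨p, rfl⟩ := hu
    refine huQ ?_
    by_cases hp0 : p = 0
    · rw [hp0, map_zero, QuadraticMap.map_zero]
    rw [hG, form_add, hAB _ p.2 _ (bA.equiv bB (Equiv.refl _) p).2,
      hAall _ p.2 (fun e => hp0 (Subtype.ext e)),
      hBall _ (bA.equiv bB (Equiv.refl _) p).2 (fun e => hp0 ?_), add_zero]
    · linear_combination h2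
    · exact (bA.equiv bB (Equiv.refl _)).map_eq_zero_iff.mp (Subtype.ext e)
  · haveI := Fintype.ofFinite F
    obtain ⟨e, he⟩ := exists_avoid ({0, c} : Finset F) (by
      have h1 := Fintype.one_lt_card (α := F)
      rw [← Nat.card_eq_fintype_card] at h1
      exact lt_of_le_of_lt Finset.card_le_two (by omega))
    simp only [Finset.mem_insert, Finset.mem_singleton, not_or] at he
    obtain ⟨p, hp, hpQ⟩ := exists_value hndA (by omega) he.1
    obtain ⟨q, hq, hqQ⟩ := exists_value hndB (by omega) (sub_ne_zero.mpr (Ne.symm he.2))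
    exact hno p hp q hq (fun h0 => he.1 (by rw [← hpQ, h0, QuadraticMap.map_zero]))
      (fun h0 => he.2 (by
        rw [h0, QuadraticMap.map_zero] at hqQ
        exact (sub_eq_zero.mp hqQ.symm).symm))
      (by rw [hpQ, hqQ, add_sub_cancel])

variable {M : Subgroup (orth Q)} (hM : ∀ h ∈ eichGroup Q, Perm D h → h ∈ M)
include hM

theorem reach_member {j : Fin t} {c : F} (hc : c ≠ 0) {m : V} (hm : m ∈ D j) (hmQ : Q m = c) :
    Reach M D c m :=
  ⟨j, m, hm, hmQ, rel_member hD hM hm hm (hmQ ▸ hc) rfl⟩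

theorem Reach.rel {c : F} (hc : c ≠ 0) {a b : V} (ha : Reach M D c a) (hb : Reach M D c b) :
    Rel M a b := by
  obtain ⟨j, m, hm, hmQ, hr⟩ := ha
  obtain ⟨j', m', hm', hm'Q, hr'⟩ := hb
  exact hr.trans ((rel_member hD hM hm hm' (hmQ ▸ hc) (hmQ.trans hm'Q.symm)).trans hr'.symm)

theorem Reach.reflect {c : F} (hc : c ≠ 0) {a b : V} (ha : Reach M D c a) (hb : Reach M D c b) :
    Reach M D c ((rf Q a).1 b) := by
  obtain ⟨j, m, hm, hmQ, hr⟩ := ha
  refine ⟨j, m, hm, hmQ, hr.reflect ?_⟩
  exact Reach.rel hD hM hc hb (reach_member hD hM hc hm hmQ)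

theorem Reach.map {c : F} (hc : c ≠ 0) {a : V} (ha : Reach M D c a) {x : orth Q} (hx : x ∈ M)
    {i l : Fin t} {p : V} (hp : p ∈ D i) (hpQ : Q p = c) (hxp : x.1 p ∈ D l) :
    Reach M D c (x.1 a) :=
  ⟨l, _, hxp, by rw [map_form, hpQ],
    (Reach.rel hD hM hc ha (reach_member hD hM hc hp hpQ)).map hx⟩

/-- An element of the stabiliser preserves the class. -/
theorem Reach.map_perm {c : F} (hc : c ≠ 0) {a : V} (ha : Reach M D c a) {x : orth Q}
    (hx : x ∈ M) (hP : Perm D x) : Reach M D c (x.1 a) := by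
  obtain ⟨j, m, hm, hmQ, hr⟩ := ha
  obtain ⟨l, hl⟩ := hP j
  exact Reach.map hD hM hc ⟨j, m, hm, hmQ, hr⟩ hx hm hmQ (hl m hm)

/-- An element outside the stabiliser moving a member vector to a member vector. -/
theorem hasNonmember_of_move (hO : Ok Q k D) {x : orth Q} (hx : x ∈ M) (hxP : ¬ Perm D x)
    {i l : Fin t} {p : V} (hp : p ∈ D i) (hpQ : Q p ≠ 0) (hxp : x.1 p ∈ D l) :
    HasNonmember M D := by
  by_contra hno
  simp only [HasNonmember, not_exists, not_and, not_forall, not_not] at hno
  refine hxP fun j => ?_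
  exact member_image hD hO hpQ fun m hm hmQ =>
    hno _ hpQ _ (Reach.map hD hM hpQ (reach_member hD hM hpQ hm hmQ) hx hp rfl hxp)

end Cfsg.Agent.OrthDec99
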