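import Cfsg.Agent.OrthDec99.Two

/-!
Planes: a congruent non-member vector, or a root element, spreads to all of `Ω` (helper99).
-/

set_option autoImplicit false
set_option linter.unusedSectionVars false

namespace Cfsg.Agent.OrthDec99

open QuadraticMap Cfsg.Agent.UnitaryOrthogonal Cfsg.Agent.OrthStab
open Cfsg.Agent.Wreath (Nd cut mem_cut finrank_cut Perm)

variable {F : Type*} [Field F] [Finite F] {V : Type*} [AddCommGroup V] [Module F V]
variable [FiniteDimensional F V] {Q : QuadraticForm F V}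

theorem exists_out {t : ℕ} (s : Finset (Fin t)) (h : s.card < t) : ∃ q, q ∉ s := by
  classical
  obtain ⟨q, -, hq⟩ := Finset.exists_mem_notMem_of_card_lt_card (s := s) (t := Finset.univ)
    (by rwa [Finset.card_univ, Fintype.card_fin])
  exact ⟨q, hq⟩

/-- The roots at `u` cover the member `q`. -/
def Cov (M : Subgroup (orth Q)) {t : ℕ} (D : Fin t → Submodule F V) (u : V) (q : Fin t) : Prop :=
  ∀ y ∈ D q, InW M u y

/-- Four reflections in orthogonal vectors `x` with `B(a,x) = Q x` subtract their sum. -/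
theorem four_apply {a x₁ x₂ x₃ x₄ : V} (n1 : Q x₁ ≠ 0) (n2 : Q x₂ ≠ 0) (n3 : Q x₃ ≠ 0)
    (n4 : Q x₄ ≠ 0) (a1 : polar Q a x₁ = Q x₁) (a2 : polar Q a x₂ = Q x₂)
    (a3 : polar Q a x₃ = Q x₃) (a4 : polar Q a x₄ = Q x₄) (o12 : polar Q x₁ x₂ = 0)
    (o13 : polar Q x₁ x₃ = 0) (o14 : polar Q x₁ x₄ = 0) (o23 : polar Q x₂ x₃ = 0)
    (o24 : polar Q x₂ x₄ = 0) (o34 : polar Q x₃ x₄ = 0) :
    (rf Q x₁ * rf Q x₂ * (rf Q x₃ * rf Q x₄)).1 a = a - (x₁ + x₂ + x₃ + x₄) := by
  have step : ∀ x y : V, Q x ≠ 0 → polar Q x y = Q x → (rf Q x).1 y = y - x := fun x y hx h => by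
    rw [rf_apply, h, inv_mul_cancel₀ hx, one_smul]
  rw [polar_comm] at a1 a2 a3 a4
  rw [coe_mul_apply, coe_mul_apply, coe_mul_apply, step x₄ a n4 a4,
    step x₃ (a - x₄) n3 (by rw [polar_sub_right, a3, o34, sub_zero]),
    step x₂ (a - x₄ - x₃) n2 (by rw [polar_sub_right, polar_sub_right, a2, o24, o23]; simp),
    step x₁ (a - x₄ - x₃ - x₂) n1
      (by rw [polar_sub_right, polar_sub_right, polar_sub_right, a1, o14, o13, o12]; simp)]
  abel

variable {t k : ℕ} {D : Fin t → Submodule F V} (hD : Sys Q k D)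
include hD

theorem polar_pr {q : Fin t} {y : V} (hy : y ∈ D q) (u : V) :
    polar Q y u = polar Q y (pr hD q u) := by
  rw [polar_comm Q y u, ← pr_polar hD hy, polar_comm]

theorem fix_of_pr {h : orth Q} {u : V}
    (hh : ∀ q, pr hD q u ≠ 0 → ∀ y ∈ D q, h.1 y = y) : h.1 u = u := by
  conv_lhs => rw [← sum_pr hD u, map_sum]
  conv_rhs => rw [← sum_pr hD u]
  refine Finset.sum_congr rfl fun q _ => ?_
  by_cases e : pr hD q u = 0
  · rw [e, map_zero]
  · exact hh q e _ (pr_mem hD q u)

variable {M : Subgroup (orth Q)} (hM : ∀ h ∈ eichGroup Q, Perm D h → h ∈ M)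
include hM

/-- A component in a free member spreads over it. -/
theorem cov_of_mem' (hk : k = 2) (hO : Ok Q k D) {u z : V} (hu : Q u = 0) (hz : InW M u z)
    {o : Fin t} (hou : pr hD o u = 0)
    (comp : ∀ c : F, c ≠ 0 → ∃ p, p ≠ o ∧ ∃ y ∈ D p, Q y = c ∧ polar Q y u = 0)
    (hzo : pr hD o z ≠ 0) : Cov M D u o := by
  have hd : Module.finrank F (D o) = 2 := by rw [hD.dim, hk]
  have hs4 : ∀ x ∈ D o, x ≠ 0 → Q x = 0 → 4 ≤ Nat.card F := fun x hx h0 hQ =>
    le_trans (by norm_num) (hO.plane hk o x hx h0 hQ)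
  let A : AddSubgroup V :=
    { carrier := {y | InW M u y}
      zero_mem' := InW.zero M u
      add_mem' := fun hx hy => InW.add hu hx hy
      neg_mem' := fun hx => InW.neg hu hx }
  have fixu : ∀ {q : Fin t}, pr hD q u = 0 → ∀ x ∈ D q, (rf Q x).1 u = u := fun {q} hq x hx =>
    rf_apply_of_polar (by rw [polar_pr hD hx, hq, polar_zero_right])
  have pairu : ∀ x ∈ D o, ∀ y, polar Q y u = 0 → (rf Q x * rf Q y).1 u = u := fun x hx y hy => by
    rw [coe_mul_apply, rf_apply_of_polar hy, fixu hou x hx]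
  have hA : ∀ x ∈ D o, Q x ≠ 0 → ∀ w ∈ D o, w ∈ A → (rf Q x).1 w ∈ A := by
    intro x hx hxQ w hw hwA
    obtain ⟨p, hop, y, hy, hyQ, hyu⟩ := comp _ hxQ
    have h := InW.map_fix hwA (rf_pair_eq hD hM hx hy hxQ hyQ.symm) (pairu x hx y hyu)
    rwa [coe_mul_apply, rf_apply_of_polar (hD.orth p o hop y hy w hw)] at h
  obtain ⟨x₀, hx₀, hx₀Q, hzx, -⟩ :=
    exists_aniso_skew (hD.ndOn o) hd hs4 (pr_mem hD o z) hzo
  obtain ⟨x₁, hx₁, hx₁Q, hn⟩ := exists_norm_indep (hD.ndOn o) hd.ge hs4 hx₀ hx₀Q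
  obtain ⟨p, hop, y, hy, hyQ, hyu⟩ := comp _ hx₀Q
  set z' := (rf Q y).1 z with hz'
  have h0 := InW.map_fix hz (rf_pair_eq hD hM hx₀ hy hx₀Q hyQ.symm) (pairu x₀ hx₀ y hyu)
  have h1 := InW.map_fix hz
    (rf_pair_eq hD hM hx₁ hy (hx₁Q ▸ hx₀Q) (hx₁Q.trans hyQ.symm)) (pairu x₁ hx₁ y hyu)
  rw [coe_mul_apply, ← hz', rf_apply] at h0 h1
  set μ₀ := (Q x₀)⁻¹ * polar Q x₀ z' with hμ₀
  set μ₁ := (Q x₁)⁻¹ * polar Q x₁ z'
  have hμ : μ₀ ≠ 0 := by
    refine mul_ne_zero (inv_ne_zero hx₀Q) ?_
    rw [hz', rf_apply, polar_sub_right, polar_smul_right, hD.orth o p hop.symm x₀ hx₀ y hy, smul_zero,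
      sub_zero, polar_pr hD hx₀, polar_comm]
    exact hzx
  have hs : μ₁ • x₁ - μ₀ • x₀ ∈ A := by
    have := InW.sub hu h0 h1
    rwa [show z' - μ₀ • x₀ - (z' - μ₁ • x₁) = μ₁ • x₁ - μ₀ • x₀ by abel] at this
  have hne : μ₁ • x₁ - μ₀ • x₀ ≠ 0 := fun e => by
    have hx₀0 : x₀ ≠ 0 := fun e0 => hx₀Q (by rw [e0, QuadraticMap.map_zero])
    rw [sub_eq_zero] at e
    by_cases h : μ₁ = 0
    · rw [h, zero_smul] at e
      exact hx₀0 ((smul_eq_zero.mp e.symm).resolve_left hμ)
    · exact hn (μ₁⁻¹ * μ₀) (by rw [mul_smul, ← e, inv_smul_smul₀ h])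
  exact plane_le (hD.ndOn o) hd (hO.plane hk o) hA
    (sub_mem ((D o).smul_mem _ hx₁) ((D o).smul_mem _ hx₀)) hne hs

/-- A component in a free member spreads over it, with a second free member at hand. -/
theorem cov_of_mem (hk : k = 2) (hO : Ok Q k D) {u z : V} (hu : Q u = 0) (hz : InW M u z)
    {o p : Fin t} (hop : o ≠ p) (hou : pr hD o u = 0) (hpu : pr hD p u = 0)
    (hzo : pr hD o z ≠ 0) : Cov M D u o :=
  cov_of_mem' hD hM hk hO hu hz hou (fun c hc => by
    obtain ⟨y, hy, hyQ⟩ := exists_norm hD p hc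
    exact ⟨p, hop.symm, y, hy, hyQ, by rw [polar_pr hD hy, hpu, polar_zero_right]⟩) hzo

/-- A covered free member carries to another free one. -/
theorem cov_of_cov (hk : k = 2) (hO : Ok Q k D) {u : V} (hu : Q u = 0) {o m r : Fin t}
    (hom : o ≠ m) (hor : o ≠ r) (hmr : m ≠ r) (hou : pr hD o u = 0) (hmu : pr hD m u = 0)
    (hru : pr hD r u = 0) (hc : Cov M D u o) : Cov M D u m := by
  obtain ⟨h, hh, h1, -, -, h4⟩ := exists_cycle hD hM hom hor hmr
  obtain ⟨y, hy, hy0⟩ := (D o).ne_bot_iff.mp fun e => by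
    have := hD.dim o
    rw [e, finrank_bot] at this
    omega
  have hfix : h.1 u = u := fix_of_pr hD fun q hq => h4 q (fun e => hq (e ▸ hou))
    (fun e => hq (e ▸ hmu)) (fun e => hq (e ▸ hru))
  refine cov_of_mem hD hM hk hO hu ((hc y hy).map_fix hh hfix) hom.symm hmu hou ?_
  rw [pr_self hD (h1 y hy)]
  exact fun e => hy0 (h.1.map_eq_zero_iff.mp e)

/-- All free members, once one is covered. -/
theorem cov_free (hk : k = 2) (hO : Ok Q k D) {u : V} (hu : Q u = 0) {ex : Finset (Fin t)}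
    (hex : ex.card + 2 < t) (hfree : ∀ q, q ∉ ex → pr hD q u = 0) {o : Fin t} (ho : o ∉ ex)
    (hc : Cov M D u o) : ∀ q, q ∉ ex → Cov M D u q := by
  classical
  intro q hq
  by_cases e : o = q
  · exact e ▸ hc
  obtain ⟨r, hr⟩ := exists_out (ex ∪ {o, q}) (by
    have := Finset.card_union_le ex {o, q}
    have : ({o, q} : Finset (Fin t)).card ≤ 2 := Finset.card_le_two
    omega)
  simp only [Finset.mem_union, Finset.mem_insert, Finset.mem_singleton, not_or] at hr
  exact cov_of_cov hD hM hk hO hu e (Ne.symm hr.2.1) (Ne.symm hr.2.2) (hfree o ho) (hfree q hq)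
    (hfree r hr.1) hc

/-- A root element at a singular member vector suffices. -/
theorem eichGroup_le_root (hk : k = 2) (hO : Ok Q k D) (hR : HasRoot M D) : eichGroup Q ≤ M := by
  classical
  have ht : 4 ≤ t := by have := hD.vol; subst hk; omega
  obtain ⟨i, f, ζ, hf, hf0, hfQ, hζ, hout⟩ := hR
  obtain ⟨o, hoi, ho⟩ : ∃ o, o ≠ i ∧ pr hD o ζ ≠ 0 := by
    by_contra h
    simp only [not_exists, not_and, not_not] at h
    exact hout (mem_of_pr hD h)
  have hfree : ∀ q, q ∉ ({i} : Finset (Fin t)) → pr hD q f = 0 := fun q hq =>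
    pr_other hD (fun e => hq (by simp [e])) hf
  obtain ⟨p, hp⟩ := exists_out ({i, o} : Finset (Fin t))
    (lt_of_le_of_lt Finset.card_le_two (by omega))
  simp only [Finset.mem_insert, Finset.mem_singleton, not_or] at hp
  have hall := cov_free hD hM hk hO hfQ (ex := {i}) (by rw [Finset.card_singleton]; omega) hfree
    (by simpa using hoi) (cov_of_mem hD hM hk hO hfQ hζ (Ne.symm hp.2) (hfree o (by simpa using hoi))
      (hfree p (by simpa using hp.1)) ho)
  have hfull : Full M f := by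
    intro v hv
    have : InW M f (∑ q, pr hD q v) := InW.sum hfQ fun q _ => by
      by_cases e : q = i
      · subst e
        obtain ⟨r, hr⟩ := eq_smul_of_perp (hD.ndOn q) (by rw [hD.dim, hk]) hf hf0
          (by rw [polar_self_eq, hfQ, mul_zero]) (pr_mem hD q v) (by rw [← polar_pr hD hf]; exact hv)
        rw [hr]; exact InW.self hfQ r
      · exact hall q (by simpa using e) _ (pr_mem hD q v)
    rw [sum_pr] at this
    exact this.2
  obtain ⟨f', hf', hf'Q, hff'⟩ := exists_partner (hD.ndOn i) hf hfQ hf0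
  have hQ1 : Q (f' + f) = 1 := by rw [form_add, hf'Q, hfQ, polar_comm, hff']; simp
  obtain ⟨y, hy, hyQ⟩ := exists_norm hD o (one_ne_zero (α := F))
  refine done_of_full hD hM hfQ hfull (rf_pair_eq hD hM (add_mem hf' hf) hy
    (by rw [hQ1]; exact one_ne_zero) (hQ1.trans hyQ.symm)) ?_
  rw [coe_mul_apply, rf_apply_of_polar (a := y) (hD.orth o i hoi y hy f hf), rf_apply, hQ1,
    polar_add_left, polar_comm Q f' f, hff', polar_self_eq, hfQ, mul_zero, add_zero, inv_one,
    one_mul, one_smul, polar_sub_right, polar_add_right, hff', polar_self_eq, hfQ]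
  simp

open scoped Classical in
/-- The members met by `a`. -/
noncomputable def supp (a : V) : Finset (Fin t) := Finset.univ.filter fun q => pr hD q a ≠ 0

omit hM in
theorem mem_supp {a : V} {q : Fin t} : q ∈ supp hD a ↔ pr hD q a ≠ 0 := by
  classical
  simp [supp]

/-- A larger support. -/
theorem supp_grow (hk : k = 2) (hO : Ok Q k D) {c : F} (hc : c ≠ 0) {a : V} (ha : Reach M D c a)
    (h2 : 2 ≤ (supp hD a).card) (h5 : 2 * (supp hD a).card ≤ t + 1)
    (h6 : (supp hD a).card + 1 < t) :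
    ∃ b, Reach M D c b ∧ (supp hD a).card < (supp hD b).card := by
  classical
  set S := supp hD a with hS
  obtain ⟨l, hl⟩ : S.Nonempty := Finset.card_pos.mp (by omega)
  have key : ∀ R ⊆ S.erase l, ∃ y, Reach M D c y ∧ pr hD l y = pr hD l a ∧
      (∀ q ∈ R, pr hD q y = 0) ∧ (∀ q ∈ S, q ∉ R → pr hD q y = pr hD q a) ∧
      (supp hD y).card = S.card := by
    intro R
    induction R using Finset.induction with
    | empty => exact fun _ => ⟨a, ha, rfl, by simp, fun q _ _ => rfl, rfl⟩
    | insert m R hmR ih =>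
      intro hsub
      obtain ⟨y, hy, hyl, hyR, hyS, hyc⟩ := ih ((Finset.subset_insert m R).trans hsub)
      have hm := hsub (Finset.mem_insert_self m R)
      rw [Finset.mem_erase] at hm
      have hym : pr hD m y = pr hD m a := hyS m hm.2 hmR
      have hmy : m ∈ supp hD y := by rw [mem_supp hD, hym]; exact (mem_supp hD).mp hm.2
      have hly : l ∈ supp hD y := by rw [mem_supp hD, hyl]; exact (mem_supp hD).mp hl
      obtain ⟨o, ho⟩ := exists_out (supp hD y ∪ S) (by
        have e := Finset.card_union_add_card_inter (supp hD y) S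
        have h' : ({l, m} : Finset (Fin t)) ⊆ supp hD y ∩ S := by
          intro q hq
          simp only [Finset.mem_insert, Finset.mem_singleton] at hq
          rcases hq with rfl | rfl
          · exact Finset.mem_inter.mpr ⟨hly, hl⟩
          · exact Finset.mem_inter.mpr ⟨hmy, hm.2⟩
        have h'' := Finset.card_le_card h'
        rw [Finset.card_pair (Ne.symm hm.1)] at h''
        omega)
      simp only [Finset.mem_union, not_or] at ho
      obtain ⟨r, hr⟩ := exists_out (insert o (supp hD y)) (by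
        have := Finset.card_insert_le o (supp hD y)
        omega)
      simp only [Finset.mem_insert, not_or] at hr
      have hmo : m ≠ o := fun e => ho.2 (e ▸ hm.2)
      have hmr : m ≠ r := fun e => hr.2 (e ▸ hmy)
      obtain ⟨h, hhE, hhP, h1, -, -, h4⟩ := exists_cycle_raw hD hmo hmr (Ne.symm hr.1)
      have hyo : pr hD o y = 0 := by
        by_contra hne; exact ho.1 ((mem_supp hD).mpr hne)
      have hyr : pr hD r y = 0 := by
        by_contra hne; exact hr.2 ((mem_supp hD).mpr hne)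
      have happ : h.1 y = y - pr hD m y + h.1 (pr hD m y) := by
        have e : h.1 (y - pr hD m y) = y - pr hD m y := fix_of_pr hD fun q hq => by
          rw [pr_sub] at hq
          refine h4 q (fun e => hq ?_) (fun e => hq ?_) (fun e => hq ?_)
          · rw [e, pr_self hD (pr_mem hD m y), sub_self]
          · rw [e, hyo, pr_other hD hmo (pr_mem hD m y), sub_zero]
          · rw [e, hyr, pr_other hD hmr (pr_mem hD m y), sub_zero]
        rw [map_sub, sub_eq_iff_eq_add] at e
        exact e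
      have hpm : pr hD m (h.1 y) = 0 := by
        rw [happ, pr_add, pr_sub, pr_self hD (pr_mem hD m y),
          pr_other hD hmo.symm (h1 _ (pr_mem hD m y))]
        simp
      have hpo : pr hD o (h.1 y) = h.1 (pr hD m y) := by
        rw [happ, pr_add, pr_sub, hyo, pr_other hD hmo (pr_mem hD m y),
          pr_self hD (h1 _ (pr_mem hD m y))]
        simp
      have hpq : ∀ q, q ≠ m → q ≠ o → pr hD q (h.1 y) = pr hD q y := fun q hqm hqo => by
        rw [happ, pr_add, pr_sub, pr_other hD (Ne.symm hqm) (pr_mem hD m y),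
          pr_other hD (Ne.symm hqo) (h1 _ (pr_mem hD m y))]
        simp
      refine ⟨h.1 y, Reach.map_perm hD hM hc hy (hM h hhE hhP) hhP, ?_, fun q hq => ?_,
        fun q hqS hq => ?_, ?_⟩
      · rw [hpq l (Ne.symm hm.1) (fun e => ho.2 (e ▸ hl)), hyl]
      · rcases Finset.mem_insert.mp hq with rfl | hq
        · exact hpm
        · have hqS : q ∈ S :=
            Finset.mem_of_mem_erase (hsub (Finset.mem_insert_of_mem hq))
          rw [hpq q (fun e => hmR (e ▸ hq)) (fun e => ho.2 (e ▸ hqS)), hyR q hq]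
      · simp only [Finset.mem_insert, not_or] at hq
        rw [hpq q hq.1 (fun e => ho.2 (e ▸ hqS)), hyS q hqS hq.2]
      · have e : supp hD (h.1 y) = insert o ((supp hD y).erase m) := by
          ext q
          simp only [mem_supp hD, Finset.mem_insert, Finset.mem_erase]
          by_cases hqo : q = o
          · subst hqo
            rw [hpo]
            simpa using fun e => (mem_supp hD).mp hmy (h.1.map_eq_zero_iff.mp e)
          by_cases hqm : q = m
          · subst hqm; simp [hpm, hqo]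
          rw [hpq q hqm hqo]; simp [hqo, hqm]
        rw [e, Finset.card_insert_of_notMem (fun h' => ho.1 (Finset.mem_of_mem_erase h')),
          Finset.card_erase_of_mem hmy, hyc]
        omega
  obtain ⟨y, hy, hyl, hyR, -, hyc⟩ := key _ subset_rfl
  obtain ⟨x, hx, hxQ, hlx, hxn, hmove⟩ := exists_move_vec (hD.ndOn l) (by rw [hD.dim, hk])
    (hO.three hk) (hO.plane hk l) (pr_mem hD l a) ((mem_supp hD).mp hl)
  obtain ⟨p, hp⟩ := exists_out (insert l (supp hD y)) (by
    have := Finset.card_insert_le l (supp hD y)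
    omega)
  simp only [Finset.mem_insert, not_or] at hp
  obtain ⟨w, hw, hwQ⟩ := exists_norm hD p hxQ
  have hwy : polar Q w y = 0 := by
    rw [polar_pr hD hw, show pr hD p y = 0 by
      by_contra hne; exact hp.2 ((mem_supp hD).mpr hne), polar_zero_right]
  have hpair := rf_pair_eq hD hM hx hw hxQ hwQ.symm
  set v := (rf Q x * rf Q w).1 y with hv
  have hvR : Reach M D c v :=
    Reach.map_perm hD hM hc hy hpair ((fix_rf hD hx).mul (fix_rf hD hw)).perm
  set μ := (Q x)⁻¹ * polar Q x (pr hD l a) with hμ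
  have hveq : v = y - μ • x := by
    rw [hv, coe_mul_apply, rf_apply_of_polar hwy, rf_apply, polar_pr hD hx, hyl]
  have hay : polar Q a y = 2 * Q (pr hD l a) := by
    conv_lhs => rw [← sum_pr hD y]
    rw [show polar Q a (∑ q, pr hD q y) = ∑ q, polar Q a (pr hD q y) from
      map_sum (polarBilin Q a) _ _, Finset.sum_eq_single l]
    · rw [← pr_polar hD (pr_mem hD l y), hyl, polar_self_eq]
    · intro q _ hql
      rw [← pr_polar hD (pr_mem hD q y)]
      by_cases hq : q ∈ S
      · rw [hyR q (Finset.mem_erase.mpr ⟨hql, hq⟩), polar_zero_right]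
      · rw [show pr hD q a = 0 by by_contra hne; exact hq ((mem_supp hD).mpr hne),
          polar_zero_left]
    · simp
  have hav : polar Q a v ≠ 0 := by
    rw [hveq, polar_sub_right, hay, polar_smul_right, ← pr_polar hD hx a, hμ,
      polar_comm Q x (pr hD l a), smul_eq_mul]
    intro e
    refine hmove ?_
    field_simp at e
    linear_combination e
  set ν := (Q a)⁻¹ * polar Q a v with hν
  have hν0 : ν ≠ 0 := mul_ne_zero (inv_ne_zero (by rw [ha.norm]; exact hc)) hav
  refine ⟨(rf Q a).1 v, Reach.reflect hD hM hc ha hvR, ?_⟩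
  have hpr : ∀ q, pr hD q ((rf Q a).1 v) = pr hD q y - μ • pr hD q x - ν • pr hD q a := fun q => by
    rw [rf_apply, ← hν, pr_sub, pr_smul, hveq, pr_sub, pr_smul]
  have hsub : S ∪ supp hD y ⊆ supp hD ((rf Q a).1 v) := by
    intro q hq
    rw [mem_supp hD, hpr]
    by_cases hql : q = l
    · subst hql
      rw [pr_self hD hx, hyl]
      intro e
      have hμ0 : μ ≠ 0 := mul_ne_zero (inv_ne_zero hxQ) (by rwa [polar_comm])
      refine hxn (μ⁻¹ * (1 - ν)) ?_
      have e' : μ • x = (1 - ν) • pr hD q a := by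
        rw [← sub_eq_zero, ← neg_eq_zero, ← e, sub_smul, one_smul]; abel
      rw [mul_smul, ← e', inv_smul_smul₀ hμ0]
    rw [pr_other hD (Ne.symm hql) hx, smul_zero, sub_zero]
    rcases Finset.mem_union.mp hq with hq | hq
    · rw [hyR q (Finset.mem_erase.mpr ⟨hql, hq⟩), zero_sub, neg_ne_zero]
      exact smul_ne_zero hν0 ((mem_supp hD).mp hq)
    · have hqS : q ∉ S := fun h' =>
        (mem_supp hD).mp hq (hyR q (Finset.mem_erase.mpr ⟨hql, h'⟩))
      rw [show pr hD q a = 0 by by_contra hne; exact hqS ((mem_supp hD).mpr hne), smul_zero,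
        sub_zero]
      exact (mem_supp hD).mp hq
  have hinter : S ∩ supp hD y ⊆ {l} := by
    intro q hq
    rw [Finset.mem_inter] at hq
    rw [Finset.mem_singleton]
    by_contra hql
    exact (mem_supp hD).mp hq.2 (hyR q (Finset.mem_erase.mpr ⟨hql, hq.1⟩))
  have h' := Finset.card_le_card hsub
  have h'' := Finset.card_le_card hinter
  have e := Finset.card_union_add_card_inter S (supp hD y)
  rw [Finset.card_singleton] at h''
  omega

/-- A non-member vector with at least five components. -/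
theorem exists_five (hk : k = 2) (hO : Ok Q k D) (ht : 7 ≤ t) (hN : HasNonmember M D) :
    ∃ c : F, c ≠ 0 ∧ ∃ a, Reach M D c a ∧ 5 ≤ (supp hD a).card := by
  classical
  obtain ⟨c, hc, a, ha, hout⟩ := hN
  refine ⟨c, hc, ?_⟩
  have h2 : 2 ≤ (supp hD a).card := by
    by_contra h
    haveI : Nonempty (Fin t) := ⟨⟨0, t_pos hD⟩⟩
    rcases Finset.card_le_one_iff_subset_singleton.mp (show (supp hD a).card ≤ 1 by omega)
      with ⟨q, hq⟩
    refine hout q (mem_of_pr hD fun m hm => ?_)
    by_contra hne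
    exact hm (Finset.mem_singleton.mp (hq ((mem_supp hD).mpr hne)))
  suffices ∀ n a, Reach M D c a → 2 ≤ (supp hD a).card → 5 ≤ (supp hD a).card + n →
      ∃ b, Reach M D c b ∧ 5 ≤ (supp hD b).card from this 5 a ha h2 (by omega)
  intro n
  induction n with
  | zero => exact fun a ha _ h => ⟨a, ha, h⟩
  | succ n ih =>
    intro a ha h2 h
    by_cases h5 : 5 ≤ (supp hD a).card
    · exact ⟨a, ha, h5⟩
    obtain ⟨b, hb, hlt⟩ := supp_grow hD hM hk hO hc ha h2 (by omega) (by omega)
    exact ih b hb (by omega) (by omega)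

/-- An element sweeping roots at a mixed vector into roots at another. -/
theorem push {o p r i : Fin t} (hop : o ≠ p) (hor : o ≠ r) (hpr : p ≠ r) (hio : i ≠ o)
    (hip : i ≠ p) (hir : i ≠ r) {eo ep e' er : V} (heo : eo ∈ D o) (hep : ep ∈ D p)
    (he' : e' ∈ D o) (her : er ∈ D r) (hepQ : Q ep = -Q eo) (he'Q : Q e' = Q eo)
    (herQ : Q er = -Q eo) (hB : polar Q eo e' ≠ 0)
    (hf : ∀ q, q ≠ o → q ≠ p → Cov M D (eo + ep) q)
    (hf' : ∀ q, q ≠ o → q ≠ r → Cov M D (e' + er) q) {s : V} (hs : s ∈ D p) :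
    InW M (eo + ep) (s - (polar Q (eo + ep) s / polar Q eo e') • (e' + er)) := by
  set f := eo + ep with hfdef
  set f' := e' + er with hf'def
  set B := polar Q eo e' with hBdef
  have hfQ : Q f = 0 := by rw [hfdef, form_add, hepQ, hD.orth o p hop eo heo ep hep]; ring
  have hf'Q : Q f' = 0 := by
    rw [hf'def, form_add, he'Q, herQ, hD.orth o r hor e' he' er her]; ring
  have hff' : polar Q f f' = B := by
    rw [hfdef, hf'def, polar_add_left, polar_add_right, polar_add_right,
      hD.orth o r hor eo heo er her, hD.orth p o hop.symm ep hep e' he',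
      hD.orth p r hpr ep hep er her]
    simp [hBdef]
  have hff : polar Q f f = 0 := by rw [polar_self_eq, hfQ, mul_zero]
  have hf'f' : polar Q f' f' = 0 := by rw [polar_self_eq, hf'Q, mul_zero]
  obtain ⟨v, hv, hvQ⟩ := exists_norm hD i (one_ne_zero (α := F))
  have hfv : polar Q f v = 0 := by
    rw [hfdef, polar_add_left, hD.orth o i hio.symm eo heo v hv, hD.orth p i hip.symm ep hep v hv,
      add_zero]
  have hf'v : polar Q f' v = 0 := by
    rw [hf'def, polar_add_left, hD.orth o i hio.symm e' he' v hv,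
      hD.orth r i hir.symm er her v hv, add_zero]
  set β := B⁻¹ with hβ
  have hfbv : polar Q f' (β • v) = 0 := by rw [polar_smul_right, hf'v, smul_zero]
  set h := eich Q f' (β • v) * eich Q f v with hh
  have hhM : h ∈ M := mul_mem (hf' i hio hir _ ((D i).smul_mem β hv)).2 (hf i hio hip v hv).2
  have hhf : h.1 f' = (-B) • f := by
    have e1 : (eich Q f v).1 f' = f' + B • v - B • f := by
      rw [eich_apply hfQ hfv, hff', polar_comm Q v f', hf'v, hvQ, one_mul, zero_smul, sub_zero]
    rw [hh, coe_mul_apply, e1, map_sub, map_add, map_smul, map_smul, eich_apply hf'Q hfbv,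
      eich_apply hf'Q hfbv, eich_apply hf'Q hfbv, hf'f', form_smul, hvQ, polar_smul_left,
      polar_smul_left, polar_smul_left, polar_comm Q v f', hf'v, polar_comm Q v f, hfv,
      polar_comm Q f' f, hff', polar_self_eq, hvQ]
    simp only [smul_eq_mul, smul_smul, smul_add, smul_sub, zero_smul, sub_zero, add_zero,
      mul_zero, mul_one, zero_mul]
    simp only [hβ]
    match_scalars <;> field_simp <;> ring
  set s₀ := (-B)⁻¹ • s with hs₀
  clear_value s₀
  set s' := s₀ - (polar Q f s₀ / B) • f' with hs'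
  have hs₀p : s₀ ∈ D p := by rw [hs₀]; exact (D p).smul_mem _ hs
  have hfs : polar Q f s' = 0 := by
    rw [hs', polar_sub_right, polar_smul_right, hff', smul_eq_mul, div_mul_cancel₀ _ hB, sub_self]
  have hf's₀ : polar Q f' s₀ = 0 := by
    rw [hf'def, polar_add_left, hD.orth o p hop e' he' s₀ hs₀p,
      hD.orth r p hpr.symm er her s₀ hs₀p, add_zero]
  have hf's : polar Q f' s' = 0 := by
    rw [hs', polar_sub_right, polar_smul_right, hf's₀, hf'f', smul_zero, sub_zero]
  have hvs : polar Q v s' = 0 := by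
    rw [hs', polar_sub_right, polar_smul_right, hD.orth i p hip v hv s₀ hs₀p,
      polar_comm Q v f', hf'v, smul_zero, sub_zero]
  have hhs : h.1 s' = s' := by
    have e1 : (eich Q f v).1 s' = s' := by rw [eich_apply hfQ hfv, hfs, hvs]; simp
    rw [hh, coe_mul_apply, e1, eich_apply hf'Q hfbv, hf's, polar_smul_left, hvs]
    simp
  have hW : InW M f' s' := by
    rw [hs', sub_eq_add_neg, ← neg_smul]
    exact (hf' p hop.symm hpr s₀ hs₀p).add hf'Q (InW.self hf'Q _)
  have h1 := hW.map hhM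
  rw [hhf, hhs] at h1
  have h2 := (InW.smul_left hfQ (neg_ne_zero.mpr hB)).mp h1
  convert h2 using 1
  rw [hs', hs₀, polar_smul_right, smul_eq_mul, smul_sub, smul_inv_smul₀ (neg_ne_zero.mpr hB),
    smul_smul]
  congr 2
  field_simp

/-- A non-member vector congruent to the members suffices. -/
theorem eichGroup_le_nonmember (hk : k = 2) (hO : Ok Q k D) (ht : 7 ≤ t)
    (hN : HasNonmember M D) : eichGroup Q ≤ M := by
  classical
  have hd : ∀ q, Module.finrank F (D q) = 2 := fun q => by rw [hD.dim, hk]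
  have hs4 : ∀ q, ∀ x ∈ D q, x ≠ 0 → Q x = 0 → 4 ≤ Nat.card F := fun q x hx h0 hQ =>
    le_trans (by norm_num) (hO.plane hk q x hx h0 hQ)
  obtain ⟨c, hc, a, ha, h5⟩ := exists_five hD hM hk hO ht hN
  have pick : ∀ ex : Finset (Fin t), ex.card < 5 → ∃ q, q ∉ ex ∧ pr hD q a ≠ 0 := fun ex hex => by
    obtain ⟨q, hq, hqe⟩ := Finset.exists_mem_notMem_of_card_lt_card (lt_of_lt_of_le hex h5)
    exact ⟨q, hqe, (mem_supp hD).mp hq⟩
  obtain ⟨i, -, hi⟩ := pick ∅ (by simp)
  obtain ⟨l, hl', hl⟩ := pick {i} (by simp)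
  obtain ⟨n, hn', hn⟩ := pick {i, l} (lt_of_le_of_lt Finset.card_le_two (by norm_num))
  obtain ⟨m, hm', hm⟩ := pick {i, l, n} (lt_of_le_of_lt Finset.card_le_three (by norm_num))
  set ex : Finset (Fin t) := {i, l, n, m} with hex
  have hexc : ex.card ≤ 4 := Finset.card_le_four
  obtain ⟨o, ho, hoa⟩ := pick ex (by omega)
  simp only [Finset.mem_insert, Finset.mem_singleton, not_or] at hl' hn' hm'
  have hli : i ≠ l := Ne.symm hl'
  obtain ⟨γ, hγ, ⟨d, hdD, hd1, hd2⟩, e, heD, he1, he2⟩ := exists_pair_values (hD.ndOn i)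
    (hD.ndOn l) (hd i) (hd l) (hD.iso i l) (hO.plane hk i) (hO.plane hk l) (pr_mem hD i a) hi
    (pr_mem hD l a) hl
  obtain ⟨δ, hδ, ⟨d', hd'D, hd'1, hd'2⟩, e', he'D, he'1, he'2⟩ := exists_pair_values (hD.ndOn n)
    (hD.ndOn m) (hd n) (hd m) (hD.iso n m) (hO.plane hk n) (hO.plane hk m) (pr_mem hD n a) hn
    (pr_mem hD m a) hm
  have ade : polar Q a d = Q d := by rw [← pr_polar hD hdD, hd1, hd2]
  have aee : polar Q a e = Q e := by rw [← pr_polar hD heD, he1, he2]
  have ade' : polar Q a d' = Q d' := by rw [← pr_polar hD hd'D, hd'1, hd'2]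
  have aee' : polar Q a e' = Q e' := by rw [← pr_polar hD he'D, he'1, he'2]
  have nd : Q d ≠ 0 := by rw [hd2]; exact hγ
  have ne : Q e ≠ 0 := by rw [he2]; exact neg_ne_zero.mpr hγ
  have nd' : Q d' ≠ 0 := by rw [hd'2]; exact hδ
  have ne' : Q e' ≠ 0 := by rw [he'2]; exact neg_ne_zero.mpr hδ
  have o1 : polar Q d e = 0 := hD.orth i l hli d hdD e heD
  have o2 : polar Q d d' = 0 := hD.orth i n (Ne.symm hn'.1) d hdD d' hd'D
  have o3 : polar Q d e' = 0 := hD.orth i m (Ne.symm hm'.1) d hdD e' he'D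
  have o4 : polar Q e d' = 0 := hD.orth l n (Ne.symm hn'.2) e heD d' hd'D
  have o5 : polar Q e e' = 0 := hD.orth l m (Ne.symm hm'.2.1) e heD e' he'D
  have o6 : polar Q d' e' = 0 := hD.orth n m (Ne.symm hm'.2.2) d' hd'D e' he'D
  set u := -(d + e + d' + e') with hu
  obtain ⟨h, hhM, hhP, hha⟩ : ∃ h ∈ M, Perm D h ∧ h.1 a = a + u := by
    have fp : ∀ {q₁ q₂ q₃ q₄ : Fin t} {x₁ x₂ x₃ x₄ : V}, x₁ ∈ D q₁ → x₂ ∈ D q₂ → x₃ ∈ D q₃ →
        x₄ ∈ D q₄ → Perm D (rf Q x₁ * rf Q x₂ * (rf Q x₃ * rf Q x₄)) :=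
      fun h1 h2 h3 h4 => (((fix_rf hD h1).mul (fix_rf hD h2)).mul
        ((fix_rf hD h3).mul (fix_rf hD h4))).perm
    by_cases hneg : IsSquare (-1 : F)
    · refine ⟨_, mul_mem (rf_pair hD hM hdD heD nd ne ?_) (rf_pair hD hM hd'D he'D nd' ne' ?_),
        fp hdD heD hd'D he'D, ?_⟩
      · rwa [hd2, he2, div_neg, div_self hγ]
      · rwa [hd'2, he'2, div_neg, div_self hδ]
      · rw [four_apply nd ne nd' ne' ade aee ade' aee' o1 o2 o3 o4 o5 o6, hu, sub_eq_add_neg]
    by_cases hgd : IsSquare (γ / δ)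
    · refine ⟨_, mul_mem (rf_pair hD hM hdD hd'D nd nd' ?_) (rf_pair hD hM heD he'D ne ne' ?_),
        fp hdD hd'D heD he'D, ?_⟩
      · rwa [hd2, hd'2]
      · rwa [he2, he'2, neg_div_neg_eq]
      · rw [four_apply nd nd' ne ne' ade ade' aee aee' o2 o1 o3 (by rw [polar_comm]; exact o4) o6
          o5, hu]
        abel
    have hsq : IsSquare (-(γ / δ)) := by
      have := isSquare_div_of_not (neg_ne_zero.mpr (one_ne_zero (α := F))) hgd hneg
      rwa [div_neg, div_one] at this
    refine ⟨_, mul_mem (rf_pair hD hM hdD he'D nd ne' ?_) (rf_pair hD hM heD hd'D ne nd' ?_),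
      fp hdD he'D heD hd'D, ?_⟩
    · rwa [hd2, he'2, div_neg]
    · rwa [he2, hd'2, neg_div]
    · rw [four_apply nd ne' ne nd' ade aee' aee ade' o3 o1 o2 (by rw [polar_comm]; exact o5)
        (by rw [polar_comm]; exact o6) o4, hu]
      abel
  have huQ : Q u = 0 := by
    rw [hu, QuadraticMap.map_neg, form_add, form_add, form_add, polar_add_left, polar_add_left,
      polar_add_left, o1, o2, o3, o4, o5, o6, hd2, he2, hd'2, he'2]
    ring
  have hua : polar Q u a = 0 := by
    rw [hu, polar_neg_left, polar_add_left, polar_add_left, polar_add_left, polar_comm Q d,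
      polar_comm Q e, polar_comm Q d', polar_comm Q e', ade, aee, ade', aee', hd2, he2, hd'2,
      he'2]
    ring
  have hW : InW M (c⁻¹ • u) a := InW.of_rel hc ha.norm huQ hua
    (hha ▸ Reach.rel hD hM hc ha (Reach.map_perm hD hM hc ha hhM hhP))
  set U := c⁻¹ • u with hU
  have hUQ : Q U = 0 := by rw [hU, form_smul, huQ, mul_zero]
  have hUfree : ∀ q, q ∉ ex → pr hD q U = 0 := fun q hq => by
    simp only [hex, Finset.mem_insert, Finset.mem_singleton, not_or] at hq
    rw [hU, pr_smul, hu, ← neg_one_smul F (d + e + d' + e'), pr_smul, pr_add, pr_add, pr_add,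
      pr_other hD (Ne.symm hq.1) hdD, pr_other hD (Ne.symm hq.2.1) heD,
      pr_other hD (Ne.symm hq.2.2.1) hd'D, pr_other hD (Ne.symm hq.2.2.2) he'D]
    simp
  have hUi : pr hD i U ≠ 0 := by
    rw [hU, pr_smul, hu, ← neg_one_smul F (d + e + d' + e'), pr_smul, pr_add, pr_add, pr_add,
      pr_self hD hdD, pr_other hD hl' heD, pr_other hD hn'.1 hd'D, pr_other hD hm'.1 he'D,
      add_zero, add_zero, add_zero, smul_smul]
    exact smul_ne_zero (mul_ne_zero (inv_ne_zero hc) (neg_ne_zero.mpr one_ne_zero))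
      fun h0 => nd (by rw [h0, QuadraticMap.map_zero])
  obtain ⟨o', ho'⟩ := exists_out (insert o ex) (by
    have := Finset.card_insert_le o ex
    omega)
  simp only [Finset.mem_insert, not_or] at ho'
  have hspare := cov_free hD hM hk hO hUQ (ex := ex) (by omega) hUfree ho
    (cov_of_mem hD hM hk hO hUQ hW (Ne.symm ho'.1) (hUfree o ho) (hUfree o' ho'.2) hoa)
  -- the two singular vectors
  have covf : ∀ {o p : Fin t}, o ∉ ex → p ∉ ex → o ≠ p → ∀ {eo ep : V}, eo ∈ D o → ep ∈ D p →
      Q ep = -Q eo → ∀ q, q ≠ o → q ≠ p → Cov M D (eo + ep) q := by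
    intro o p ho hp hop eo ep heo hep hQ q hqo hqp
    have hfQ : Q (eo + ep) = 0 := by
      rw [form_add, hQ, hD.orth o p hop eo heo ep hep]; ring
    have hzero : ∀ q, q ∉ ({o, p} : Finset (Fin t)) → pr hD q (eo + ep) = 0 := fun q hq => by
      simp only [Finset.mem_insert, Finset.mem_singleton, not_or] at hq
      rw [pr_add, pr_other hD (Ne.symm hq.1) heo, pr_other hD (Ne.symm hq.2) hep, add_zero]
    have hioe : i ∉ ({o, p} : Finset (Fin t)) := by
      simp only [Finset.mem_insert, Finset.mem_singleton, not_or]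
      exact ⟨fun h => ho (h ▸ by simp [hex]), fun h => hp (h ▸ by simp [hex])⟩
    have hine : n ∉ ({o, p} : Finset (Fin t)) := by
      simp only [Finset.mem_insert, Finset.mem_singleton, not_or]
      exact ⟨fun h => ho (h ▸ by simp [hex]), fun h => hp (h ▸ by simp [hex])⟩
    have hfU : InW M (eo + ep) U :=
      ((hspare o ho eo heo).add hUQ (hspare p hp ep hep)).swap hUQ hfQ
    exact cov_free hD hM hk hO hfQ (ex := {o, p})
      (by have : ({o, p} : Finset (Fin t)).card ≤ 2 := Finset.card_le_two; omega) hzero hioe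
      (cov_of_mem hD hM hk hO hfQ hfU (Ne.symm hn'.1) (hzero i hioe) (hzero n hine) hUi) q
      (by simp [hqo, hqp])
  obtain ⟨p, hp⟩ := exists_out (insert o ex) (by
    have := Finset.card_insert_le o ex
    omega)
  simp only [Finset.mem_insert, not_or] at hp
  obtain ⟨r, hr⟩ := exists_out (insert o (insert p ex)) (by
    have := Finset.card_insert_le o (insert p ex)
    have := Finset.card_insert_le p ex
    omega)
  simp only [Finset.mem_insert, not_or] at hr
  have hop : o ≠ p := Ne.symm hp.1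
  have hor : o ≠ r := Ne.symm hr.1
  have hpr : p ≠ r := Ne.symm hr.2.1
  have hie : i ∈ ex := by simp [hex]
  have hio : i ≠ o := fun h => ho (h ▸ hie)
  have hip : i ≠ p := fun h => hp.2 (h ▸ hie)
  have hir : i ≠ r := fun h => hr.2.2 (h ▸ hie)
  obtain ⟨eo, heo, heoQ⟩ := exists_norm hD o (one_ne_zero (α := F))
  obtain ⟨ep, hep, hepQ⟩ := exists_norm hD p (neg_ne_zero.mpr (one_ne_zero (α := F)))
  have nonperp : ∀ q, ∀ x ∈ D q, Q x ≠ 0 → ∃ x' ∈ D q, Q x' = Q x ∧ polar Q x x' ≠ 0 := by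
    intro q x hx hxQ
    by_cases h2 : (2 : F) = 0
    · obtain ⟨x', hx', hx'Q, hn⟩ := exists_norm_indep (hD.ndOn q) (hd q).ge (hs4 q) hx hxQ
      refine ⟨x', hx', hx'Q, fun h0 => ?_⟩
      obtain ⟨r, hr⟩ := eq_smul_of_perp (hD.ndOn q) (hd q).le hx
        (fun e0 => hxQ (by rw [e0, QuadraticMap.map_zero]))
        (by rw [polar_self_eq, h2, zero_mul]) hx' h0
      exact hn r hr
    · exact ⟨x, hx, rfl, by rw [polar_self_eq]; exact mul_ne_zero h2 hxQ⟩
  obtain ⟨eo', heo', heo'Q, hBo⟩ := nonperp o eo heo (by rw [heoQ]; exact one_ne_zero)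
  obtain ⟨ep', hep', hep'Q, hBp⟩ :=
    nonperp p ep hep (by rw [hepQ]; exact neg_ne_zero.mpr one_ne_zero)
  obtain ⟨er, her, herQ⟩ := exists_norm hD r (neg_ne_zero.mpr (one_ne_zero (α := F)))
  obtain ⟨er', her', her'Q⟩ := exists_norm hD r (one_ne_zero (α := F))
  have hQop : Q ep = -Q eo := by rw [hepQ, heoQ]
  have hQpo : Q eo = -Q ep := by rw [hepQ, heoQ, neg_neg]
  set f := eo + ep with hf
  have hfQ : Q f = 0 := by rw [hf, form_add, hQop, hD.orth o p hop eo heo ep hep]; ring
  have hcf := covf ho hp.2 hop heo hep hQop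
  have hfull : Full M f := by
    intro z hz
    set s' := pr hD p z - (polar Q f (pr hD p z) / polar Q eo eo') • (eo' + er) with hs'
    have h1 : InW M f s' := push hD hM hop hor hpr hio hip hir heo hep heo' her hQop heo'Q
      (by rw [herQ, heoQ]) hBo hcf
      (covf ho hr.2.2 hor heo' her (by rw [herQ, heo'Q, heoQ])) (pr_mem hD p z)
    set w := z - s' with hw
    have hfw : polar Q f w = 0 := by rw [hw, polar_sub_right, hz, h1.1, sub_zero]
    have hwp : pr hD p w = 0 := by
      rw [hw, hs', pr_sub, pr_sub, pr_smul, pr_self hD (pr_mem hD p z), pr_add,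
        pr_other hD hop heo', pr_other hD hpr.symm her]
      simp
    have h2 : InW M f (∑ q, pr hD q w) := InW.sum hfQ fun q _ => by
      by_cases hqp : q = p
      · subst hqp; rw [hwp]; exact InW.zero M f
      by_cases hqo : q = o
      · subst hqo
        have hperp : polar Q eo (pr hD q w) = 0 := by
          have e1 : polar Q f w = polar Q eo (pr hD q w) + polar Q ep (pr hD p w) := by
            rw [hf, polar_add_left, ← polar_pr hD heo, ← polar_pr hD hep]
          rw [hfw, hwp, polar_zero_right, add_zero] at e1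
          exact e1.symm
        have h3 := push hD hM hop.symm hpr hor hip hio hir hep heo hep' her' hQpo hep'Q
          (by rw [her'Q, hepQ, neg_neg]) hBp
          (fun x h1 h2 => add_comm eo ep ▸ hcf x h2 h1)
          (covf hp.2 hr.2.2 hpr hep' her' (by rw [her'Q, hep'Q, hepQ, neg_neg]))
          (pr_mem hD q w)
        rw [add_comm ep eo, ← hf, show polar Q f (pr hD q w) = 0 by
          rw [hf, polar_add_left, hperp, hD.orth p q (Ne.symm hqp) ep hep _ (pr_mem hD q w),
            add_zero], zero_div, zero_smul, sub_zero] at h3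
        exact h3
      exact hcf q hqo hqp _ (pr_mem hD q w)
    rw [sum_pr] at h2
    have := h2.add hfQ h1
    rw [hw, sub_add_cancel] at this
    exact this.2
  obtain ⟨x, hx, hxQ, hox, -⟩ := exists_aniso_skew (hD.ndOn o) (hd o) (hs4 o) heo
    (fun e0 => one_ne_zero (α := F) (by rw [← heoQ, e0, QuadraticMap.map_zero]))
  obtain ⟨y, hy, hyQ⟩ := exists_norm hD i hxQ
  refine done_of_full hD hM hfQ hfull (rf_pair_eq hD hM hx hy hxQ hyQ.symm) ?_
  have hyf : polar Q y f = 0 := by
    rw [hf, polar_add_right, hD.orth i o hio y hy eo heo, hD.orth i p hip y hy ep hep, add_zero]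
  have hxf : polar Q x f = polar Q eo x := by
    rw [hf, polar_add_right, hD.orth o p hop x hx ep hep, add_zero, polar_comm]
  rw [coe_mul_apply, rf_apply_of_polar hyf, rf_apply, hxf, polar_sub_right, polar_smul_right,
    polar_comm Q f x, hxf, polar_self_eq, hfQ, mul_zero, zero_sub, smul_eq_mul]
  exact neg_ne_zero.mpr (mul_ne_zero (mul_ne_zero (inv_ne_zero hxQ) hox) hox)

end Cfsg.Agent.OrthDec99
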