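import Cfsg.Agent.OrthDec99.Big
import Cfsg.Agent.OrthDec99.Plane

/-!
Planes: an element outside the stabiliser gives a congruent non-member vector or a root element at a
singular member vector (helper99).
-/

set_option autoImplicit false
set_option linter.unusedSectionVars false

namespace Cfsg.Agent.OrthDec99

open QuadraticMap Cfsg.Agent.UnitaryOrthogonal Cfsg.Agent.OrthStab
open Cfsg.Agent.Wreath (Nd cut mem_cut finrank_cut Perm)

variable {F : Type*} [Field F] [Finite F] {V : Type*} [AddCommGroup V] [Module F V]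
variable [FiniteDimensional F V] {Q : QuadraticForm F V}

/-- A root element at a singular member vector reaching out of its member. -/
def HasRoot (M : Subgroup (orth Q)) {t : ℕ} (D : Fin t → Submodule F V) : Prop :=
  ∃ (i : Fin t) (f ζ : V), f ∈ D i ∧ f ≠ 0 ∧ Q f = 0 ∧ InW M f ζ ∧ ζ ∉ D i

/-- The zeros of a non-zero polynomial of degree at most two. -/
theorem card_zeros_le [Fintype F] [DecidableEq F] {a b c : F} (h : a ≠ 0 ∨ b ≠ 0 ∨ c ≠ 0) :
    (Finset.univ.filter fun s : F => a * s ^ 2 + b * s + c = 0).card ≤ 2 := by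
  by_cases ha : a = 0
  · refine le_trans (Finset.card_le_one.mpr ?_) one_le_two
    intro x hx y hy
    simp only [Finset.mem_filter, Finset.mem_univ, true_and, ha, zero_mul, zero_add] at hx hy
    by_cases hb : b = 0
    · rw [hb, zero_mul, zero_add] at hx
      rcases h with h | h | h
      · exact absurd ha h
      · exact absurd hb h
      · exact absurd hx h
    · exact mul_left_cancel₀ hb (by linear_combination hx - hy)
  · refine (Finset.card_le_card ?_).trans (card_quadRoots_le a b c)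
    intro x hx
    simp only [Finset.mem_filter, Finset.mem_univ, true_and] at hx
    exact mem_quadRoots ha hx

theorem torus_apply {e f : V} (he : Q e = 0) (hf : Q f = 0) (hef : polar Q e f = 1) {s : F}
    (hs : s ≠ 0) : (rf Q (e + f) * rf Q (e + s • f)).1 e = s • e := by
  have h1 : Q (e + f) = 1 := by rw [form_add, he, hf, hef]; simp
  have hsv : Q (e + s • f) = s := by
    rw [form_add, form_smul, he, hf, polar_smul_right, hef]; simp
  have e1 : (rf Q (e + s • f)).1 e = -(s • f) := by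
    rw [rf_apply, hsv, polar_add_left, polar_smul_left, polar_self_eq, he, polar_comm Q f e, hef,
      smul_eq_mul, mul_zero, zero_add, mul_one, inv_mul_cancel₀ hs, one_smul]
    abel
  rw [coe_mul_apply, e1, map_neg, map_smul, rf_apply, h1, polar_add_left, polar_self_eq, hf, hef]
  simp

theorem torus_apply' {e f : V} (he : Q e = 0) (hf : Q f = 0) (hef : polar Q e f = 1) {s : F}
    (hs : s ≠ 0) : (rf Q (e + f) * rf Q (e + s • f)).1 f = s⁻¹ • f := by
  have hfe : polar Q f e = 1 := by rw [polar_comm]; exact hef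
  have h := torus_apply hf he hfe (inv_ne_zero hs)
  rw [show f + s⁻¹ • e = s⁻¹ • (e + s • f) by rw [smul_add, inv_smul_smul₀ hs]; abel,
    rf_smul (inv_ne_zero hs), add_comm f e] at h
  exact h

variable {t k : ℕ} {D : Fin t → Submodule F V} (hD : Sys Q k D)
include hD

theorem pr_comm_of_fix {y : orth Q} (hy : ∀ m, ∀ z ∈ D m, y.1 z ∈ D m) (m : Fin t) (z : V) :
    pr hD m (y.1 z) = y.1 (pr hD m z) := by
  conv_lhs => rw [← sum_pr hD z, map_sum]
  rw [show pr hD m (∑ i, y.1 (pr hD i z)) = ∑ i, pr hD m (y.1 (pr hD i z)) from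
    map_sum (prL hD m) _ _, Finset.sum_eq_single m (fun i _ hi =>
      pr_other hD hi (hy i _ (pr_mem hD i z))) (by simp), pr_self hD (hy m _ (pr_mem hD m z))]

/-- A torus element of a plane permutes the members only if the plane is one of them. -/
theorem member_of_perm_torus (hk : k = 2) {y : orth Q} {E G : V} (hEQ : Q E = 0) (hGQ : Q G = 0)
    (hEG : polar Q E G = 1) {s : F} (hs0 : s ≠ 0) (hs : s * s ≠ 1) (hyE : y.1 E = s • E)
    (hyG : y.1 G = s⁻¹ • G) (himg : ∀ z, y.1 z - z ∈ Submodule.span F ({E, G} : Set V))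
    (hP : Perm D y) : ∃ m, E ∈ D m ∧ G ∈ D m := by
  classical
  set P := Submodule.span F ({E, G} : Set V) with hPdef
  have hs1 : s ≠ 1 := fun e => hs (by rw [e, one_mul])
  have hE0 : E ≠ 0 := fun e => by rw [e, polar_zero_left] at hEG; exact zero_ne_one hEG
  have hG0 : G ≠ 0 := fun e => by rw [e, polar_zero_right] at hEG; exact zero_ne_one hEG
  have hEE : polar Q E E = 0 := by rw [polar_self_eq, hEQ, mul_zero]
  have hGG : polar Q G G = 0 := by rw [polar_self_eq, hGQ, mul_zero]
  by_cases hmove : ∀ m, ∀ z ∈ D m, y.1 z ∈ D m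
  swap
  · exfalso
    simp only [not_forall] at hmove
    obtain ⟨a, z₀, hz₀, hz₀'⟩ := hmove
    obtain ⟨b, hb⟩ := hP a
    have hab : a ≠ b := fun e => hz₀' (e ▸ hb z₀ hz₀)
    obtain ⟨c, hc⟩ := hP b
    let L : D a →ₗ[F] P :=
      ((y.1.toLinearMap - LinearMap.id).comp (D a).subtype).codRestrict P fun z => himg z
    have hinj : Function.Injective L := by
      rw [injective_iff_map_eq_zero]
      intro z hz
      have he : y.1 (z : V) - z = 0 := congrArg Subtype.val hz
      have h1 : (z : V) ∈ D b := by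
        have := hb z z.2
        rwa [sub_eq_zero.mp he] at this
      refine Subtype.ext (hD.ndOn a z z.2 fun w hw => ?_)
      rw [polar_comm]; exact hD.orth a b hab w hw z h1
    have hP2 : Module.finrank F P ≤ 2 := by
      rw [hPdef, show ({E, G} : Set V) = (({E, G} : Finset V) : Set V) by simp]
      exact (finrank_span_finset_le_card _).trans Finset.card_le_two
    have hsurj : Function.Surjective L := by
      have h2 := LinearMap.finrank_le_finrank_of_injective hinj
      rw [hD.dim] at h2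
      exact (LinearMap.injective_iff_surjective_of_finrank_eq_finrank
        (by rw [hD.dim]; omega)).mp hinj
    have hsq : ∀ z ∈ D a, z ≠ 0 → y.1 (y.1 z) = z := by
      intro z hz hz0
      obtain ⟨⟨z', hz'⟩, he⟩ := hsurj ⟨_, himg (y.1 z)⟩
      have he' : y.1 z' - z' = y.1 (y.1 z) - y.1 z := congrArg Subtype.val he
      have hyz := hb z hz
      have hyyz := hc _ hyz
      have hcb : c ≠ b := fun e => perm_ne hD hab hb (e ▸ hc)
      have hca : c = a := by
        by_contra hca
        have h := congrArg (pr hD c) he'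
        rw [pr_sub, pr_sub, pr_other hD (Ne.symm hcb) (hb z' hz'), pr_other hD (Ne.symm hca) hz',
          pr_self hD hyyz, pr_other hD (Ne.symm hcb) hyz, sub_zero, sub_zero] at h
        exact hz0 (y.1.map_eq_zero_iff.mp (y.1.map_eq_zero_iff.mp h.symm))
      subst hca
      have h1 := congrArg (pr hD c) he'
      rw [pr_sub, pr_sub, pr_other hD hab.symm (hb z' hz'), pr_self hD hz', pr_self hD hyyz,
        pr_other hD hab.symm hyz, zero_sub, sub_zero] at h1
      have h3 := congrArg (pr hD b) he'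
      rw [pr_sub, pr_sub, pr_self hD (hb z' hz'), pr_other hD hab hz', pr_other hD hab hyyz,
        pr_self hD hyz, zero_sub, sub_zero, ← map_neg] at h3
      have hz'z : z' = -z := y.1.injective h3
      rw [hz'z, neg_neg] at h1
      exact h1.symm
    obtain ⟨⟨z, hz⟩, he⟩ := hsurj ⟨E, Submodule.subset_span (by simp)⟩
    have he' : y.1 z - z = E := congrArg Subtype.val he
    have hz0 : z ≠ 0 := fun e => hE0 (by rw [← he', e, map_zero, sub_zero])
    have h : y.1 E = -E := by rw [← he', map_sub, hsq z hz hz0, neg_sub]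
    rw [hyE] at h
    have h' : (s + 1) • E = 0 := by rw [add_smul, one_smul, h, neg_add_cancel]
    have hs' : s = -1 := eq_neg_of_add_eq_zero_left ((smul_eq_zero.mp h').resolve_right hE0)
    exact hs (by rw [hs']; ring)
  -- eigenvectors lie on the two lines
  have eig : ∀ (z : V) (μ : F), μ ≠ 1 → y.1 z = μ • z → ∃ α β : F, z = α • E + β • G ∧
      α * s = μ * α ∧ β * s⁻¹ = μ * β := by
    intro z μ hμ hz
    have hzP : z ∈ P := (P.smul_mem_iff (sub_ne_zero.mpr hμ)).mp (by
      have := himg z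
      rwa [hz, show μ • z - z = (μ - 1) • z by rw [sub_smul, one_smul]] at this)
    obtain ⟨α, β, rfl⟩ := Submodule.mem_span_pair.mp hzP
    rw [map_add, map_smul, map_smul, hyE, hyG] at hz
    have e1 := congrArg (polar Q G) hz
    have e2 := congrArg (polar Q E) hz
    simp only [polar_add_right, polar_smul_right, smul_add, polar_comm Q G E, hEE, hGG, hEG,
      smul_eq_mul, mul_one, mul_zero, add_zero, zero_add] at e1 e2
    exact ⟨α, β, rfl, e1, e2⟩
  have line : ∀ (X : V) (μ : F), X ≠ 0 → (∀ m, ∃ r : F, pr hD m X = r • X) →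
      ∃ m, X ∈ D m := fun X μ hX0 h => by
    obtain ⟨m, hm⟩ : ∃ m, pr hD m X ≠ 0 := by
      by_contra hc
      simp only [not_exists, not_not] at hc
      exact hX0 (by rw [← sum_pr hD X]; exact Finset.sum_eq_zero fun i _ => hc i)
    obtain ⟨r, hr⟩ := h m
    have hr0 : r ≠ 0 := fun e => hm (by rw [hr, e, zero_smul])
    exact ⟨m, ((D m).smul_mem_iff hr0).mp (hr ▸ pr_mem hD m X)⟩
  obtain ⟨m, hm⟩ := line E s hE0 fun m => by
    obtain ⟨α, β, he, -, hβ⟩ := eig (pr hD m E) s hs1
      (by rw [← pr_comm_of_fix hD hmove, hyE, pr_smul])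
    have : β = 0 := by
      by_contra hne
      have h' : s⁻¹ = s := mul_left_cancel₀ hne (by linear_combination hβ)
      refine hs ?_
      calc s * s = s⁻¹ * s := by rw [h']
        _ = 1 := inv_mul_cancel₀ hs0
    exact ⟨α, by rw [he, this, zero_smul, add_zero]⟩
  obtain ⟨m', hm'⟩ := line G s⁻¹ hG0 fun m => by
    obtain ⟨α, β, he, hα, -⟩ := eig (pr hD m G) s⁻¹ (by rwa [Ne, inv_eq_one])
      (by rw [← pr_comm_of_fix hD hmove, hyG, pr_smul])
    have : α = 0 := by
      by_contra hne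
      have h' : s = s⁻¹ := mul_left_cancel₀ hne (by linear_combination hα)
      refine hs ?_
      calc s * s = s⁻¹ * s := by rw [← h']
        _ = 1 := inv_mul_cancel₀ hs0
    exact ⟨β, by rw [he, this, zero_smul, zero_add]⟩
  refine ⟨m, hm, ?_⟩
  by_contra hne
  have hmm : m ≠ m' := fun e => hne (e ▸ hm')
  rw [hD.orth m m' hmm E hm G hm'] at hEG
  exact zero_ne_one hEG

variable {M : Subgroup (orth Q)} (hM : ∀ h ∈ eichGroup Q, Perm D h → h ∈ M)
include hM

/-- A member vector orthogonal to the image of a member. -/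
theorem root_of_perp (hO : Ok Q k D) (hk : k = 2) {g : orth Q} (hg : g ∈ M) (hgP : ¬ Perm D g)
    {i l : Fin t} {f : V} (hf : f ∈ D l) (hf0 : f ≠ 0)
    (hperp : ∀ z ∈ D i, polar Q f (g.1 z) = 0) {e₀ f₀ : V} (he₀ : e₀ ∈ D i) (hf₀ : f₀ ∈ D i)
    (he₀Q : Q e₀ = 0) (hf₀Q : Q f₀ = 0) (he₀f₀ : polar Q e₀ f₀ = 1) {r : F} (hr0 : r ≠ 0)
    (hr : r * r * (r * r) ≠ 1) : HasNonmember M D ∨ HasRoot M D := by
  set s := r * r with hsdef
  have hs0 : s ≠ 0 := mul_ne_zero hr0 hr0
  have hs1 : s ≠ 1 := fun e => hr (by rw [e, one_mul])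
  have hQ1 : ∀ {a b : V}, Q a = 0 → Q b = 0 → polar Q a b = 1 → Q (a + b) = 1 :=
    fun {a b} ha hb hab => by rw [form_add, ha, hb, hab]; simp
  have hQs : ∀ {a b : V}, Q a = 0 → Q b = 0 → polar Q a b = 1 → Q (a + s • b) = s :=
    fun {a b} ha hb hab => by
      rw [form_add, form_smul, ha, hb, polar_smul_right, hab]; simp
  have torusM : ∀ {m : Fin t} {a b : V}, a ∈ D m → b ∈ D m → Q a = 0 → Q b = 0 →
      polar Q a b = 1 → rf Q (a + b) * rf Q (a + s • b) ∈ M := fun {m a b} ha hb haQ hbQ hab =>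
    rf_pair hD hM (add_mem ha hb) (add_mem ha ((D m).smul_mem s hb))
      (by rw [hQ1 haQ hbQ hab]; exact one_ne_zero) (by rw [hQs haQ hbQ hab]; exact hs0)
      (by rw [hQ1 haQ hbQ hab, hQs haQ hbQ hab]; exact ⟨r⁻¹, by rw [hsdef]; field_simp⟩)
  set y := rf Q (g.1 (e₀ + f₀)) * rf Q (g.1 (e₀ + s • f₀)) with hy
  have hyconj : y = g * (rf Q (e₀ + f₀) * rf Q (e₀ + s • f₀)) * g⁻¹ := by
    rw [hy, ← conj_rf, ← conj_rf]; simp [mul_assoc]
  have hyM : y ∈ M := by
    rw [hyconj]; exact mul_mem (mul_mem hg (torusM he₀ hf₀ he₀Q hf₀Q he₀f₀)) (inv_mem hg)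
  by_cases hyP : Perm D y
  · obtain ⟨m, hmE, hmG⟩ := member_of_perm_torus hD hk (y := y) (E := g.1 e₀) (G := g.1 f₀)
      (by rw [map_form, he₀Q]) (by rw [map_form, hf₀Q]) (by rw [map_polar, he₀f₀]) hs0 hr
      (by rw [hyconj, coe_mul_apply, coe_mul_apply, coe_inv_apply_apply,
        torus_apply he₀Q hf₀Q he₀f₀ hs0, map_smul])
      (by rw [hyconj, coe_mul_apply, coe_mul_apply, coe_inv_apply_apply,
        torus_apply' he₀Q hf₀Q he₀f₀ hs0, map_smul]) (fun z => by
        set P := Submodule.span F ({g.1 e₀, g.1 f₀} : Set V)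
        have hE : g.1 e₀ ∈ P := Submodule.subset_span (by simp)
        have hG : g.1 f₀ ∈ P := Submodule.subset_span (by simp)
        have h1 : g.1 (e₀ + f₀) ∈ P := by rw [map_add]; exact add_mem hE hG
        have h2 : g.1 (e₀ + s • f₀) ∈ P := by
          rw [map_add, map_smul]; exact add_mem hE (P.smul_mem s hG)
        rw [hy, coe_mul_apply, rf_apply, rf_apply (g.1 (e₀ + s • f₀))]
        generalize (Q (g.1 (e₀ + s • f₀)))⁻¹ * polar Q (g.1 (e₀ + s • f₀)) z = A
        generalize (Q (g.1 (e₀ + f₀)))⁻¹ *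
          polar Q (g.1 (e₀ + f₀)) (z - A • g.1 (e₀ + s • f₀)) = B
        rw [show z - A • g.1 (e₀ + s • f₀) - B • g.1 (e₀ + f₀) - z =
          -(A • g.1 (e₀ + s • f₀) + B • g.1 (e₀ + f₀)) by abel]
        exact neg_mem (add_mem (P.smul_mem A h2) (P.smul_mem B h1))) hyP
    left
    refine hasNonmember_of_move hD hM hO hg hgP (add_mem he₀ hf₀)
      (by rw [hQ1 he₀Q hf₀Q he₀f₀]; exact one_ne_zero) (l := m) ?_
    rw [map_add]; exact add_mem hmE hmG
  have hyf : y.1 f = f := by
    rw [hy, coe_mul_apply, rf_apply_of_polar (a := g.1 (e₀ + s • f₀))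
      (by rw [polar_comm]; exact hperp _ (add_mem he₀ ((D i).smul_mem s hf₀))),
      rf_apply_of_polar (by rw [polar_comm]; exact hperp _ (add_mem he₀ hf₀))]
  by_cases hfQ : Q f = 0
  swap
  · exact Or.inl (hasNonmember_of_move hD hM hO hyM hyP hf hfQ (hyf.symm ▸ hf))
  obtain ⟨f', hf', hf'Q, hff'⟩ := exists_partner (hD.ndOn l) hf hfQ hf0
  by_cases hyf' : y.1 f' ∈ D l
  · exact Or.inl (hasNonmember_of_move hD hM hO hyM hyP (add_mem hf hf')
      (by rw [hQ1 hfQ hf'Q hff']; exact one_ne_zero)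
      (by rw [map_add, hyf]; exact add_mem hf hyf'))
  right
  set α := polar Q f' (y.1 f') with hα
  set ζ := y.1 f' - f' - α • f with hζ
  have hf'f : polar Q f' f = 1 := by rw [polar_comm]; exact hff'
  have hfy : polar Q f (y.1 f') = 1 := by
    conv_lhs => arg 2; rw [← hyf]
    rw [map_polar, hff']
  have hfζ : polar Q f ζ = 0 := by
    rw [hζ, polar_sub_right, polar_sub_right, polar_smul_right, hfy, hff', polar_self_eq, hfQ]
    simp
  have hf'ζ : polar Q f' ζ = 0 := by
    rw [hζ, polar_sub_right, polar_sub_right, polar_smul_right, ← hα, hf'f, polar_self_eq, hf'Q]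
    simp
  have hζQ : Q ζ = -α := by
    have e : y.1 f' = (f' + α • f) + ζ := by rw [hζ]; abel
    have h := congrArg Q e
    rw [map_form, hf'Q, form_add, form_add, form_smul, hfQ, hf'Q, polar_smul_right, hf'f,
      polar_add_left, polar_smul_left, hfζ, hf'ζ] at h
    simp at h
    linear_combination -h
  set E := eich Q f ζ with hE
  have hEf : E.1 f = f := by
    rw [hE, eich_apply hfQ hfζ, polar_self_eq, hfQ, polar_comm Q ζ f, hfζ]; simp
  have hEf' : E.1 f' = y.1 f' := by
    rw [hE, eich_apply hfQ hfζ, hff', polar_comm Q ζ f', hf'ζ, hζQ, hζ]; module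
  set h := rf Q (f + f') * rf Q (f + s • f') with hh
  have hhM : h ∈ M := torusM hf hf' hfQ hf'Q hff'
  have hhζ : h.1 ζ = ζ := by
    rw [hh, coe_mul_apply, rf_apply_of_polar (a := f + s • f')
      (by rw [polar_add_left, polar_smul_left, hfζ, hf'ζ]; simp),
      rf_apply_of_polar (by rw [polar_add_left, hfζ, hf'ζ]; simp)]
  have hhf : h.1 f = s • f := torus_apply hfQ hf'Q hff' hs0
  have hconj : y * h * y⁻¹ = E * h * E⁻¹ := by
    have key : ∀ u : orth Q, u * h * u⁻¹ = rf Q (u.1 (f + f')) * rf Q (u.1 (f + s • f')) :=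
      fun u => by rw [← conj_rf, ← conj_rf, hh]; simp [mul_assoc]
    rw [key, key, map_add, map_add, map_add, map_add, map_smul, map_smul, hEf, hEf', hyf]
  have hval : E * h * E⁻¹ * h⁻¹ = eich Q f ((1 - s) • ζ) := by
    have e2 : h * eich Q f (-ζ) * h⁻¹ = eich Q f (-(s • ζ)) := by
      rw [conj_eich, hhf, map_neg, hhζ, eich_smul_left hfQ (by rw [polar_neg_right, hfζ, neg_zero]),
        smul_neg]
    rw [mul_assoc E h, mul_assoc E, hE, eich_inv hfQ hfζ, e2,
      eich_mul hfQ hfζ (by rw [polar_neg_right, polar_smul_right, hfζ, smul_zero, neg_zero]),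
      sub_smul, one_smul, sub_eq_add_neg]
  refine ⟨l, f, (1 - s) • ζ, hf, hf0, hfQ, ⟨by rw [polar_smul_right, hfζ, smul_zero], ?_⟩,
    fun hm => hyf' ?_⟩
  · rw [← hval, ← hconj]
    exact mul_mem (mul_mem (mul_mem hyM hhM) (inv_mem hyM)) (inv_mem hhM)
  · have hζl := ((D l).smul_mem_iff (sub_ne_zero.mpr (Ne.symm hs1))).mp hm
    have e : y.1 f' = (f' + α • f) + ζ := by rw [hζ]; abel
    rw [e]
    exact add_mem (add_mem hf' ((D l).smul_mem α hf)) hζl

/-- The first step for planes. -/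
theorem hasNonmember_or_root (hO : Ok Q k D) (hk : k = 2) {g : orth Q} (hg : g ∈ M)
    (hgP : ¬ Perm D g) : HasNonmember M D ∨ HasRoot M D := by
  classical
  have ht : 4 ≤ t := by have := hD.vol; subst hk; omega
  have hcut : ∀ (m : Fin t) (v : V), ∃ s ∈ cut Q (D m) v, s ≠ 0 := fun m v => by
    refine Submodule.ne_bot_iff _ |>.mp fun e => ?_
    have := finrank_cut (Q := Q) (D m) v
    rw [e, finrank_bot, hD.dim] at this
    omega
  have pairs : ∀ {w : V} {a b c : Fin t}, a ≠ b → a ≠ c → b ≠ c →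
      (∀ m, m = a ∨ m = b ∨ m = c → ∃ s ∈ cut Q (D m) w, Q s ≠ 0) →
      ∃ i j : Fin t, i ≠ j ∧ ∃ p ∈ cut Q (D i) w, ∃ q ∈ cut Q (D j) w, Q p ≠ 0 ∧ Q q = Q p := by
    intro w a b c hab hac hbc h
    obtain ⟨p, hp, hpQ⟩ := h a (Or.inl rfl)
    obtain ⟨q, hq, hqQ⟩ := h b (Or.inr (Or.inl rfl))
    obtain ⟨u, hu, huQ⟩ := h c (Or.inr (Or.inr rfl))
    have scale : ∀ {j : Fin t} {p' q' : V}, q' ∈ cut Q (D j) w → Q q' ≠ 0 →
        IsSquare (Q p' / Q q') → ∃ z ∈ cut Q (D j) w, Q z = Q p' := by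
      rintro j p' q' hq' hne ⟨r, hr⟩
      exact ⟨r • q', Submodule.smul_mem _ r hq',
        by rw [form_smul, ← hr, div_mul_cancel₀ _ hne]⟩
    rcases exists_square_ratio (Q p) (Q q) (Q u) hqQ huQ with h' | h' | h'
    · obtain ⟨z, hz, hzQ⟩ := scale hq hqQ h'
      exact ⟨a, b, hab, p, hp, z, hz, hpQ, hzQ⟩
    · obtain ⟨z, hz, hzQ⟩ := scale hu huQ h'
      exact ⟨a, c, hac, p, hp, z, hz, hpQ, hzQ⟩
    · obtain ⟨z, hz, hzQ⟩ := scale hu huQ h'
      exact ⟨b, c, hbc, q, hq, z, hz, hqQ, hzQ⟩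
  by_cases hani : ∀ i, ∀ s ∈ D i, s ≠ 0 → Q s ≠ 0
  · left
    have hval : ∀ (m : Fin t) (v : V), ∃ s ∈ cut Q (D m) v, Q s ≠ 0 := fun m v => by
      obtain ⟨s, hs, hs0⟩ := hcut m v
      exact ⟨s, hs, hani m s hs.1 hs0⟩
    refine hasNonmember_of_cuts hD hM hO (by omega) (fun w => ?_) hval hg hgP
    exact pairs (w := w) (a := ⟨0, by omega⟩) (b := ⟨1, by omega⟩) (c := ⟨2, by omega⟩)
      (fun h => by simpa using congrArg Fin.val h) (fun h => by simpa using congrArg Fin.val h)
      (fun h => by simpa using congrArg Fin.val h) fun m _ => hval m w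
  simp only [not_forall, not_not] at hani
  obtain ⟨i₀, s₀, hs₀, hs₀0, hs₀Q⟩ := hani
  have h7 := hO.plane hk i₀ s₀ hs₀ hs₀0 hs₀Q
  have hyp : ∀ m, ∃ a ∈ D m, ∃ b ∈ D m, Q a = 0 ∧ Q b = 0 ∧ polar Q a b = 1 := fun m => by
    obtain ⟨e, he⟩ := hD.iso i₀ m
    obtain ⟨b, hb, hbQ, hab⟩ := exists_partner (hD.ndOn m) (e ⟨s₀, hs₀⟩).2
      (by rw [he]; exact hs₀Q) (fun h0 => hs₀0 (congrArg Subtype.val
        (e.map_eq_zero_iff.mp (Subtype.ext h0))))
    exact ⟨_, (e ⟨s₀, hs₀⟩).2, b, hb, by rw [he]; exact hs₀Q, hbQ, hab⟩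
  haveI := Fintype.ofFinite F
  by_cases hI : ∃ i l : Fin t, ∃ f ∈ D l, f ≠ 0 ∧ ∀ z ∈ D i, polar Q f (g.1 z) = 0
  · obtain ⟨i, l, f, hf, hf0, hperp⟩ := hI
    obtain ⟨e₀, he₀, f₀, hf₀, he₀Q, hf₀Q, hef⟩ := hyp i
    obtain ⟨r, hr⟩ := exists_avoid
      ((({0} : Finset F) ∪ quadRoots 1 0 (-1)) ∪ quadRoots 1 0 1) (by
        have := Finset.card_union_le (({0} : Finset F) ∪ quadRoots 1 0 (-1)) (quadRoots 1 0 1)
        have := Finset.card_union_le ({0} : Finset F) (quadRoots 1 0 (-1))
        have := card_quadRoots_le (1 : F) 0 (-1)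
        have := card_quadRoots_le (1 : F) 0 1
        rw [Finset.card_singleton] at *
        omega)
    simp only [Finset.mem_union, Finset.mem_singleton, not_or] at hr
    refine root_of_perp hD hM hO hk hg hgP hf hf0 hperp he₀ hf₀ he₀Q hf₀Q hef hr.1.1 fun e => ?_
    rcases mul_self_eq_one_iff.mp e with e | e
    · exact hr.1.2 (mem_quadRoots one_ne_zero (by linear_combination e))
    · exact hr.2 (mem_quadRoots one_ne_zero (by linear_combination e))
  simp only [not_exists, not_and, not_forall] at hI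
  -- every block of `g` is invertible
  have block : ∀ (i l : Fin t) (p : V), p ∈ D i → p ≠ 0 → pr hD l (g.1 p) ≠ 0 := by
    intro i l p hp hp0 h0
    let T : D l →ₗ[F] Module.Dual F (D i) :=
      { toFun := fun f => (polarBilin Q (f : V)).comp (g.1.toLinearMap.comp (D i).subtype)
        map_add' := fun x y => by ext; simp
        map_smul' := fun c x => by ext; simp }
    have hinj : Function.Injective T := by
      rw [injective_iff_map_eq_zero]
      intro f hf
      by_contra hne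
      obtain ⟨z, hz, hzne⟩ := hI i l f f.2 (fun e => hne (Subtype.ext e))
      exact hzne (LinearMap.congr_fun hf ⟨z, hz⟩)
    obtain ⟨y, hy, hpy⟩ := exists_one (hD.ndOn i) hp hp0
    obtain ⟨f, hf⟩ := (LinearMap.injective_iff_surjective_of_finrank_eq_finrank
      (by rw [Subspace.dual_finrank_eq, hD.dim, hD.dim])).mp hinj
      ((polarBilin Q y).comp (D i).subtype)
    have h : polar Q (f : V) (g.1 p) = polar Q y p := LinearMap.congr_fun hf ⟨p, hp⟩
    rw [polar_comm Q y p, hpy, polar_comm Q (f : V), ← pr_polar hD f.2, h0, polar_zero_left] at h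
    exact zero_ne_one h
  have coblock : ∀ (i l : Fin t) (b : V), b ∈ D l → b ≠ 0 → pr hD i (g⁻¹.1 b) ≠ 0 := by
    intro i l b hb hb0 h0
    obtain ⟨z, hz, hzne⟩ := hI i l b hb hb0
    refine hzne ?_
    rw [← coe_apply_inv_apply g b, map_polar, ← pr_polar hD hz, h0, polar_zero_left]
  let i₁ : Fin t := ⟨0, by omega⟩
  obtain ⟨e, he, f, hf, heQ, hfQ, hef⟩ := hyp i₁
  let φ : Fin 4 → Fin t := fun j => ⟨j.val, by omega⟩
  let w : F → V := fun s => g⁻¹.1 (e + s • f)
  let bad : Fin 4 → Finset F := fun j =>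
    Finset.univ.filter fun s => Q (pr hD (φ j) (g⁻¹.1 (e + s • f))) = 0
  have hbad : ∀ j, (bad j).card ≤ 2 := fun j => by
    set E := pr hD (φ j) (g⁻¹.1 e) with hE
    set G := pr hD (φ j) (g⁻¹.1 f) with hG
    have hpoly : ∀ s : F, Q (pr hD (φ j) (g⁻¹.1 (e + s • f))) =
        Q G * s ^ 2 + polar Q E G * s + Q E := fun s => by
      rw [map_add, map_smul, pr_add, pr_smul, ← hE, ← hG, form_add, form_smul, polar_smul_right,
        smul_eq_mul]
      ring
    simp only [bad, hpoly]
    refine card_zeros_le ?_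
    by_contra hc
    simp only [not_or, not_not] at hc
    obtain ⟨x, hx, hxQ⟩ := exists_aniso (hD.ndOn (φ j)) (by rw [hD.dim]; omega)
    have hE0 : E ≠ 0 := coblock _ i₁ e he (fun e0 => by
      rw [e0, polar_zero_left] at hef; exact zero_ne_one hef)
    have hGn : ∀ r : F, G ≠ r • E := fun r h0 => by
      refine coblock (φ j) i₁ (f - r • e) (sub_mem hf ((D i₁).smul_mem r he)) (fun e0 => ?_) ?_
      · rw [sub_eq_zero] at e0
        rw [e0, polar_smul_right, polar_self_eq, heQ] at hef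
        simp at hef
      · rw [map_sub, map_smul, pr_sub, pr_smul, ← hE, ← hG, h0, sub_self]
    have hmem := le_of_indep (by rw [hD.dim, hk]) (pr_mem hD (φ j) _) hE0 (pr_mem hD (φ j) _) hGn
      (T := Submodule.span F {E, G}) (Submodule.subset_span (Set.mem_insert _ _))
      (Submodule.subset_span (Set.mem_insert_of_mem _ rfl)) hx
    obtain ⟨α, β, rfl⟩ := Submodule.mem_span_pair.mp hmem
    refine hxQ ?_
    rw [form_add, form_smul, form_smul, polar_smul_left, polar_smul_right, hc.1, hc.2.1, hc.2.2]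
    simp
  obtain ⟨s, hs0, hgood⟩ : ∃ s : F, s ≠ 0 ∧
      2 < (Finset.univ.filter fun j => Q (pr hD (φ j) (g⁻¹.1 (e + s • f))) ≠ 0).card := by
    by_contra hc
    simp only [not_exists, not_and, not_lt] at hc
    have h2 : ∀ s : F, s ≠ 0 → 2 ≤ (Finset.univ.filter fun j : Fin 4 => s ∈ bad j).card := fun s hs => by
      have := hc s hs
      have ecard := Finset.card_filter_add_card_filter_not (s := (Finset.univ : Finset (Fin 4)))
        (fun j => s ∈ bad j)
      have e' : (Finset.univ.filter fun j : Fin 4 => ¬ s ∈ bad j) =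
          Finset.univ.filter fun j => Q (pr hD (φ j) (g⁻¹.1 (e + s • f))) ≠ 0 := by
        refine Finset.filter_congr fun j _ => ?_
        simp [bad]
      rw [e', Finset.card_univ, Fintype.card_fin] at ecard
      omega
    have h3 : (Finset.univ.erase (0 : F)).card * 2 ≤
        ∑ s ∈ Finset.univ.erase (0 : F), (Finset.univ.filter fun j : Fin 4 => s ∈ bad j).card := by
      rw [← smul_eq_mul, ← Finset.sum_const]
      exact Finset.sum_le_sum fun s hs => h2 s (Finset.ne_of_mem_erase hs)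
    have h5 : ∑ s ∈ Finset.univ.erase (0 : F),
        (Finset.univ.filter fun j : Fin 4 => s ∈ bad j).card ≤ ∑ j : Fin 4, (bad j).card := by
      rw [show (∑ j : Fin 4, (bad j).card) = ∑ j : Fin 4, ∑ s : F, if s ∈ bad j then 1 else 0 from
        Finset.sum_congr rfl fun j _ => by rw [← Finset.card_filter, Finset.filter_univ_mem],
        Finset.sum_comm]
      refine le_trans (le_of_eq (Finset.sum_congr rfl fun s _ => Finset.card_filter _ _)) ?_
      exact Finset.sum_le_sum_of_subset (Finset.erase_subset _ _)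
    have h6 : ∑ j : Fin 4, (bad j).card ≤ 4 * 2 := by
      refine (Finset.sum_le_sum fun j _ => hbad j).trans ?_
      rw [Finset.sum_const, Finset.card_univ, Fintype.card_fin, smul_eq_mul]
    rw [Finset.card_erase_of_mem (Finset.mem_univ _), Finset.card_univ,
      ← Nat.card_eq_fintype_card] at h3
    omega
  obtain ⟨a, b, c, ha, hb, hc, hab, hac, hbc⟩ := Finset.two_lt_card_iff.mp hgood
  simp only [Finset.mem_filter, Finset.mem_univ, true_and] at ha hb hc
  have hφ : Function.Injective φ := fun x y h => Fin.ext (congrArg (fun z : Fin t => z.val) h)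
  set bs := e + s • f with hbs
  have hbsQ : Q bs = s := by rw [hbs, form_add, form_smul, heQ, hfQ, polar_smul_right, hef]; simp
  set w₀ := g⁻¹.1 bs with hw₀
  obtain ⟨i, j, hij, p, hp, q, hq, hp0, hqQ⟩ := pairs (w := w₀) (hφ.ne hab) (hφ.ne hac)
    (hφ.ne hbc) fun m hm => by
      have hmQ : Q (pr hD m w₀) ≠ 0 := by rcases hm with rfl | rfl | rfl <;> assumption
      obtain ⟨x, hx, hx0⟩ := hcut m w₀
      refine ⟨x, hx, fun hxQ => hmQ ?_⟩
      obtain ⟨r, hr⟩ := eq_smul_of_perp (hD.ndOn m) (by rw [hD.dim, hk]) hx.1 hx0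
        (by rw [polar_self_eq, hxQ, mul_zero]) (pr_mem hD m w₀)
        (by rw [polar_comm, pr_polar hD hx.1]; exact hx.2)
      rw [hr, form_smul, hxQ, mul_zero]
  set x := g * (rf Q p * rf Q q) * g⁻¹ with hx
  have hxM : x ∈ M :=
    mul_mem (mul_mem hg (rf_pair_eq hD hM hp.1 hq.1 hp0 hqQ.symm)) (inv_mem hg)
  have hxb : x.1 bs = bs := by
    rw [hx, coe_mul_apply, coe_mul_apply, ← hw₀, coe_mul_apply,
      rf_apply_of_polar (a := q) (by rw [polar_comm]; exact hq.2),
      rf_apply_of_polar (by rw [polar_comm]; exact hp.2), hw₀, coe_apply_inv_apply]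
  by_cases hxP : Perm D x
  swap
  · exact Or.inl (hasNonmember_of_move hD hM hO hxM hxP (add_mem he ((D i₁).smul_mem s hf))
      (by rw [← hbs, hbsQ]; exact hs0)
      (by rw [← hbs, hxb, hbs]; exact add_mem he ((D i₁).smul_mem s hf)))
  exfalso
  have hxeq : x = rf Q (g.1 p) * rf Q (g.1 q) := by
    rw [hx, ← conj_rf g p, ← conj_rf g q]; simp [mul_assoc]
  rw [hxeq] at hxP
  obtain ⟨a', b', hpa, -⟩ := mem_pair_of_perm hD (by rw [map_form]; exact hp0)
    (by rw [map_form, hqQ]; exact hp0) (fun r e => hij (by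
      rw [← map_smul] at e
      have e' : q = r • p := g.1.injective e
      by_contra hne
      have hq0 := pr_self hD hq.1
      rw [e', pr_smul, pr_other hD hne hp.1, smul_zero] at hq0
      rw [← e'] at hq0
      rw [← hq0, QuadraticMap.map_zero] at hqQ
      exact hp0 hqQ.symm)) hxP
  obtain ⟨l, hla, hlb⟩ := exists_third (by omega : 3 ≤ t) a' b'
  exact block i l p hp.1 (fun e0 => hp0 (by rw [e0, QuadraticMap.map_zero]))
    (pr_of_mem_sup hD hla hlb hpa)

end Cfsg.Agent.OrthDec99
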